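import Cfsg.Agent.Omega.FrameLE
import Cfsg.Agent.Omega.NatPair.Pair

/-!
# THEOREM ALL from `R` TI (OMEGA #13114, #13498)

`V = V_{P₁}` a natural module, `R ≥ Z = Ω₁(Z(S))` its line, `W = O₂(N_G(R)) = ⟨V^{N_G(R)}⟩`, `[W, W] ≤ R`,
`C_G(W) ≤ R`, `C_{W/R}(S ∩ C_G(R)) ≤ V/R`, `V_P ≤ O₂(C_G(Z))` for all `P ∈ P*(S)`, and `R` is a TI-subgroup.
Then every `P ∈ P(S)` lies in `N_G(R)` or in `N_G(V)`.

* `Inp` : the hypotheses; `Mix` : the output of the mixed pair lemma (`All/Mixed.lean`);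
* `Inp.zl_le_W` : `V_P ≤ W` for all `P ∈ P*(S)`;
* `Inp.par_le` : the conclusion.
-/

set_option autoImplicit false

namespace Cfsg.Agent.Omega.All

open Subgroup Cfsg Cfsg.Agent.ZN Cfsg.Agent.Omega.MinPar Cfsg.Agent.Omega.Frame
open Cfsg.Agent.Omega.FrameLE (AllIn)
open Cfsg.Agent.Omega.FrameNOFF (CZ)
open Cfsg.Agent.Omega.NatPair (NatMod cj mem_cj)
open Cfsg.Agent.MinSimple.VModule (le_o2 mem_zc zc_le zc_le_zl zl_le le_normalizer_zl o2_le o2_isPGroup
  le_normalizer_o2 le_centralizer_zc zc_comm normalizer_le_normalizer_zc)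
open Cfsg.Agent.MinSimple.Basic (zc_ne_bot)

universe u

variable {G : Type u} [Group G]

/-- Output of the mixed pair lemma for the natural module `A` and `U = V_P`. -/
def Mix {F : Type*} [Field F] (S U : Subgroup G) {A : Subgroup G} (M : NatMod F A) : Prop :=
  ∃ w : Fin 2 → F, w ≠ 0 ∧ A ⊓ U = M.line w ∧
    (∀ r ∈ A ⊓ U, ∃ a ∈ A, ∃ u ∈ U, a * u * a⁻¹ * u⁻¹ = r) ∧ Nat.card U = Nat.card A ∧
    ∀ s ∈ S, (∀ r ∈ A ⊓ U, s * r = r * s) → ∀ u ∈ U, s * u * s⁻¹ * u⁻¹ ∈ A ⊓ U

/-- The hypotheses of THEOREM ALL. -/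
structure Inp (S V R W : Subgroup G) : Prop where
  allIn : AllIn S
  VS : V ≤ S
  SV : S ≤ normalizer (V : Set G)
  comm : ∀ v ∈ V, ∀ w ∈ V, v * w = w * v
  RV : R ≤ V
  SR : S ≤ normalizer (R : Set G)
  ZR : zc S ≤ R
  ti : ∀ g r : G, r ∈ R → r ≠ 1 → g * r * g⁻¹ ∈ R → g ∈ normalizer (R : Set G)
  W_eq : W = o2 (normalizer (R : Set G))
  W_cen : W ≤ centralizer (R : Set G)
  VW : ∀ h ∈ normalizer (R : Set G), cj h V ≤ W
  W_gen : ∀ X : Subgroup G, (∀ h ∈ normalizer (R : Set G), cj h V ≤ X) → W ≤ X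
  WW : ∀ a ∈ W, ∀ b ∈ W, a * b * a⁻¹ * b⁻¹ ∈ R
  cenW : centralizer (W : Set G) ≤ R
  line : ∀ u ∈ W, (∀ s ∈ S, s ∈ centralizer (R : Set G) → s * u * s⁻¹ * u⁻¹ ∈ R) → u ∈ V

/-- `2`-groups have nontrivial `Ω₁(Z)`; a nontrivial subgroup normalised by `S` meets `zc S`. -/
theorem exists_zc_mem {S X : Subgroup G} [Finite G] (hS : IsPGroup 2 S) (hXS : X ≤ S)
    (hn : S ≤ normalizer (X : Set G)) (h2 : ∀ x ∈ X, x * x = 1) (hne : X ≠ ⊥) : ∃ z ∈ zc S, z ∈ X ∧ z ≠ 1 := by
  have hf : Fact (Nat.Prime 2) := ⟨Nat.prime_two⟩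
  -- the action of `S` on `X`
  let _ : MulAction S X :=
    { smul := fun s x => ⟨s * x * (s : G)⁻¹, (mem_normalizer_iff.1 (hn s.2) x).1 x.2⟩
      one_smul := fun x => Subtype.ext (by
        show ((1 : S) : G) * x * ((1 : S) : G)⁻¹ = x
        simp)
      mul_smul := fun s t x => Subtype.ext (by
        show ((s * t : S) : G) * x * ((s * t : S) : G)⁻¹ = s * (t * x * (t : G)⁻¹) * (s : G)⁻¹
        rw [coe_mul]; group) }
  have hval : ∀ (s : S) (x : X), ((s • x : X) : G) = s * x * (s : G)⁻¹ := fun s x => rfl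
  have hcard : 2 ∣ Nat.card X := by
    have hX : IsPGroup 2 X := hS.to_le hXS
    obtain ⟨n, hn'⟩ := IsPGroup.iff_card.1 hX
    rw [hn']
    have : n ≠ 0 := by
      rintro rfl
      rw [pow_zero] at hn'
      exact hne (Subgroup.card_eq_one.1 hn')
    exact dvd_pow_self 2 this
  have h1 : (1 : X) ∈ MulAction.fixedPoints S X := fun s => Subtype.ext (by rw [hval]; simp)
  obtain ⟨z, hz, hz1⟩ := hS.exists_fixed_point_of_prime_dvd_card_of_fixed_point X hcard h1
  refine ⟨z, mem_zc.2 ⟨hXS z.2, fun s hs => ?_, by rw [pow_two]; exact h2 z z.2⟩, z.2, fun h => hz1 (Subtype.ext h.symm)⟩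
  have h3 := congrArg Subtype.val (hz ⟨s, hs⟩)
  rw [hval] at h3
  calc s * (z : G) = s * z * s⁻¹ * s := by group
    _ = z * s := by rw [h3]

namespace Inp

variable {S V R W : Subgroup G} (I : Inp S V R W)
include I

theorem R_le_S : R ≤ S := I.RV.trans I.VS

/-- `N_G(Z) ≤ N_G(R)` -/
theorem normalizer_zc_le [Finite G] (hZ : zc S ≠ ⊥) : normalizer (zc S : Set G) ≤ normalizer (R : Set G) := by
  intro g hg
  obtain ⟨z, hz1⟩ := Subgroup.ne_bot_iff_exists_ne_one.1 hZ
  exact I.ti g z (I.ZR z.2) (fun h => hz1 (Subtype.ext h)) (I.ZR ((mem_normalizer_iff.1 hg z).1 z.2))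

theorem CZ_le [Finite G] (hZ : zc S ≠ ⊥) : CZ S ≤ normalizer (R : Set G) := by
  refine le_trans ?_ (I.normalizer_zc_le hZ)
  exact centralizer_le_normalizer _

theorem cen_le_CZ : centralizer (R : Set G) ≤ CZ S := centralizer_le I.ZR

/-- `O₂(C_G(Z)) ∩ C_G(R) ≤ W` -/
theorem inf_le_W [Finite G] : o2 (CZ S) ⊓ centralizer (R : Set G) ≤ W := by
  have h0 : centralizer (R : Set G) ≤ normalizer (R : Set G) := centralizer_le_normalizer _
  have hn : normalizer (R : Set G) ≤ normalizer ((centralizer (R : Set G) : Subgroup G) : Set G) := by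
    intro g hg
    rw [mem_normalizer_iff]
    have key : ∀ g ∈ normalizer (R : Set G), ∀ x ∈ centralizer (R : Set G), g * x * g⁻¹ ∈ centralizer (R : Set G) := by
      intro g hg x hx
      rw [mem_centralizer_iff] at hx ⊢
      intro r hr
      have h1 : g⁻¹ * r * g ∈ R := by
        have := (mem_normalizer_iff.1 (inv_mem hg) r).1 hr
        rwa [inv_inv] at this
      have h2 := hx _ h1
      calc r * (g * x * g⁻¹) = g * (g⁻¹ * r * g * x) * g⁻¹ := by group
        _ = g * (x * (g⁻¹ * r * g)) * g⁻¹ := by rw [h2]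
        _ = g * x * g⁻¹ * r := by group
    intro x
    constructor
    · exact key g hg x
    · intro hx
      have := key g⁻¹ (inv_mem hg) _ hx
      have e : g⁻¹ * (g * x * g⁻¹) * g⁻¹⁻¹ = x := by group
      rwa [e] at this
  -- `O₂(C_G(Z)) ∩ C_G(R) ≤ O₂(C_G(R))`
  have h1 : o2 (CZ S) ⊓ centralizer (R : Set G) ≤ o2 (centralizer (R : Set G)) := by
    apply le_o2 inf_le_right ((o2_isPGroup _).to_le inf_le_left)
    intro g hg
    have hg1 : g ∈ normalizer (o2 (CZ S) : Set G) := le_normalizer_o2 _ (I.cen_le_CZ hg)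
    rw [mem_normalizer_iff]
    intro x
    rw [mem_inf, mem_inf]
    exact and_congr (mem_normalizer_iff.1 hg1 x)
      ⟨fun hx => mul_mem (mul_mem hg hx) (inv_mem hg), fun hx => by
        have := mul_mem (mul_mem (inv_mem hg) hx) hg
        have e : g⁻¹ * (g * x * g⁻¹) * g = x := by group
        rwa [e] at this⟩
  -- `O₂(C_G(R)) ≤ O₂(N_G(R)) = W`
  have h2 : o2 (centralizer (R : Set G)) ≤ o2 (normalizer (R : Set G)) := by
    apply le_o2 ((o2_le _).trans h0) (o2_isPGroup _)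
    have key : ∀ g ∈ normalizer (R : Set G), ∀ x ∈ o2 (centralizer (R : Set G)),
        g * x * g⁻¹ ∈ o2 (centralizer (R : Set G)) := by
      intro g hg x hx
      have h3 : (o2 (centralizer (R : Set G))).map (MulAut.conj g).toMonoidHom ≤ o2 (centralizer (R : Set G)) := by
        apply le_o2
        · rintro _ ⟨y, hy, rfl⟩
          exact (mem_normalizer_iff.1 (hn hg) y).1 (o2_le _ hy)
        · exact (o2_isPGroup _).map _
        · intro c hc
          have hc' : g⁻¹ * c * g ∈ centralizer (R : Set G) := by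
            have := (mem_normalizer_iff.1 (inv_mem (hn hg)) c).1 hc
            rwa [inv_inv] at this
          have hc2 := le_normalizer_o2 _ hc'
          rw [mem_normalizer_iff]
          intro y
          change y ∈ cj g _ ↔ c * y * c⁻¹ ∈ cj g _
          rw [mem_cj, mem_cj]
          have e : g⁻¹ * (c * y * c⁻¹) * g = (g⁻¹ * c * g) * (g⁻¹ * y * g) * (g⁻¹ * c * g)⁻¹ := by group
          rw [e]
          exact mem_normalizer_iff.1 hc2 _
      exact h3 ⟨x, hx, rfl⟩
    intro g hg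
    rw [mem_normalizer_iff]
    intro x
    constructor
    · exact key g hg x
    · intro hx
      have := key g⁻¹ (inv_mem hg) _ hx
      have e : g⁻¹ * (g * x * g⁻¹) * g⁻¹⁻¹ = x := by group
      rwa [e] at this
  rw [I.W_eq]
  exact h1.trans h2

/-- `W ≤ O₂(C_G(Z))` -/
theorem W_le_o2 [Finite G] (hZ : zc S ≠ ⊥) : W ≤ o2 (CZ S) := by
  apply le_o2 (I.W_cen.trans I.cen_le_CZ)
  · rw [I.W_eq]; exact o2_isPGroup _
  · refine (I.CZ_le hZ).trans ?_
    have := le_normalizer_o2 (normalizer (R : Set G))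
    rwa [← I.W_eq] at this

end Inp

/-- lines of `V` that meet nontrivially are equal -/
theorem line_eq {F : Type*} [Field F] {V : Subgroup G} (M : NatMod F V) {w w' : Fin 2 → F} {g : G}
    (h1 : g ∈ M.line w) (h2 : g ∈ M.line w') (hg : g ≠ 1) : M.line w = M.line w' := by
  obtain ⟨c, hc⟩ := h1
  obtain ⟨d, hd⟩ := h2
  have hc0 : c ≠ 0 := by
    rintro rfl
    rw [zero_smul, M.e_zero] at hc
    exact hg hc.symm
  have hd0 : d ≠ 0 := by
    rintro rfl
    rw [zero_smul, M.e_zero] at hd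
    exact hg hd.symm
  have h3 : c • w = d • w' := M.e_inj (hc.trans hd.symm)
  ext x
  rw [M.mem_line, M.mem_line]
  constructor
  · rintro ⟨a, rfl⟩
    refine ⟨a * c⁻¹ * d, ?_⟩
    rw [mul_smul, ← h3, smul_smul, mul_assoc, inv_mul_cancel₀ hc0, mul_one]
  · rintro ⟨a, rfl⟩
    refine ⟨a * d⁻¹ * c, ?_⟩
    rw [mul_smul, h3, smul_smul, mul_assoc, inv_mul_cancel₀ hd0, mul_one]

/-- `O₂(C_G(Z)) ≤ S` -/
theorem o2_CZ_le (S : Sylow 2 G) [Finite G] : o2 (CZ (S : Subgroup G)) ≤ (S : Subgroup G) :=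
  le_of_le_normalizer S (o2_isPGroup _) ((le_centralizer_zc _).trans (le_normalizer_o2 _))

/-! ### The theorem -/

section main

variable [Finite G] {F : Type*} [Field F] (S : Sylow 2 G) {V R W : Subgroup G} (I : Inp (S : Subgroup G) V R W)
  (hG : IsCharacteristicTwoType G) (M : NatMod F V) {w₀ : Fin 2 → F} (hR : R = M.line w₀) (hZ : zc (S : Subgroup G) ≠ ⊥)
  (hmix : ∀ P : Subgroup G, IsParS (S : Subgroup G) P → ∀ h ∈ normalizer (R : Set G),
    cj h V ≤ (S : Subgroup G) →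
    NatPair.Mutual (cj h V) (zl (S : Subgroup G) P) → Mix (S : Subgroup G) (zl (S : Subgroup G) P) (M.conj h))
include I hG hR hZ hmix

/-- (ii): `V_P ≤ W` for all `P ∈ P*(S)`. -/
theorem zl_le_W {P : Subgroup G} (hP : IsParS (S : Subgroup G) P) : zl (S : Subgroup G) P ≤ W := by
  set U := zl (S : Subgroup G) P with hU
  have hUQ : U ≤ o2 (CZ (S : Subgroup G)) := I.allIn P hP
  have hUS : U ≤ (S : Subgroup G) := hUQ.trans (o2_CZ_le S)
  have hSU : (S : Subgroup G) ≤ normalizer (U : Set G) := hP.le.trans (le_normalizer_zl _ _)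
  suffices hc : U ≤ centralizer (R : Set G) from (le_inf hUQ hc).trans I.inf_le_W
  by_cases hcom : ∀ v ∈ V, ∀ u ∈ U, v * u = u * v
  · intro u hu
    rw [mem_centralizer_iff]
    exact fun r hr => hcom r (I.RV hr) u hu
  · push Not at hcom
    have hcj1 : cj 1 V = V := NatPair.cj_one V
    have hmut : NatPair.Mutual (cj 1 V) U := by
      rw [hcj1]
      obtain ⟨v, hv, u, hu, hvu⟩ := hcom
      exact ⟨hUS.trans I.SV, I.VS.trans hSU, v, hv, u, hu, hvu⟩
    obtain ⟨w, hw, hl, -, -, -⟩ := hmix P hP 1 (one_mem _) (hcj1.symm ▸ I.VS) hmut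
    have hl' : V ⊓ U = M.line w := by
      have h3 := hl
      rw [NatPair.NatMod.conj_line M 1 w, NatPair.cj_one, NatPair.cj_one] at h3
      exact h3
    -- `V ∩ U` meets `zc S`
    have hne : V ⊓ U ≠ ⊥ := by
      rw [hl']
      intro h
      have h1 : M.e ((1 : F) • w) ∈ M.line w := ⟨1, rfl⟩
      rw [h, mem_bot, one_smul, M.e_eq_one] at h1
      exact hw h1
    obtain ⟨z, hz, hzX, hz1⟩ := exists_zc_mem (S := (S : Subgroup G)) (X := V ⊓ U) S.isPGroup'
      (inf_le_left.trans I.VS) (by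
        intro s hs
        rw [mem_normalizer_iff]
        intro x
        rw [mem_inf, mem_inf]
        exact and_congr (mem_normalizer_iff.1 (I.SV hs) x) (mem_normalizer_iff.1 (hSU hs) x))
      (by
        intro x hx
        rw [← pow_two]
        exact (mem_zc.1 (hP.isLoc.zl_le S hG hx.2)).2.2) hne
    have hVU : V ⊓ U = R := by
      rw [hl', hR]
      refine line_eq M (g := z) ?_ ?_ hz1
      · rw [← hl']; exact hzX
      · rw [← hR]; exact I.ZR hz
    intro u hu
    rw [mem_centralizer_iff]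
    intro r hr
    have hrU : r ∈ U := by
      have : r ∈ V ⊓ U := by rw [hVU]; exact hr
      exact this.2
    exact zc_comm _ _ (hP.isLoc.zl_le S hG hrU) _ (hP.isLoc.zl_le S hG hu)

/-- **THEOREM ALL**: every `P ∈ P(S)` lies in `N_G(R)` or in `N_G(V)`. -/
theorem par_le {P : Subgroup G} (hP : IsPar (S : Subgroup G) P) :
    P ≤ normalizer (R : Set G) ∨ P ≤ normalizer (V : Set G) := by
  by_cases hstar : P ≤ normalizer (zc (S : Subgroup G) : Set G)
  · exact Or.inl (hstar.trans (I.normalizer_zc_le hZ))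
  have hPs : IsParS (S : Subgroup G) P := ⟨hP, hstar⟩
  set U := zl (S : Subgroup G) P with hU
  have hUW : U ≤ W := zl_le_W S I hG M hR hZ hmix hPs
  have hUn : P ≤ normalizer (U : Set G) := le_normalizer_zl _ _
  have hWS : W ≤ (S : Subgroup G) := (I.W_le_o2 hZ).trans (o2_CZ_le S)
  by_cases hcom : ∀ h ∈ normalizer (R : Set G), ∀ a ∈ cj h V, ∀ u ∈ U, a * u = u * a
  · -- `V_P ≤ C_G(W) ≤ R`
    left
    have hUR : U ≤ R := by
      refine le_trans ?_ I.cenW
      intro u hu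
      rw [mem_centralizer_iff]
      have h1 : W ≤ centralizer (U : Set G) := I.W_gen _ fun h hh a ha => by
        rw [mem_centralizer_iff]
        exact fun u hu => (hcom h hh a ha u hu).symm
      intro a ha
      exact ((mem_centralizer_iff.1 (h1 ha)) u hu).symm
    have hne : U ≠ ⊥ := fun h => hZ (le_bot_iff.1 (h ▸ zc_le_zl _ _))
    obtain ⟨u, hu1⟩ := Subgroup.ne_bot_iff_exists_ne_one.1 hne
    intro p hp
    exact I.ti p u (hUR u.2) (fun h => hu1 (Subtype.ext h)) (hUR ((mem_normalizer_iff.1 (hUn hp) u).1 u.2))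
  · right
    push Not at hcom
    obtain ⟨h, hh, a, ha, u, hu, hau⟩ := hcom
    have hVW := I.VW h hh
    -- `R ≤ V^h`
    have hRV : R ≤ cj h V := by
      intro r hr
      rw [mem_cj]
      apply I.RV
      have := (mem_normalizer_iff.1 (inv_mem hh) r).1 hr
      rwa [inv_inv] at this
    have hWn : W ≤ normalizer ((cj h V : Subgroup G) : Set G) := by
      intro x hx
      have key : ∀ x ∈ W, ∀ y ∈ cj h V, x * y * x⁻¹ ∈ cj h V := by
        intro x hx y hy
        have h1 : x * y * x⁻¹ = (x * y * x⁻¹ * y⁻¹) * y := by group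
        rw [h1]
        exact mul_mem (hRV (I.WW x hx y (hVW hy))) hy
      rw [mem_normalizer_iff]
      intro y
      constructor
      · exact key x hx y
      · intro hy
        have := key x⁻¹ (inv_mem hx) _ hy
        have e : x⁻¹ * (x * y * x⁻¹) * x⁻¹⁻¹ = y := by group
        rwa [e] at this
    obtain ⟨w, hw, hl, hfull, hcard, hS⟩ := hmix P hPs h hh (hVW.trans hWS)
      ⟨hUW.trans hWn, (hVW.trans hWS).trans (hPs.le.trans hUn), a, ha, u, hu, hau⟩
    -- `V^h ∩ V_P = R`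
    have hle : cj h V ⊓ U ≤ R := by
      intro r hr
      obtain ⟨b, hb, c, hc, rfl⟩ := hfull r hr
      exact I.WW b (hVW hb) c (hUW hc)
    have hRl : cj h V ⊓ U = R := by
      obtain ⟨x, hx1⟩ := Subgroup.ne_bot_iff_exists_ne_one.1 (show cj h V ⊓ U ≠ ⊥ by
        rw [hl]
        intro h0
        have h1 : (M.conj h).e ((1 : F) • w) ∈ (M.conj h).line w := ⟨1, rfl⟩
        rw [h0, mem_bot, one_smul, (M.conj h).e_eq_one] at h1
        exact hw h1)
      -- `R` is a line of `V^h`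
      have hRh : R = (M.conj h).line w₀ := by
        rw [NatPair.NatMod.conj_line, ← hR]
        exact (NatPair.cj_eq_iff.2 hh).symm
      rw [hl, hRh]
      refine line_eq (M.conj h) (g := (x : G)) ?_ ?_ fun h => hx1 (Subtype.ext h)
      · rw [← hl]; exact x.2
      · rw [← hRh]; exact hle x.2
    -- `V_P ≤ V`
    have hUV : U ≤ V := by
      intro c hc
      apply I.line c (hUW hc)
      intro s hs hsR
      rw [← hRl]
      apply hS s hs _ c hc
      intro r hr
      rw [hRl] at hr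
      exact ((mem_centralizer_iff.1 hsR) r hr).symm
    have hcV : Nat.card (cj h V) = Nat.card V :=
      (Nat.card_congr ((V.equivMapOfInjective _ (MulAut.conj h).injective).toEquiv)).symm
    have hUV' : U = V := Subgroup.eq_of_le_of_card_ge hUV (by rw [hcard, hcV])
    rw [← hUV']
    exact hUn

end main

end Cfsg.Agent.Omega.All
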