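import Cfsg.Agent.Omega.All.DNTen

/-!
# Row `D_n` of LEMMA CC, TYPE II (#13367 helper146)

`typeII`: if `V_r = N ⊗ U`, `V_s = N' ⊗ U'`, `|U'| ≥ 64`, then `s` acts on `V_r` as an element of `1 ⊗ Sp(U)`.
-/

set_option autoImplicit false

namespace Cfsg.Agent.Omega.All.DNTwo

open Cfsg.Agent.Co2Type.Quad Cfsg.Agent.LargeExtra.CC Cfsg.Agent.LargeExtra.CC.Dt Subgroup
open Cfsg.Agent.Omega.All.DN

universe u v

section

variable {G : Type u} [Group G] {Qr Qs : Subgroup G} {r s : G} {P : G → Prop}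
variable {U : Type v} [AddCommGroup U]

/-- `s` as an element of `C(r)` -/
def sC (T : Two Qr Qs r s P) : centralizer ({r} : Set G) := ⟨s, mem_centralizer_singleton_iff.2 T.comm⟩

theorem h_eq (T : Two Qr Qs r s P) (v : T.lr.V) : T.h v = T.lr.act (sC T) v := rfl

theorem sC_sq (T : Two Qr Qs r s P) : sC T * sC T = 1 := Subtype.ext T.ls.z_sq

/-- an involution of `Sym(3)` -/
theorem exists_ij (τ : Equiv.Perm (Fin 3)) (h1 : τ ≠ 1) (h2 : τ * τ = 1) :
    ∃ i j, i ≠ j ∧ τ i = j ∧ τ j = i := by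
  revert τ; decide

theorem comm_cases (τ σ : Equiv.Perm (Fin 3)) (h1 : τ ≠ 1) (h2 : τ * τ = 1) (h3 : σ * τ = τ * σ) :
    σ = 1 ∨ σ = τ := by
  have key : ∀ τ σ : Equiv.Perm (Fin 3), (τ ≠ 1 ∧ τ * τ = 1 ∧ σ * τ = τ * σ) → (σ = 1 ∨ σ = τ) := by decide
  exact key τ σ ⟨h1, h2, h3⟩

variable (T : Two Qr Qs r s P) {e : Fin 3 → U → T.lr.V} (t : Ten T.lr e)

/-- `X_s` in `C(r)` -/
def XX (T : Two Qr Qs r s P) : Subgroup (centralizer ({r} : Set G)) := Qs.subgroupOf _

theorem mem_XX {c : centralizer ({r} : Set G)} : c ∈ XX T ↔ (c : G) ∈ Qs := mem_subgroupOf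

/-- the part of `X_s` acting as `1 ⊗ b` -/
def X0 : Subgroup (centralizer ({r} : Set G)) where
  carrier := {c | c ∈ XX T ∧ t.sg c = 1}
  one_mem' := ⟨one_mem _, t.sg_one⟩
  mul_mem' := by
    rintro a b ⟨ha, ha'⟩ ⟨hb, hb'⟩
    exact ⟨mul_mem ha hb, by rw [t.sg_mul, ha', hb', one_mul]⟩
  inv_mem' := by
    rintro a ⟨ha, ha'⟩
    refine ⟨inv_mem ha, ?_⟩
    have h1 := t.sg_mul a⁻¹ a
    rw [inv_mul_cancel, t.sg_one, ha', mul_one] at h1
    exact h1.symm

theorem mem_X0 {c : centralizer ({r} : Set G)} : c ∈ X0 T t ↔ c ∈ XX T ∧ t.sg c = 1 := Iff.rfl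

theorem comm_s {c : centralizer ({r} : Set G)} (hc : c ∈ XX T) : c * sC T = sC T * c :=
  Subtype.ext (T.ls.comm_z (c : G) hc)

theorem card_XX [Finite G] (hs : t.sg (sC T) ≠ 1) : Nat.card (XX T) ≤ 2 * Nat.card (X0 T t) := by
  classical
  have hss : t.sg (sC T) * t.sg (sC T) = 1 := by rw [← t.sg_mul, sC_sq, t.sg_one]
  have hsX : sC T ∈ XX T := T.ls.z_mem
  have key : ∀ c ∈ XX T, c ∉ X0 T t → c * sC T ∈ X0 T t := by
    intro c hc hc0
    refine ⟨mul_mem hc hsX, ?_⟩
    have h1 : t.sg c * t.sg (sC T) = t.sg (sC T) * t.sg c := by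
      rw [← t.sg_mul, ← t.sg_mul, comm_s T hc]
    rcases comm_cases _ _ hs hss h1 with h2 | h2
    · exact absurd ⟨hc, h2⟩ hc0
    · rw [t.sg_mul, h2, hss]
  have e : 2 * Nat.card (X0 T t) = Nat.card (X0 T t × Bool) := by
    rw [Nat.card_prod, Nat.card_eq_fintype_card (α := Bool), Fintype.card_bool, mul_comm]
  rw [e]
  refine Nat.card_le_card_of_injective (fun c : XX T => if hc : (c : centralizer ({r} : Set G)) ∈ X0 T t then
    ((⟨c, hc⟩ : X0 T t), false) else ((⟨c * sC T, key c c.2 hc⟩ : X0 T t), true)) ?_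
  intro c c' hcc
  simp only at hcc
  split_ifs at hcc with h1 h2 h2
  · exact Subtype.ext (congrArg (fun p : X0 T t × Bool => (p.1 : centralizer ({r} : Set G))) hcc)
  · exact absurd (congrArg Prod.snd hcc) (by simp)
  · exact absurd (congrArg Prod.snd hcc) (by simp)
  · have := congrArg (fun p : X0 T t × Bool => (p.1 : centralizer ({r} : Set G))) hcc
    exact Subtype.ext (mul_right_cancel this)

/-- elements of `X0` acting trivially on `U` lie in `Qr ∩ Qs` -/
theorem card_le_D [Finite G] {Y : Subgroup (centralizer ({r} : Set G))} (hY : Y ≤ X0 T t)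
    (h1 : ∀ y ∈ Y, ∀ u, t.gg y u = u) : Nat.card Y ≤ Nat.card (Qr ⊓ Qs : Subgroup G) := by
  have key : ∀ y ∈ Y, (y : G) ∈ Qr ⊓ Qs := fun y hy =>
    ⟨T.lr.mem_of_act y (t.act_eq_one (hY hy).2 (h1 y hy)), (hY hy).1⟩
  refine Nat.card_le_card_of_injective (fun y : Y => (⟨(y : centralizer ({r} : Set G)), key y y.2⟩ :
    (Qr ⊓ Qs : Subgroup G))) ?_
  intro y y' hyy
  have : ((y : centralizer ({r} : Set G)) : G) = (y' : centralizer ({r} : Set G)) :=
    congrArg (fun x : (Qr ⊓ Qs : Subgroup G) => (x : G)) hyy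
  exact Subtype.ext (Subtype.ext this)

/-- the counting step -/
theorem card_step [Finite G] (n : ℕ) : ∀ (A : AddSubgroup U) (Y : Subgroup (centralizer ({r} : Set G))),
    Y ≤ X0 T t → (∀ y ∈ Y, ∀ u, t.gg y u + u ∈ A) → Nat.card A ≤ 2 ^ n →
      Nat.card Y ≤ 2 ^ (n * (n + 1) / 2) * Nat.card (Qr ⊓ Qs : Subgroup G) := by
  have hUfin : Finite U := t.finite_U
  induction n with
  | zero =>
    intro A Y hY h1 h2
    have hA : ∀ a ∈ A, a = 0 := by
      intro a ha
      have h3 : Subsingleton A := (Finite.card_le_one_iff_subsingleton).1 (by simpa using h2)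
      exact congrArg Subtype.val (Subsingleton.elim (⟨a, ha⟩ : A) 0)
    simp only [Nat.zero_add, zero_mul, Nat.zero_div, pow_zero, one_mul]
    exact card_le_D T t hY fun y hy u => t.add_eq_zero.1 (hA _ (h1 y hy u))
  | succ n ih =>
    intro A Y hY h1 h2
    have hexp : (n + 1) * (n + 1 + 1) / 2 = (n + 1) + n * (n + 1) / 2 := by
      have h3 : (n + 1) * (n + 1 + 1) = (n + 1) * 2 + n * (n + 1) := by ring
      rw [h3, Nat.add_comm, Nat.add_mul_div_right _ _ (by norm_num), Nat.add_comm]
    by_cases hA : ∀ a ∈ A, a = 0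
    · calc Nat.card Y ≤ Nat.card (Qr ⊓ Qs : Subgroup G) :=
          card_le_D T t hY fun y hy u => t.add_eq_zero.1 (hA _ (h1 y hy u))
        _ ≤ 2 ^ ((n + 1) * (n + 1 + 1) / 2) * Nat.card (Qr ⊓ Qs : Subgroup G) :=
          Nat.le_mul_of_pos_left _ (by positivity)
    · push Not at hA
      obtain ⟨a, ha, ha0⟩ := hA
      obtain ⟨w, hw⟩ := t.exists_B ha0
      let Y' : Subgroup (centralizer ({r} : Set G)) :=
        { carrier := {y | y ∈ Y ∧ t.gg y w = w}
          one_mem' := ⟨one_mem _, t.gg_one w⟩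
          mul_mem' := by
            rintro x y ⟨hx, hx'⟩ ⟨hy, hy'⟩
            exact ⟨mul_mem hx hy, by rw [t.gg_mul, hy', hx']⟩
          inv_mem' := by
            rintro x ⟨hx, hx'⟩
            refine ⟨inv_mem hx, ?_⟩
            calc t.gg x⁻¹ w = t.gg x⁻¹ (t.gg x w) := by rw [hx']
              _ = w := t.gg_inv_gg x w }
      let A' : AddSubgroup U :=
        { carrier := {b | b ∈ A ∧ t.B b w = 0}
          zero_mem' := ⟨zero_mem _, t.B_zero_left w⟩
          add_mem' := by
            rintro x y ⟨hx, hx'⟩ ⟨hy, hy'⟩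
            exact ⟨add_mem hx hy, by rw [t.B_add_left, hx', hy', add_zero]⟩
          neg_mem' := by
            rintro x ⟨hx, hx'⟩
            refine ⟨neg_mem hx, ?_⟩
            show t.B (-x) w = 0
            rw [t.neg_eq]; exact hx' }
      have hA' : A' ≤ A := fun b hb => hb.1
      have hlt : 2 * Nat.card A' ≤ Nat.card A := by
        have h3 : Nat.card (A' × Bool) ≤ Nat.card A := by
          refine Nat.card_le_card_of_injective (fun p : A' × Bool =>
            (if p.2 then ⟨(p.1 : U) + a, add_mem (hA' p.1.2) ha⟩ else ⟨p.1, hA' p.1.2⟩ : A)) ?_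
          rintro ⟨b, i⟩ ⟨b', i'⟩ hbb
          cases i <;> cases i' <;> simp only [Bool.false_eq_true, if_false, if_true, Subtype.mk.injEq] at hbb
          · rw [Subtype.ext hbb]
          · exfalso
            have h4 := b.2.2
            rw [hbb, t.B_add_left, b'.2.2, hw] at h4
            exact absurd h4 (by decide)
          · exfalso
            have h4 := b'.2.2
            rw [← hbb, t.B_add_left, b.2.2, hw] at h4
            exact absurd h4 (by decide)
          · rw [Subtype.ext (add_right_cancel hbb)]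
        rwa [Nat.card_prod, Nat.card_eq_fintype_card (α := Bool), Fintype.card_bool, mul_comm] at h3
      have hY'A : ∀ y ∈ Y', ∀ u, t.gg y u + u ∈ A' := by
        rintro y ⟨hy, hyw⟩ u
        refine ⟨h1 y hy u, ?_⟩
        have h4 := t.B_gg y u w
        rw [hyw] at h4
        rw [t.B_add_left, h4]
        exact CharTwo.add_self_eq_zero _
      have hcard' : Nat.card A' ≤ 2 ^ n := by
        have : 2 ^ (n + 1) = 2 * 2 ^ n := by ring
        omega
      have h5 := ih A' Y' (fun y hy => hY hy.1) hY'A hcard'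
      -- `|Y| ≤ |A| |Y'|`
      have h6 : Nat.card Y ≤ Nat.card A * Nat.card Y' := by
        classical
        -- choose a representative for each value
        let f : Y → A := fun y => ⟨t.gg y w + w, h1 y y.2 w⟩
        have hf : ∀ y y' : Y, f y = f y' → ((y : centralizer ({r} : Set G))⁻¹ * y') ∈ Y' := by
          intro y y' hyy
          have h7 : t.gg y w + w = t.gg y' w + w := congrArg Subtype.val hyy
          have h8 : t.gg y w = t.gg y' w := add_right_cancel h7
          refine ⟨mul_mem (inv_mem y.2) y'.2, ?_⟩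
          rw [t.gg_mul, ← h8, t.gg_inv_gg]
        let ρ : A → Y := fun a => if ha : ∃ y, f y = a then ha.choose else 1
        have hρ : ∀ y, f (ρ (f y)) = f y := by
          intro y
          have hex : ∃ y', f y' = f y := ⟨y, rfl⟩
          simp only [ρ, dif_pos hex]
          exact hex.choose_spec
        rw [← Nat.card_prod]
        refine Nat.card_le_card_of_injective (fun y : Y => (f y,
          (⟨((ρ (f y) : Y) : centralizer ({r} : Set G))⁻¹ * y, hf _ _ (hρ y)⟩ : Y'))) ?_
        intro y y' hyy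
        have h7 : f y = f y' := congrArg Prod.fst hyy
        have h8 : ((ρ (f y) : Y) : centralizer ({r} : Set G))⁻¹ * y =
            ((ρ (f y') : Y) : centralizer ({r} : Set G))⁻¹ * y' :=
          congrArg (fun p : A × Y' => (p.2 : centralizer ({r} : Set G))) hyy
        rw [h7] at h8
        exact Subtype.ext (mul_left_cancel h8)
      calc Nat.card Y ≤ Nat.card A * Nat.card Y' := h6
        _ ≤ 2 ^ (n + 1) * (2 ^ (n * (n + 1) / 2) * Nat.card (Qr ⊓ Qs : Subgroup G)) := Nat.mul_le_mul h2 h5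
        _ = 2 ^ ((n + 1) * (n + 1 + 1) / 2) * Nat.card (Qr ⊓ Qs : Subgroup G) := by
          rw [hexp, pow_add 2 (n + 1), mul_assoc]

/-! ### `F = W = ψ(U)` -/

section psi

variable (i j : Fin 3)

/-- `ψ c = e i c + e j (h1 c)` -/
noncomputable def psi (c : U) : T.lr.V := e i c + e j (t.gg (sC T) c)

theorem gg_s_s (c : U) : t.gg (sC T) (t.gg (sC T) c) = c := by
  rw [← t.gg_mul, sC_sq, t.gg_one]

theorem psi_add (c d : U) : psi T t i j (c + d) = psi T t i j c + psi T t i j d := by
  unfold psi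
  rw [t.add, t.gg_add, t.add]; abel

theorem psi_zero : psi T t i j 0 = 0 := by
  unfold psi
  rw [t.gg_zero, t.e_zero, t.e_zero, add_zero]

variable {i j}

theorem psi_inj (hij : i ≠ j) {c d : U} (h : psi T t i j c = psi T t i j d) : c = d := (t.uniq hij h).1

theorem psi_mem_W (hi : t.sg (sC T) i = j) (c : U) : psi T t i j c ∈ T.W := by
  refine ⟨e i c, ?_⟩
  rw [h_eq, t.act_e, hi, add_comm]
  rfl

theorem exists_psi (hij : i ≠ j) (hi : t.sg (sC T) i = j) (hj : t.sg (sC T) j = i) {v : T.lr.V} (hv : v ∈ T.F) :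
    ∃ c, v = psi T t i j c := by
  obtain ⟨a, b, rfl⟩ := t.surj hij v
  rw [T.mem_F, h_eq, map_add, t.act_e, t.act_e, hi, hj, add_comm] at hv
  obtain ⟨h1, h2⟩ := t.uniq hij hv
  exact ⟨a, by rw [psi, h2]⟩

theorem act_psi {y : centralizer ({r} : Set G)} (hy : y ∈ X0 T t) (c : U) :
    T.lr.act y (psi T t i j c) = psi T t i j (t.gg y c) := by
  unfold psi
  rw [map_add, t.act_e, t.act_e, hy.2]
  have h1 : t.gg y (t.gg (sC T) c) = t.gg (sC T) (t.gg y c) := by
    rw [← t.gg_mul, ← t.gg_mul, comm_s T hy.1]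
  rw [h1]; rfl

end psi

/-- the action of `y ∈ C(r)` in the notation of `Two` -/
theorem ac_eq {y : centralizer ({r} : Set G)} (hy : (y : G) * r = r * y) (v : T.lr.V) :
    T.ac hy v = T.lr.act y v := rfl

/-- `|X_s| ≤ 64`, and `|X_s| ≤ 4` if `D~ = 0` -/
theorem card_XX_le [Finite G] (hs : t.sg (sC T) ≠ 1) :
    Nat.card (XX T) ≤ 64 ∧ ((∀ v ∈ T.Dt, v = 0) → Nat.card (XX T) ≤ 4) := by
  have hUfin : Finite U := t.finite_U
  have hss : t.sg (sC T) * t.sg (sC T) = 1 := by rw [← t.sg_mul, sC_sq, t.sg_one]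
  obtain ⟨i, j, hij, hi, hj⟩ := exists_ij _ hs hss
  have h0 := card_XX T t hs
  have hcr : ∀ y : centralizer ({r} : Set G), (y : G) * r = r * y := fun y =>
    mem_centralizer_singleton_iff.1 y.2
  by_cases hD : ∀ v ∈ T.Dt, v = 0
  · -- (i)
    have hD1 : Nat.card (Qr ⊓ Qs : Subgroup G) ≤ 1 := by
      rw [Finite.card_le_one_iff_subsingleton]
      refine ⟨fun x y => ?_⟩
      have key : ∀ x : (Qr ⊓ Qs : Subgroup G), (x : G) = 1 := by
        intro x
        have h1 := hD (T.lr.pr ⟨x, x.2.1⟩) ⟨⟨x, x.2.1⟩, x.2.2, rfl⟩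
        rw [T.lr.pr_eq_zero] at h1
        rcases h1 with h1 | h1
        · exact h1
        · exact absurd (h1 ▸ x.2.2) T.hr
      exact Subtype.ext ((key x).trans (key y).symm)
    let A : AddSubgroup U :=
      { carrier := {a | ∀ c, psi T t i j c ∈ T.Xt → t.B a c = 0}
        zero_mem' := fun c _ => t.B_zero_left c
        add_mem' := fun {a b} ha hb c hc => by rw [t.B_add_left, ha c hc, hb c hc, add_zero]
        neg_mem' := fun {a} ha c hc => by
          rw [t.neg_eq]; exact ha c hc }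
    have hA : ∀ y ∈ X0 T t, ∀ u, t.gg y u + u ∈ A := by
      intro y hy u c hc
      have h1 := T.ac_Xt (y := (y : G)) ((mem_XX T).1 hy.1) (hcr y) hc
      have h2 := hD _ h1
      rw [T.add_eq_zero] at h2
      have h2' : T.lr.act y (psi T t i j c) = psi T t i j c := h2
      rw [act_psi T t hy] at h2'
      have h3 := psi_inj T t hij h2'
      have h4 := t.B_gg y u c
      rw [h3] at h4
      rw [t.B_add_left, h4]
      exact CharTwo.add_self_eq_zero _
    have hA2 : Nat.card A ≤ 2 ^ 1 := by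
      by_cases hX : ∀ c, psi T t i j c ∈ T.Xt
      · have : Subsingleton A := ⟨fun a b => Subtype.ext
          ((t.B_nondeg fun c => a.2 c (hX c)).trans (t.B_nondeg fun c => b.2 c (hX c)).symm)⟩
        exact (Finite.card_le_one_iff_subsingleton.2 this).trans (by norm_num)
      · push Not at hX
        obtain ⟨c0, hc0⟩ := hX
        have hF : ∀ c, psi T t i j c ∈ T.F := fun c => T.W_le_F (psi_mem_W T t hi c)
        have key : ∀ a ∈ A, t.B a c0 = 0 → a = 0 := by
          intro a ha h1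
          apply t.B_nondeg
          intro c
          by_cases hc : psi T t i j c ∈ T.Xt
          · exact ha c hc
          · have h2 := T.add_mem_Xt (hF c) (hF c0) hc hc0
            rw [← psi_add] at h2
            have h3 := ha _ h2
            rwa [t.B_add_right, h1, add_zero] at h3
        have hinj : Function.Injective (fun a : A => t.B a c0) := by
          intro a b hab
          have hab' : t.B a c0 = t.B b c0 := hab
          apply Subtype.ext
          apply t.add_eq_zero.1
          apply key _ (add_mem a.2 b.2)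
          rw [t.B_add_left, hab']
          exact CharTwo.add_self_eq_zero _
        have h1 := Nat.card_le_card_of_injective _ hinj
        simpa using h1
    have h1 := card_step T t 1 A (X0 T t) le_rfl hA hA2
    have e1 : 2 ^ (1 * (1 + 1) / 2) = 2 := by norm_num
    rw [e1] at h1
    have h2 : Nat.card (XX T) ≤ 4 := by omega
    exact ⟨by omega, fun _ => h2⟩
  · refine ⟨?_, fun h => absurd h hD⟩
    push Not at hD
    obtain ⟨δ, hδ, hδ0⟩ := hD
    have hFW : T.F ≤ T.W := by
      intro v hv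
      obtain ⟨c, rfl⟩ := exists_psi T t hij hi hj hv
      exact psi_mem_W T t hi c
    have hδF : δ ∈ T.F := T.Xt_le_F (T.Dt_le_Xt hδ)
    have hFX := T.F_le_Xt hδ (hFW hδF) hδ0
    let A : AddSubgroup U :=
      { carrier := {a | psi T t i j a ∈ T.Dt}
        zero_mem' := by
          show psi T t i j 0 ∈ T.Dt
          rw [psi_zero]; exact zero_mem _
        add_mem' := by
          intro a b ha hb
          show psi T t i j (a + b) ∈ T.Dt
          rw [psi_add]; exact add_mem ha hb
        neg_mem' := by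
          intro a ha
          show psi T t i j (-a) ∈ T.Dt
          rw [t.neg_eq]; exact ha }
    have hA : ∀ y ∈ X0 T t, ∀ u, t.gg y u + u ∈ A := by
      intro y hy u
      have h1 : T.lr.act y (psi T t i j u) + psi T t i j u ∈ T.Dt :=
        T.ac_Xt (y := (y : G)) ((mem_XX T).1 hy.1) (hcr y) (hFX (T.W_le_F (psi_mem_W T t hi u)))
      rw [act_psi T t hy, ← psi_add] at h1
      exact h1
    have hA2 : Nat.card A ≤ 2 ^ 2 := by
      refine le_trans ?_ (card_Dt_le T)
      refine Nat.card_le_card_of_injective (fun a : A => (⟨psi T t i j a, a.2⟩ : T.Dt)) ?_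
      intro a b hab
      exact Subtype.ext (psi_inj T t hij (congrArg Subtype.val hab))
    have h1 := card_step T t 2 A (X0 T t) le_rfl hA hA2
    have e1 : 2 ^ (2 * (2 + 1) / 2) = 8 := by norm_num
    rw [e1] at h1
    have h2 := Dt.card_le T
    omega

/-- `2 |X_s~| ≤ |X_s|` -/
theorem two_card_le [Finite G] : 2 * Nat.card T.symm.Xt ≤ Nat.card (XX T) := by
  classical
  -- a section of `pr`
  have key : ∀ v : T.symm.Xt, ∃ x : Qs, T.ls.pr x = v ∧ (x : G) * r = r * x := by
    rintro ⟨v, hv⟩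
    obtain ⟨x, rfl⟩ := T.ls.pr_surjective v
    exact ⟨x, rfl, (T.symm.pr_mem_Xt x).1 hv⟩
  choose f hf1 hf2 using key
  have e : 2 * Nat.card T.symm.Xt = Nat.card (T.symm.Xt × Bool) := by
    rw [Nat.card_prod, Nat.card_eq_fintype_card (α := Bool), Fintype.card_bool, mul_comm]
  rw [e]
  have hmem : ∀ v : T.symm.Xt, (f v : G) ∈ centralizer ({r} : Set G) := fun v =>
    mem_centralizer_singleton_iff.2 (hf2 v)
  have hprs : ∀ x : Qs, T.ls.pr (x * ⟨s, T.ls.z_mem⟩) = T.ls.pr x := by
    intro x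
    rw [T.ls.pr_eq_pr]
    right; rfl
  refine Nat.card_le_card_of_injective (fun p : T.symm.Xt × Bool =>
    (if p.2 then ⟨⟨f p.1, hmem p.1⟩ * sC T, mul_mem (f p.1).2 T.ls.z_mem⟩ else ⟨⟨f p.1, hmem p.1⟩, (f p.1).2⟩ :
      XX T)) ?_
  rintro ⟨v, i⟩ ⟨w, k⟩ hvw
  have hs1 : s ≠ 1 := T.ls.z_ne
  cases i <;> cases k <;> simp only [Bool.false_eq_true, if_false, if_true] at hvw
  · have h1 : f v = f w := Subtype.ext (congrArg (fun x : XX T => ((x : centralizer ({r} : Set G)) : G)) hvw)
    have h2 : v = w := Subtype.ext (by rw [← hf1, ← hf1, h1])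
    rw [h2]
  · exfalso
    have h1 : (f v : G) = f w * s := congrArg (fun x : XX T => ((x : centralizer ({r} : Set G)) : G)) hvw
    have h2 : f v = f w * ⟨s, T.ls.z_mem⟩ := Subtype.ext h1
    have h3 : v = w := Subtype.ext (by rw [← hf1, ← hf1, h2, hprs])
    rw [h3] at h1
    exact hs1 (by simpa using h1)
  · exfalso
    have h1 : (f v : G) * s = f w := congrArg (fun x : XX T => ((x : centralizer ({r} : Set G)) : G)) hvw
    have h2 : f w = f v * ⟨s, T.ls.z_mem⟩ := Subtype.ext h1.symm
    have h3 : v = w := Subtype.ext (by rw [← hf1, ← hf1, h2, hprs])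
    rw [h3] at h1
    exact hs1 (by simpa using h1)
  · have h1 : (f v : G) * s = f w * s :=
      congrArg (fun x : XX T => ((x : centralizer ({r} : Set G)) : G)) hvw
    have h2 : f v = f w := Subtype.ext (mul_right_cancel h1)
    have h3 : v = w := Subtype.ext (by rw [← hf1, ← hf1, h2])
    rw [h3]

end

/-- **TYPE II is impossible.** -/
theorem typeII {G : Type u} [Group G] [Finite G] {Qr Qs : Subgroup G} {r s : G} {P : G → Prop}
    (T : Two Qr Qs r s P) {U U' : Type v} [AddCommGroup U] [AddCommGroup U']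
    {e : Fin 3 → U → T.lr.V} (t : Ten T.lr e) {e' : Fin 3 → U' → T.ls.V} (t' : Ten T.ls e')
    (hU : 64 ≤ Nat.card U') : t.sg ⟨s, mem_centralizer_singleton_iff.2 T.comm⟩ = 1 := by
  by_contra hs
  have hUfin : Finite U' := t'.finite_U
  obtain ⟨h1, h2⟩ := card_XX_le T t hs
  have h3 := two_card_le T
  have hFX : Nat.card T.symm.F ≤ 2 * Nat.card T.symm.Xt :=
    card_le_two (fun v hv w hw => T.symm.add_mem_Xt hv hw)
  have hFW := T.symm.card_W_F
  have hV : Nat.card T.symm.lr.V = Nat.card U' * Nat.card U' := t'.card_V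
  rw [hV] at hFW
  have hWF : Nat.card T.symm.W ≤ Nat.card T.symm.F :=
    Nat.card_le_card_of_injective _ (Submodule.inclusion_injective T.symm.W_le_F)
  have hUF : Nat.card U' ≤ Nat.card T.symm.F := by
    by_contra hcon
    push Not at hcon
    have h4 : Nat.card T.symm.F * Nat.card T.symm.W < Nat.card U' * Nat.card U' :=
      Nat.mul_lt_mul_of_lt_of_le hcon (hWF.trans hcon.le) (by omega)
    omega
  by_cases hD : ∀ v ∈ T.Dt, v = 0
  · have := h2 hD
    omega
  · have hXU : Nat.card U' ≤ Nat.card T.symm.Xt := by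
      by_cases hle : T.symm.F ≤ T.symm.W
      · -- `D~' ≠ 0`
        push Not at hD
        obtain ⟨δ, ⟨x, hx, rfl⟩, hδ0⟩ := hD
        have hxr : T.ls.pr ⟨x, hx⟩ ∈ T.symm.Dt := ⟨⟨x, hx⟩, x.2, rfl⟩
        have hx0 : T.ls.pr ⟨x, hx⟩ ≠ 0 := by
          intro h4
          rw [T.ls.pr_eq_zero] at h4
          rcases h4 with h4 | h4
          · exact hδ0 (T.lr.pr_eq_zero.2 (Or.inl h4))
          · have h5 : (x : G) = s := h4
            exact T.hs (h5 ▸ x.2)
        have hF := T.symm.Xt_le_F (T.symm.Dt_le_Xt hxr)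
        have h4 := T.symm.F_le_Xt hxr (hle hF) hx0
        exact hUF.trans (Nat.card_le_card_of_injective _ (Submodule.inclusion_injective h4))
      · -- `|F'| ≥ 2 |U'|`
        have hne : T.symm.W < T.symm.F := lt_of_le_not_ge T.symm.W_le_F hle
        have hF := Module.natCard_eq_pow_finrank (K := ZMod 2) (V := T.symm.F)
        have hW := Module.natCard_eq_pow_finrank (K := ZMod 2) (V := T.symm.W)
        rw [Nat.card_zmod] at hF hW
        have hlt := Submodule.finrank_lt_finrank_of_lt hne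
        set f := Module.finrank (ZMod 2) T.symm.F
        set w := Module.finrank (ZMod 2) T.symm.W
        have hUp : Nat.card U' ∣ 2 ^ (f + w) := by
          rw [pow_add, ← hF, ← hW, hFW]
          exact Dvd.intro _ rfl
        obtain ⟨m, -, hm⟩ := (Nat.dvd_prime_pow Nat.prime_two).1 hUp
        have h5 : 2 ^ (f + w) = 2 ^ (m + m) := by
          rw [pow_add, ← hF, ← hW, hFW, hm, pow_add]
        have h6 := Nat.pow_right_injective le_rfl h5
        have h7 : m + 1 ≤ f := by omega
        have h8 : 2 * Nat.card U' ≤ Nat.card T.symm.F := by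
          rw [hm, hF]
          calc 2 * 2 ^ m = 2 ^ (m + 1) := by ring
            _ ≤ 2 ^ f := Nat.pow_le_pow_right (by norm_num) h7
        omega
    omega

end Cfsg.Agent.Omega.All.DNTwo
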