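import Cfsg.Agent.Omega.All.DNOneB
import Cfsg.Agent.Omega.All.DNTwo

/-!
# Row `D_n` of LEMMA CC is dead (#13336 helper298, #13367 helper146; type II helper862)

`r`, `s` commuting conjugates of `z` in different components, `V_r = N ⊗ U`, `V_s = N' ⊗ U'` (`Ten`), `|U| ≥ 64`:
contradiction.
-/

set_option autoImplicit false

namespace Cfsg.Agent.Omega.All.DN

open Cfsg.Agent.Co2Type.Quad Cfsg.Agent.LargeExtra Cfsg.Agent.LargeExtra.CC Subgroup

universe u v

variable {G : Type u} [Group G] {Qr Qs : Subgroup G} {r s : G} {P : G → Prop}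

/-- **THEOREM DN** -/
theorem dn [Finite G] (T : Two Qr Qs r s P) {U : Type v} [AddCommGroup U] {e : Fin 3 → U → T.lr.V}
    (t : Ten T.lr e) {U' : Type v} [AddCommGroup U'] {e' : Fin 3 → U' → T.ls.V} (t' : Ten T.ls e')
    (hU : 64 ≤ Nat.card U) (hU' : 64 ≤ Nat.card U') : False := by
  have h1 : t.sg (cs T) = 1 := DNTwo.typeII T t t' hU'
  have h2 : t'.sg (cs T.symm) = 1 := DNTwo.typeII T.symm t' t hU
  exact typeI T t (e' := e') t' h1 h2 (by omega) (by omega)

end Cfsg.Agent.Omega.All.DN
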