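import Cfsg.Agent.Omega.All.DN

/-!
# Transport of `Ten` to the conjugates of `z`
-/

set_option autoImplicit false

namespace Cfsg.Agent.Omega.All.DN

open Cfsg.Agent.Co2Type.Quad Cfsg.Agent.LargeExtra Cfsg.Agent.LargeExtra.CC Subgroup

universe u v

variable {G : Type u} [Group G] {Q Q' : Subgroup G} {z z' : G}

/-- conjugation `Q → Q'` -/
def cjQ {g : G} (hQ : ∀ x, x ∈ Q → g * x * g⁻¹ ∈ Q') (x : Q) : Q' := ⟨g * x * g⁻¹, hQ x x.2⟩

theorem pr_cjQ_congr (h : Large Q z) (h' : Large Q' z') {g : G} (hz : g * z * g⁻¹ = z')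
    (hQ : ∀ x, x ∈ Q → g * x * g⁻¹ ∈ Q') {x y : Q} (hxy : h.pr x = h.pr y) :
    h'.pr (cjQ hQ x) = h'.pr (cjQ hQ y) := by
  rw [h.pr_eq_pr] at hxy
  rw [h'.pr_eq_pr]
  rcases hxy with h1 | h1
  · left
    show g * (x : G) * g⁻¹ = g * (y : G) * g⁻¹
    rw [h1]
  · right
    show g * (x : G) * g⁻¹ = g * (y : G) * g⁻¹ * z'
    rw [h1, ← hz]; group

/-- the induced map `V → V'` -/
noncomputable def cjV (h : Large Q z) (h' : Large Q' z') {g : G} (hQ : ∀ x, x ∈ Q → g * x * g⁻¹ ∈ Q') (v : h.V) :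
    h'.V := h'.pr (cjQ hQ (Function.surjInv h.pr_surjective v))

section

variable (h : Large Q z) (h' : Large Q' z') {g : G} (hz : g * z * g⁻¹ = z')
  (hQ : ∀ x, x ∈ Q → g * x * g⁻¹ ∈ Q') (hQ' : ∀ x, g * x * g⁻¹ ∈ Q' → x ∈ Q)

include hz in
theorem cjV_pr (x : Q) : cjV h h' hQ (h.pr x) = h'.pr (cjQ hQ x) :=
  pr_cjQ_congr h h' hz hQ (Function.surjInv_eq h.pr_surjective _)

include hz in
theorem cjV_add (v w : h.V) : cjV h h' hQ (v + w) = cjV h h' hQ v + cjV h h' hQ w := by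
  obtain ⟨x, rfl⟩ := h.pr_surjective v
  obtain ⟨y, rfl⟩ := h.pr_surjective w
  rw [← h.pr_mul, cjV_pr h h' hz, cjV_pr h h' hz, cjV_pr h h' hz, ← h'.pr_mul]
  congr 1
  apply Subtype.ext
  show g * ((x : G) * y) * g⁻¹ = g * x * g⁻¹ * (g * y * g⁻¹)
  group

include hz in
theorem cjV_eq_zero {v : h.V} (hv : cjV h h' hQ v = 0) : v = 0 := by
  obtain ⟨x, rfl⟩ := h.pr_surjective v
  rw [cjV_pr h h' hz, h'.pr_eq_zero] at hv
  rw [h.pr_eq_zero]
  rcases hv with h1 | h1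
  · left
    have h2 : g * (x : G) * g⁻¹ = 1 := h1
    calc (x : G) = g⁻¹ * (g * x * g⁻¹) * g := by group
      _ = 1 := by rw [h2]; group
  · right
    have h2 : g * (x : G) * g⁻¹ = z' := h1
    calc (x : G) = g⁻¹ * (g * x * g⁻¹) * g := by group
      _ = z := by rw [h2, ← hz]; group

include hz hQ' in
theorem cjV_surj (v : h'.V) : ∃ w, cjV h h' hQ w = v := by
  obtain ⟨x, rfl⟩ := h'.pr_surjective v
  have hx : g⁻¹ * (x : G) * g ∈ Q := hQ' _ (by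
    have e : g * (g⁻¹ * (x : G) * g) * g⁻¹ = x := by group
    rw [e]; exact x.2)
  refine ⟨h.pr ⟨_, hx⟩, ?_⟩
  rw [cjV_pr h h' hz]
  congr 1
  apply Subtype.ext
  show g * (g⁻¹ * (x : G) * g) * g⁻¹ = x
  group

include hz in
theorem q_cjV (v : h.V) : h'.q (cjV h h' hQ v) = h.q v := by
  obtain ⟨x, rfl⟩ := h.pr_surjective v
  rw [cjV_pr h h' hz]
  rcases h.sq x x.2 with h1 | h1
  · rw [h.q_eq_zero.2 h1, h'.q_eq_zero]
    show g * (x : G) * g⁻¹ * (g * x * g⁻¹) = 1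
    calc g * (x : G) * g⁻¹ * (g * x * g⁻¹) = g * (x * x) * g⁻¹ := by group
      _ = 1 := by rw [h1]; group
  · rw [h.q_eq_one.2 h1, h'.q_eq_one]
    show g * (x : G) * g⁻¹ * (g * x * g⁻¹) = z'
    calc g * (x : G) * g⁻¹ * (g * x * g⁻¹) = g * (x * x) * g⁻¹ := by group
      _ = z' := by rw [h1, hz]

include hz in
theorem act_cjV {c : centralizer ({z} : Set G)} {c' : centralizer ({z'} : Set G)} (hc : (c' : G) = g * c * g⁻¹)
    (v : h.V) : h'.act c' (cjV h h' hQ v) = cjV h h' hQ (h.act c v) := by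
  obtain ⟨x, rfl⟩ := h.pr_surjective v
  rw [cjV_pr h h' hz, h.act_pr, h'.act_pr, cjV_pr h h' hz]
  congr 1
  apply Subtype.ext
  show (c' : G) * (g * (x : G) * g⁻¹) * (c' : G)⁻¹ = g * (c * x * (c : G)⁻¹) * g⁻¹
  rw [hc]; group

end

/-- **transport of the tensor structure** -/
theorem Ten.conj {h : Large Q z} {U : Type v} [AddCommGroup U] {e : Fin 3 → U → h.V} (t : Ten h e) (h' : Large Q' z')
    {g : G} (hz : g * z * g⁻¹ = z') (hQ : ∀ x, x ∈ Q → g * x * g⁻¹ ∈ Q') (hQ' : ∀ x, g * x * g⁻¹ ∈ Q' → x ∈ Q) :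
    Ten h' (fun i u => cjV h h' hQ (e i u)) where
  add := fun i u u' => by rw [t.add, cjV_add h h' hz]
  sum := fun u => by
    rw [← cjV_add h h' hz, ← cjV_add h h' hz, t.sum]
    have := cjV_add h h' hz hQ 0 0
    rw [add_zero] at this
    exact left_eq_add.1 this
  inj01 := fun a b hab => by
    rw [← cjV_add h h' hz] at hab
    exact t.inj01 a b (cjV_eq_zero h h' hz hQ hab)
  surj01 := fun v => by
    obtain ⟨w, rfl⟩ := cjV_surj h h' hz hQ hQ' v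
    obtain ⟨a, b, rfl⟩ := t.surj01 w
    exact ⟨a, b, cjV_add h h' hz hQ _ _⟩
  q_e := fun i u => by rw [q_cjV h h' hz, t.q_e]
  act_ex := fun c' => by
    have hc' : (c' : G) * z' = z' * c' := mem_centralizer_singleton_iff.1 c'.2
    have hc : g⁻¹ * (c' : G) * g ∈ centralizer ({z} : Set G) := by
      rw [mem_centralizer_singleton_iff]
      calc g⁻¹ * (c' : G) * g * z = g⁻¹ * (c' * (g * z * g⁻¹)) * g := by group
        _ = g⁻¹ * (g * z * g⁻¹ * c') * g := by rw [hz, hc']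
        _ = z * (g⁻¹ * (c' : G) * g) := by group
    obtain ⟨σ, f, h1⟩ := t.act_ex ⟨_, hc⟩
    refine ⟨σ, f, fun i u => ?_⟩
    rw [act_cjV h h' hz hQ (c := ⟨_, hc⟩) (by show (c' : G) = g * (g⁻¹ * (c' : G) * g) * g⁻¹; group), h1]
  th_ex := by
    obtain ⟨c, σ, h1, h2, h3⟩ := t.th_ex
    have hcz : (c : G) * z = z * c := mem_centralizer_singleton_iff.1 c.2
    have hc : g * (c : G) * g⁻¹ ∈ centralizer ({z'} : Set G) := by
      rw [mem_centralizer_singleton_iff, ← hz]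
      calc g * (c : G) * g⁻¹ * (g * z * g⁻¹) = g * (c * z) * g⁻¹ := by group
        _ = g * z * g⁻¹ * (g * (c : G) * g⁻¹) := by rw [hcz]; group
    exact ⟨⟨_, hc⟩, σ, h1, h2, fun i u => by rw [act_cjV h h' hz hQ (c := c) rfl, h3]⟩
  nt := t.nt

/-- **THEOREM DN**, all conjugates of `z`: `Q_x` = the large extraspecial subgroup of `x`, `g_x` conjugates `(z, Q)` to
`(r, Q_r)` and `(s, Q_s)`. -/
theorem dn_conj [Finite G] {h : Large Q z} {U : Type v} [AddCommGroup U] {e : Fin 3 → U → h.V} (t : Ten h e)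
    (hU : 64 ≤ Nat.card U) {Qr Qs : Subgroup G} {r s : G} {P : G → Prop} (T : Two Qr Qs r s P) {g k : G}
    (hr : g * z * g⁻¹ = r) (hQr : ∀ x, x ∈ Q → g * x * g⁻¹ ∈ Qr) (hQr' : ∀ x, g * x * g⁻¹ ∈ Qr → x ∈ Q)
    (hs : k * z * k⁻¹ = s) (hQs : ∀ x, x ∈ Q → k * x * k⁻¹ ∈ Qs) (hQs' : ∀ x, k * x * k⁻¹ ∈ Qs → x ∈ Q) : False :=
  dn T (t.conj T.lr hr hQr hQr') (t.conj T.ls hs hQs hQs') hU hU

end Cfsg.Agent.Omega.All.DN
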