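import Cfsg.Agent.Omega.All.DNTen

/-!
# Row `D_n` of LEMMA CC: type I (#13336 (A), (C))

`s` acts on `V_r = N ⊗ U` as `1 ⊗ h`, `r` acts on `V_s` as `1 ⊗ h'`: contradiction.
-/

set_option autoImplicit false

namespace Cfsg.Agent.Omega.All.DN

open Cfsg.Agent.Co2Type.Quad Cfsg.Agent.LargeExtra Cfsg.Agent.LargeExtra.CC Subgroup
open Cfsg.Agent.LargeExtra.KillSiegel

universe u v w

variable {G : Type u} [Group G] {Qr Qs : Subgroup G} {r s : G} {P : G → Prop}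

/-- `s` as an element of `C(r)` -/
def cs (T : Two Qr Qs r s P) : centralizer ({r} : Set G) := ⟨s, mem_centralizer_singleton_iff.2 T.comm⟩

theorem h_eq (T : Two Qr Qs r s P) : T.h = T.lr.act (cs T) := rfl

/-! ### general facts -/

/-- `X̃^⊥ ≤ X̃` if `q = 0` on `W` -/
theorem perp_Xt [Finite G] (T : Two Qr Qs r s P) (hq : ∀ w ∈ T.W, T.lr.q w = 0) {f : T.lr.V}
    (hf : ∀ v ∈ T.Xt, T.lr.b f v = 0) : f ∈ T.Xt := by
  have hWX : T.W ≤ T.Xt := fun w hw => T.mem_Xt_of_q hw (hq w hw)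
  have heF : f ∈ T.F := T.mem_F_of fun w hw => by rw [T.lr.b_comm]; exact hf w (hWX hw)
  by_contra hcon
  apply hcon
  apply hWX
  apply T.mem_W_of
  intro v hv
  by_cases hvX : v ∈ T.Xt
  · rw [T.lr.b_comm]; exact hf v hvX
  · have h1 := T.add_mem_Xt hv heF hvX hcon
    have h2 := hf _ h1
    rw [map_add, T.lr.b_self, add_zero, T.lr.b_comm] at h2
    exact h2

/-- **(A)** -/
theorem caseA [Finite G] (T : Two Qr Qs r s P) (hq : ∀ w ∈ T.W, T.lr.q w = 0) (hF : ¬ T.F ≤ T.Xt) {y y' : G}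
    (hy : y ∈ Qs) (hy' : y' ∈ Qs) (hyr : y * r = r * y) (hyr' : y' * r = r * y') (hne : y * y' ≠ y' * y) :
    False := by
  have h0 : ∀ δ ∈ T.Dt, δ ∈ T.W → δ = 0 := by
    intro δ h1 h2
    by_contra h3
    exact hF (T.F_le_Xt h1 h2 h3)
  have hpF : ∀ u, (∀ d ∈ T.Dt, T.lr.b u d = 0) → u ∈ T.F := fun u hu =>
    T.add_eq_zero.1 (h0 _ (T.perp_mem_Dt hq hy hy' hyr hyr' hne hu) ⟨u, rfl⟩)
  have hWD : T.W ≤ T.Dt := by
    intro w hw
    apply Perp.mem_of_perp T.lr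
    intro v hv
    have := T.b_W_F hw (hpF v fun d hd => by rw [T.lr.b_comm]; exact hv d hd)
    rwa [T.lr.b_comm] at this
  obtain ⟨u, hu⟩ := T.W_ne
  exact hu (T.add_eq_zero.1 (h0 _ (hWD ⟨u, rfl⟩) ⟨u, rfl⟩))

/-- noncommuting elements of `X_s` from the form -/
theorem exists_noncomm (T : Two Qr Qs r s P) {v w : T.symm.lr.V} (hv : v ∈ T.symm.Xt) (hw : w ∈ T.symm.Xt)
    (hb : T.symm.lr.b v w = 1) :
    ∃ y ∈ Qs, ∃ y' ∈ Qs, y * r = r * y ∧ y' * r = r * y' ∧ y * y' ≠ y' * y := by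
  obtain ⟨y, rfl⟩ := T.symm.lr.pr_surjective v
  obtain ⟨y', rfl⟩ := T.symm.lr.pr_surjective w
  rw [T.symm.pr_mem_Xt] at hv hw
  refine ⟨y, y.2, y', y'.2, hv, hw, fun h => ?_⟩
  rw [(T.symm.lr.b_pr y y').2 h] at hb
  exact zero_ne_one hb

/-! ### type I -/

section typeI

variable (T : Two Qr Qs r s P) {U : Type v} [AddCommGroup U] {e : Fin 3 → U → T.lr.V} (t : Ten T.lr e)
  (hs : t.sg (cs T) = 1)
include hs

theorem h_e (i : Fin 3) (u : U) : T.h (e i u) = e i (t.gg (cs T) u) := by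
  rw [h_eq, t.act_e, hs]
  rfl

theorem hh_e (u : U) : t.gg (cs T) (t.gg (cs T) u) = u := by
  have h1 := T.hh (e 0 u)
  rw [h_e T t hs, h_e T t hs] at h1
  exact t.inj1 h1

theorem mem_F_e {i : Fin 3} {u : U} : e i u ∈ T.F ↔ t.gg (cs T) u = u := by
  rw [T.mem_F, h_e T t hs]
  exact ⟨fun h => t.inj1 h, fun h => by rw [h]⟩

theorem q_W_zero : ∀ w ∈ T.W, T.lr.q w = 0 := by
  rintro _ ⟨u, rfl⟩
  obtain ⟨a, b, rfl⟩ := t.surj01 u
  have e1 : T.h (e 0 a + e 1 b) + (e 0 a + e 1 b) =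
      e 0 (t.gg (cs T) a + a) + e 1 (t.gg (cs T) b + b) := by
    rw [map_add, h_e T t hs, h_e T t hs, t.add, t.add]; abel
  rw [e1, T.lr.q_add', t.q_e, t.q_e, zero_add, zero_add, t.b_ne (by decide), t.B_add_left, t.B_add_right,
    t.B_add_right, t.B_gg]
  have h1 : t.B (t.gg (cs T) a) b = t.B a (t.gg (cs T) b) := by
    rw [← t.B_gg (cs T), hh_e T t hs]
  rw [h1]
  have : ∀ x y : ZMod 2, x + y + (y + x) = 0 := by decide
  exact this _ _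

/-- the commutator space in coordinates: an element `e i u ∈ F - W` has a mate -/
theorem exists_mate_e [Finite G] {i : Fin 3} {u : U} (hu : t.gg (cs T) u = u) (hW : e i u ∉ T.W) :
    ∃ c, t.gg (cs T) c = c ∧ t.B u c = 1 := by
  by_contra hcon
  push Not at hcon
  apply hW
  apply T.mem_W_of
  intro v hv
  obtain ⟨j, hj⟩ : ∃ j : Fin 3, i ≠ j := (by decide : ∀ i : Fin 3, ∃ j : Fin 3, i ≠ j) i
  obtain ⟨a, b, rfl⟩ := t.surj hj v
  rw [T.mem_F, map_add, h_e T t hs, h_e T t hs] at hv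
  obtain ⟨-, hb⟩ := t.uniq hj hv
  rw [map_add, LinearMap.add_apply, t.b_same, zero_add, T.lr.b_comm, t.b_ne hj]
  have : ∀ x : ZMod 2, x ≠ 1 → x = 0 := by decide
  exact this _ (hcon b hb)

/-- `F ≠ Xt`: there are noncommuting elements in `X_r` -/
theorem exists_pair [Finite G] (hF : ¬ T.F ≤ T.Xt) : ∃ v ∈ T.Xt, ∃ w ∈ T.Xt, T.lr.b v w = 1 := by
  have hq := q_W_zero T t hs
  have hWX : T.W ≤ T.Xt := fun w hw => T.mem_Xt_of_q hw (hq w hw)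
  -- `a ∈ C_U(h) - [U, h]`, `c` a mate
  obtain ⟨a, c, ha, hc, hac⟩ : ∃ a c, t.gg (cs T) a = a ∧ t.gg (cs T) c = c ∧ t.B a c = 1 := by
    obtain ⟨v, hv, hvX⟩ := SetLike.not_le_iff_exists.1 hF
    obtain ⟨a, b, rfl⟩ := t.surj01 v
    have hv' := hv
    rw [T.mem_F, map_add, h_e T t hs, h_e T t hs] at hv'
    obtain ⟨ha, hb⟩ := t.uniq (by decide) hv'
    by_cases h1 : e 0 a ∈ T.W
    · by_cases h2 : e 1 b ∈ T.W
      · exact absurd (hWX (T.W.add_mem h1 h2)) hvX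
      · obtain ⟨c, hc, hbc⟩ := exists_mate_e T t hs hb h2
        exact ⟨b, c, hb, hc, hbc⟩
    · obtain ⟨c, hc, hac⟩ := exists_mate_e T t hs ha h1
      exact ⟨a, c, ha, hc, hac⟩
  have hFe : ∀ i u, t.gg (cs T) u = u → e i u ∈ T.F := fun i u hu => (mem_F_e T t hs).2 hu
  -- some `e i u ∈ Xt`
  have hex : ∀ u, t.gg (cs T) u = u → ∃ i, e i u ∈ T.Xt := by
    intro u hu
    by_cases h0 : e 0 u ∈ T.Xt
    · exact ⟨0, h0⟩
    by_cases h1 : e 1 u ∈ T.Xt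
    · exact ⟨1, h1⟩
    refine ⟨2, ?_⟩
    rw [← t.third (i := 0) (j := 1) (by decide) (by decide) (by decide)]
    exact T.add_mem_Xt (hFe 0 u hu) (hFe 1 u hu) h0 h1
  obtain ⟨i, hi⟩ := hex a ha
  obtain ⟨j, hj⟩ := hex c hc
  by_cases hij : i = j
  · subst hij
    obtain ⟨k, hk⟩ : ∃ k : Fin 3, i ≠ k := (by decide : ∀ i : Fin 3, ∃ k : Fin 3, i ≠ k) i
    by_cases h1 : e k a ∈ T.Xt
    · exact ⟨_, h1, _, hj, by rw [t.b_ne hk.symm, hac]⟩
    by_cases h2 : e k c ∈ T.Xt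
    · exact ⟨_, hi, _, h2, by rw [t.b_ne hk, hac]⟩
    have h3 := T.add_mem_Xt (hFe k a ha) (hFe k c hc) h1 h2
    rw [← t.add] at h3
    exact ⟨_, hi, _, h3, by rw [t.b_ne hk, t.B_add_right, t.B_self, zero_add, hac]⟩
  · exact ⟨_, hi, _, hj, by rw [t.b_ne hij, hac]⟩

end typeI

/-- **(C2)** -/
theorem caseC2 [Finite G] (T : Two Qr Qs r s P) {U : Type v} [AddCommGroup U] {e : Fin 3 → U → T.lr.V}
    (t : Ten T.lr e) {U' : Type w} [AddCommGroup U'] {e' : Fin 3 → U' → T.symm.lr.V} (t' : Ten T.symm.lr e')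
    (hs : t.sg (cs T) = 1) (hr : t'.sg (cs T.symm) = 1) (h1 : ¬ T.F ≤ T.Xt) (h2 : ¬ T.symm.F ≤ T.symm.Xt) :
    False := by
  obtain ⟨v, hv, w, hw, hb⟩ := exists_pair T.symm t' hr h2
  obtain ⟨y, hy, y', hy', k1, k2, k3⟩ := exists_noncomm T hv hw hb
  exact caseA T (q_W_zero T t hs) h1 hy hy' k1 k2 k3

end Cfsg.Agent.Omega.All.DN
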