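import Cfsg.Agent.Omega.All.DNOne

/-!
# Row `D_n` of LEMMA CC: type I, (C1) of #13336
-/

set_option autoImplicit false

namespace Cfsg.Agent.Omega.All.DN

open Cfsg.Agent.Co2Type.Quad Cfsg.Agent.LargeExtra Cfsg.Agent.LargeExtra.CC Subgroup
open Cfsg.Agent.LargeExtra.KillSiegel

universe u v w

variable {G : Type u} [Group G] {Qr Qs : Subgroup G} {r s : G} {P : G → Prop}

/-! ### small facts -/

theorem card_le_of_hom {A B : Type*} [AddGroup A] [AddGroup B] [Finite A] [Finite B] (f : A →+ B) :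
    Nat.card A ≤ Nat.card B * Nat.card f.ker := by
  rw [AddSubgroup.card_eq_card_quotient_mul_card_addSubgroup f.ker]
  exact Nat.mul_le_mul_right _ (Nat.card_le_card_of_injective _ (QuotientAddGroup.kerLift_injective f))

theorem card_range_mul {A : Type*} [AddGroup A] (f : A →+ A) :
    Nat.card A = Nat.card f.range * Nat.card f.ker := by
  rw [AddSubgroup.card_eq_card_quotient_mul_card_addSubgroup f.ker]
  congr 1
  exact Nat.card_congr (QuotientAddGroup.quotientKerEquivRange f).toEquiv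

theorem three_le {A : Type*} [AddCommGroup A] [Finite A] {K : AddSubgroup A} {a b : A} (ha : a ∈ K) (hb : b ∈ K)
    (h1 : a ≠ 0) (h2 : b ≠ 0) (h3 : a ≠ b) : 2 < Nat.card K := by
  classical
  have h4 : ({0, a, b} : Set A).ncard = 3 := by
    rw [Set.ncard_eq_toFinset_card']
    simp [h1.symm, h2.symm, h3]
  have h5 : ({0, a, b} : Set A).ncard ≤ (K : Set A).ncard := by
    apply Set.ncard_le_ncard _ (Set.toFinite _)
    rintro x (rfl | rfl | rfl)
    · exact K.zero_mem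
    · exact ha
    · exact hb
  have h6 : (K : Set A).ncard = Nat.card K := rfl
  omega

theorem eq_of_card {A : Type*} [AddCommGroup A] [Finite A] {K L : AddSubgroup A} (h : K ≤ L)
    (hL : Nat.card L ≤ 4) (hK : 2 < Nat.card K) : K = L := by
  obtain ⟨c, hc⟩ := AddSubgroup.card_dvd_of_le h
  have hpos : 0 < Nat.card L := Nat.card_pos
  have hc1 : c = 1 := by
    rcases c with - | c
    · omega
    · rcases c with - | c
      · rfl
      · exfalso
        have : Nat.card K * (c + 1 + 1) = Nat.card K * c + 2 * Nat.card K := by ring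
        omega
  rw [hc1, mul_one] at hc
  exact AddSubgroup.eq_of_le_of_card_ge h hc.le

/-! ### the element of order 3 -/

theorem cyc3 : ∀ ω : Equiv.Perm (Fin 3), ω ≠ 1 → ω * ω * ω = 1 → ∀ i, i ≠ ω i ∧ i ≠ ω (ω i) ∧ ω i ≠ ω (ω i) := by
  decide

theorem four_two : ∀ c : Equiv.Perm (Fin 3), c * c * (c * c) = 1 → Equiv.Perm.sign c = 1 → c = 1 := by decide

theorem comm4 (a b : Equiv.Perm (Fin 3)) (h : (a * b * a⁻¹ * b⁻¹) * (a * b * a⁻¹ * b⁻¹) *
    ((a * b * a⁻¹ * b⁻¹) * (a * b * a⁻¹ * b⁻¹)) = 1) : a * b * a⁻¹ * b⁻¹ = 1 := by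
  refine four_two _ h ?_
  rw [map_mul, map_mul, map_mul, map_inv, map_inv, mul_right_comm _ _ (Equiv.Perm.sign a)⁻¹, mul_inv_cancel, one_mul,
    mul_inv_cancel]

theorem sg_inv {Q : Subgroup G} {z : G} {h : Large Q z} {U : Type v} [AddCommGroup U] {e : Fin 3 → U → h.V}
    (t : Ten h e) (c : centralizer ({z} : Set G)) : t.sg c⁻¹ = (t.sg c)⁻¹ := by
  rw [eq_inv_iff_mul_eq_one, ← t.sg_mul, inv_mul_cancel, t.sg_one]

/-- `F ≤ Xt`: an element of order 3 acting as `ω ⊗ 1` on `V_r` commutes with `s`. -/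
theorem exists_theta [Finite G] (T : Two Qr Qs r s P) {U : Type v} [AddCommGroup U] {e : Fin 3 → U → T.lr.V}
    (t : Ten T.lr e) (hs : t.sg (cs T) = 1) (hF : T.F ≤ T.Xt) :
    ∃ θ : G, θ * θ * θ = 1 ∧ θ * s = s * θ ∧ ∃ h : θ * r = r * θ,
      t.sg ⟨θ, mem_centralizer_singleton_iff.2 h⟩ ≠ 1 ∧ ∀ u, t.gg ⟨θ, mem_centralizer_singleton_iff.2 h⟩ u = u := by
  obtain ⟨θ, h3, hω, hω3, hg⟩ := t.exists_th
  set ω := t.sg θ with hωdef
  have hcyc := cyc3 ω hω hω3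
  set Θ := T.lr.act θ with hΘ
  have hΘe : ∀ i u, Θ (e i u) = e (ω i) u := fun i u => by rw [hΘ, t.act_e, hg]
  -- `v + Θ v + Θ² v = 0`
  have hsum : ∀ v, Θ (Θ v) + v = Θ v := by
    have h1 : ∀ i u, Θ (Θ (e i u)) + e i u = Θ (e i u) := by
      intro i u
      obtain ⟨k1, k2, k3⟩ := hcyc i
      rw [hΘe, hΘe]
      exact t.third k2.symm k3.symm k1 u
    intro v
    obtain ⟨a, b, rfl⟩ := t.surj01 v
    rw [map_add, map_add, add_add_add_comm, h1, h1]
  have hcomm : ∀ v, T.h (Θ v) = Θ (T.h v) := by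
    have h1 : ∀ i u, T.h (Θ (e i u)) = Θ (T.h (e i u)) := by
      intro i u
      rw [hΘe, h_e T t hs, h_e T t hs, hΘe]
    intro v
    obtain ⟨a, b, rfl⟩ := t.surj01 v
    rw [map_add, map_add, map_add, map_add, h1, h1]
  have hθr : (θ : G) * r = r * θ := mem_centralizer_singleton_iff.1 θ.2
  -- `c = θ s θ⁻¹ s⁻¹`
  have hcQ : (θ * cs T * θ⁻¹ * (cs T)⁻¹ : centralizer ({r} : Set G)).1 ∈ Qr := by
    apply T.lr.mem_of_act
    have h1 : T.lr.act θ * T.lr.act (cs T) = T.lr.act (cs T) * T.lr.act θ := by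
      ext v
      exact (hcomm v).symm
    rw [map_mul, map_mul, map_mul, map_inv, map_inv, h1]
    group
  have hcQ' : (θ : G) * s * (θ : G)⁻¹ * s⁻¹ ∈ Qr := hcQ
  let c : Qr := ⟨(θ : G) * s * (θ : G)⁻¹ * s⁻¹, hcQ'⟩
  -- `c̃ ∈ W`
  have hΘinv : ∀ v, v ∈ T.F → T.lr.act θ⁻¹ v ∈ T.F := by
    intro v hv
    have h1 : Θ (T.lr.act θ⁻¹ v) = v := by
      rw [hΘ]
      have : T.lr.act (θ * θ⁻¹) v = v := by rw [mul_inv_cancel, map_one]; rfl
      rwa [map_mul] at this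
    rw [T.mem_F]
    apply Θ.injective
    rw [← hcomm, h1, T.mem_F.1 hv]
  have hcW : T.lr.pr c ∈ T.W := by
    apply T.mem_W_of
    intro v hv
    have h1 := hΘinv v hv
    obtain ⟨g, rfl⟩ := T.lr.pr_surjective v
    have k1 := (T.pr_mem_Xt g).1 (hF hv)
    have k2 := hF h1
    rw [T.lr.act_pr, T.pr_mem_Xt] at k2
    have k3 : ((θ⁻¹ : centralizer ({r} : Set G)) : G) * g * ((θ⁻¹ : centralizer ({r} : Set G)) : G)⁻¹ * s =
        s * (((θ⁻¹ : centralizer ({r} : Set G)) : G) * g * ((θ⁻¹ : centralizer ({r} : Set G)) : G)⁻¹) := k2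
    have k4 : (θ : G)⁻¹ * g * θ * s = s * ((θ : G)⁻¹ * g * θ) := by
      have e1 : ((θ⁻¹ : centralizer ({r} : Set G)) : G) = (θ : G)⁻¹ := rfl
      rw [e1, inv_inv] at k3
      exact k3
    rw [T.lr.b_pr]
    show (g : G) * ((θ : G) * s * (θ : G)⁻¹ * s⁻¹) = (θ : G) * s * (θ : G)⁻¹ * s⁻¹ * g
    have k5 : (g : G) * ((θ : G) * s * (θ : G)⁻¹) = (θ : G) * s * (θ : G)⁻¹ * g := by
      calc (g : G) * ((θ : G) * s * (θ : G)⁻¹) = θ * ((θ : G)⁻¹ * g * θ * s) * (θ : G)⁻¹ := by group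
        _ = θ * (s * ((θ : G)⁻¹ * g * θ)) * (θ : G)⁻¹ := by rw [k4]
        _ = (θ : G) * s * (θ : G)⁻¹ * g := by group
    have k6 : (g : G) * s⁻¹ = s⁻¹ * g := by
      rw [eq_inv_mul_iff_mul_eq, ← mul_assoc, ← k1, mul_inv_cancel_right]
    calc (g : G) * ((θ : G) * s * (θ : G)⁻¹ * s⁻¹) = (g * ((θ : G) * s * (θ : G)⁻¹)) * s⁻¹ := by group
      _ = (θ : G) * s * (θ : G)⁻¹ * (g * s⁻¹) := by rw [k5]; group
      _ = (θ : G) * s * (θ : G)⁻¹ * s⁻¹ * g := by rw [k6]; group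
  -- `x = θ c θ⁻¹`
  let x : Qr := T.lr.conjQ θ c
  have hx : T.lr.pr x = Θ (T.lr.pr c) := (T.lr.act_pr θ c).symm
  have hxW : T.lr.pr x ∈ T.W := by
    obtain ⟨u, hu⟩ := hcW
    exact ⟨Θ u, by rw [hx, ← hu, map_add, hcomm]⟩
  obtain ⟨y, hy⟩ := hxW
  obtain ⟨y, rfl⟩ := T.lr.pr_surjective y
  -- `θ` commutes with `x s`
  have hrs : r * s = s * r := T.comm.symm
  have hfix : (θ : G) * (x * s) = x * s * θ := by
    have h1 : T.lr.pr (T.lr.conjQ θ x * c) = T.lr.pr x := by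
      rw [T.lr.pr_mul, ← T.lr.act_pr, hx]
      exact hsum _
    rw [T.lr.pr_eq_pr] at h1
    have e1 : (θ : G) * (x * s) * (θ : G)⁻¹ = ((T.lr.conjQ θ x * c : Qr) : G) * s := by
      show (θ : G) * (x * s) * (θ : G)⁻¹ = (θ : G) * x * (θ : G)⁻¹ * ((θ : G) * s * (θ : G)⁻¹ * s⁻¹) * s
      group
    rcases h1 with h1 | h1
    · rw [h1] at e1
      exact mul_inv_eq_iff_eq_mul.1 e1
    · exfalso
      rw [h1] at e1
      have e1' : (θ : G) * (x * s) * (θ : G)⁻¹ = x * s * r := by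
        rw [e1, mul_assoc (x : G), hrs, ← mul_assoc]
      set a := (x : G) * s with ha
      have e2 : (θ : G) * a = a * r * θ := mul_inv_eq_iff_eq_mul.1 e1'
      have e3 : (θ : G) * θ * θ = 1 := congrArg Subtype.val h3
      have e4 : (θ : G) * θ * θ * a = a * (r * r) * r * ((θ : G) * θ * θ) := by
        calc (θ : G) * θ * θ * a = θ * (θ * (θ * a)) := by group
          _ = θ * (θ * (a * r * θ)) := by rw [e2]
          _ = θ * ((θ * a) * r * θ) := by group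
          _ = θ * (a * r * (θ * r) * θ) := by rw [e2]; group
          _ = θ * (a * r * (r * θ) * θ) := by rw [hθr]
          _ = (θ * a) * (r * r) * θ * θ := by group
          _ = a * r * θ * (r * r) * θ * θ := by rw [e2]
          _ = a * r * (θ * (r * r)) * θ * θ := by group
          _ = a * (r * r) * r * ((θ : G) * θ * θ) := by rw [T.lr.z_sq]; group
      rw [e3, T.lr.z_sq, one_mul, mul_one, mul_one] at e4
      exact T.lr.z_ne (left_eq_mul.1 e4)
  have hyc : (θ : G) * (y * s * (y : G)⁻¹) = y * s * (y : G)⁻¹ * θ := by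
    rcases T.comm_cases y x hy with h1 | h1
    · rw [h1]; exact hfix
    · rw [h1, mul_assoc (x : G), hrs, ← mul_assoc (x : G)]
      calc (θ : G) * (x * s * r) = (θ * (x * s)) * r := by group
        _ = x * s * (θ * r) := by rw [hfix]; group
        _ = x * s * r * θ := by rw [hθr]; group
  have hyr : (y : G) * r = r * y := T.lr.comm_z y y.2
  have hyr' : (y : G)⁻¹ * r = r * (y : G)⁻¹ := by
    rw [inv_mul_eq_iff_eq_mul, ← mul_assoc, hyr, mul_inv_cancel_right]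
  have hθ'r : ((y : G)⁻¹ * θ * y) * r = r * ((y : G)⁻¹ * θ * y) := by
    calc ((y : G)⁻¹ * θ * y) * r = (y : G)⁻¹ * (θ * (y * r)) := by group
      _ = (y : G)⁻¹ * (θ * r) * y := by rw [hyr]; group
      _ = ((y : G)⁻¹ * r) * θ * y := by rw [hθr]; group
      _ = r * ((y : G)⁻¹ * θ * y) := by rw [hyr']; group
  have hact : T.lr.act ⟨(y : G)⁻¹ * θ * y, mem_centralizer_singleton_iff.2 hθ'r⟩ = Θ := by
    have e1 : (⟨(y : G)⁻¹ * θ * y, mem_centralizer_singleton_iff.2 hθ'r⟩ : centralizer ({r} : Set G)) =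
        (⟨y, mem_centralizer_singleton_iff.2 hyr⟩ : centralizer ({r} : Set G))⁻¹ * θ *
          ⟨y, mem_centralizer_singleton_iff.2 hyr⟩ := rfl
    rw [e1, map_mul, map_mul, map_inv, T.lr.act_mem ⟨y, _⟩ y.2, inv_one, one_mul, mul_one]
  obtain ⟨k1, k2⟩ := t.act_uniq (f := Θ) (fun i u => by rw [← hact, t.act_e]) (fun i u => t.act_e θ i u)
  refine ⟨(y : G)⁻¹ * θ * y, ?_, ?_, hθ'r, ?_, ?_⟩
  · have e3 : (θ : G) * θ * θ = 1 := congrArg Subtype.val h3
    calc (y : G)⁻¹ * θ * y * ((y : G)⁻¹ * θ * y) * ((y : G)⁻¹ * θ * y) = (y : G)⁻¹ * (θ * θ * θ) * y := by group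
      _ = 1 := by rw [e3]; group
  · calc (y : G)⁻¹ * θ * y * s = (y : G)⁻¹ * (θ * (y * s * (y : G)⁻¹)) * y := by group
      _ = s * ((y : G)⁻¹ * θ * y) := by rw [hyc]; group
  · rw [k1]; exact hω
  · intro u
    rw [k2]; exact hg u

/-! ### the contradiction -/

section theta

variable [Finite G] (T : Two Qr Qs r s P) {U : Type v} [AddCommGroup U] {e : Fin 3 → U → T.lr.V}
  (t : Ten T.lr e) {θ : G} (h3 : θ * θ * θ = 1) (hθs : θ * s = s * θ) (hθr : θ * r = r * θ)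
  (hg : ∀ u, t.gg ⟨θ, mem_centralizer_singleton_iff.2 hθr⟩ u = u)

/-- `θ` on `V_s` -/
noncomputable def th' (T : Two Qr Qs r s P) {θ : G} (hθs : θ * s = s * θ) : T.symm.lr.V ≃ₗ[ZMod 2] T.symm.lr.V :=
  T.symm.lr.act ⟨θ, mem_centralizer_singleton_iff.2 hθs⟩

include hθs hg in
/-- `[X_s, θ] ≤ D` -/
theorem comm_th {y : G} (hy : y ∈ Qs) (hyr : y * r = r * y) : θ * y * θ⁻¹ * y⁻¹ ∈ Qr ∧ θ * y * θ⁻¹ * y⁻¹ ∈ Qs := by
  have h1 : θ * y * θ⁻¹ * y⁻¹ ∈ Qs := Qs.mul_mem (T.ls.conj_mem θ hθs y hy) (Qs.inv_mem hy)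
  refine ⟨?_, h1⟩
  set th : centralizer ({r} : Set G) := ⟨θ, mem_centralizer_singleton_iff.2 hθr⟩ with hth
  set yy : centralizer ({r} : Set G) := ⟨y, mem_centralizer_singleton_iff.2 hyr⟩ with hyy
  have h4 : (th * yy * th⁻¹ * yy⁻¹) * (th * yy * th⁻¹ * yy⁻¹) * ((th * yy * th⁻¹ * yy⁻¹) * (th * yy * th⁻¹ * yy⁻¹)) = 1 := by
    apply Subtype.ext
    show (θ * y * θ⁻¹ * y⁻¹) * (θ * y * θ⁻¹ * y⁻¹) * ((θ * y * θ⁻¹ * y⁻¹) * (θ * y * θ⁻¹ * y⁻¹)) = 1
    rcases T.ls.sq _ h1 with h | h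
    · rw [h, one_mul]
    · rw [h, T.ls.z_sq]
  have h5 : t.sg (th * yy * th⁻¹ * yy⁻¹) = t.sg th * t.sg yy * (t.sg th)⁻¹ * (t.sg yy)⁻¹ := by
    rw [t.sg_mul, t.sg_mul, t.sg_mul, sg_inv, sg_inv]
  have h6 : t.sg (th * yy * th⁻¹ * yy⁻¹) = 1 := by
    rw [h5]
    apply comm4
    rw [← h5, ← t.sg_mul, ← t.sg_mul, h4, t.sg_one]
  have h7 : ∀ u, t.gg (th * yy * th⁻¹ * yy⁻¹) u = u := by
    intro u
    have hgi : ∀ u, t.gg th⁻¹ u = u := fun u => by
      conv_lhs => rw [← hg u]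
      exact t.gg_inv_gg th u
    rw [t.gg_mul, t.gg_mul, t.gg_mul, hgi, hg, t.gg_gg_inv]
  exact T.lr.mem_of_act _ (t.act_eq_one h6 h7)

include hg in
theorem th_Xt {v : T.symm.lr.V} (hv : v ∈ T.symm.Xt) : th' T hθs v + v ∈ T.symm.Dt := by
  obtain ⟨y, rfl⟩ := T.symm.lr.pr_surjective v
  rw [T.symm.pr_mem_Xt] at hv
  obtain ⟨k1, k2⟩ := comm_th T t hθs hθr hg y.2 hv
  refine ⟨⟨θ * y * θ⁻¹ * (y : G)⁻¹, k2⟩, k1, ?_⟩
  have e1 : (⟨θ * y * θ⁻¹ * (y : G)⁻¹, k2⟩ : Qs) =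
      T.symm.lr.conjQ ⟨θ, mem_centralizer_singleton_iff.2 hθs⟩ y * y⁻¹ := rfl
  rw [e1, T.symm.lr.pr_mul, T.symm.lr.pr_inv, T.symm.lr.neg_eq, th', T.symm.lr.act_pr]

include hθr in
theorem th_Dt {v : T.symm.lr.V} (hv : v ∈ T.symm.Dt) : th' T hθs v ∈ T.symm.Dt := by
  obtain ⟨y, hy, rfl⟩ := hv
  rw [th', T.symm.lr.act_pr]
  exact ⟨_, T.lr.conj_mem θ hθr y hy, rfl⟩

include hθr in
theorem th_mem_Xt {v : T.symm.lr.V} (hv : v ∈ T.symm.Xt) : th' T hθs v ∈ T.symm.Xt := by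
  obtain ⟨y, rfl⟩ := T.symm.lr.pr_surjective v
  rw [T.symm.pr_mem_Xt] at hv
  rw [th', T.symm.lr.act_pr, T.symm.pr_mem_Xt]
  show θ * (y : G) * θ⁻¹ * r = r * (θ * y * θ⁻¹)
  have h1 : θ⁻¹ * r = r * θ⁻¹ := by
    rw [inv_mul_eq_iff_eq_mul, ← mul_assoc, hθr, mul_inv_cancel_right]
  calc θ * (y : G) * θ⁻¹ * r = θ * y * (θ⁻¹ * r) := by group
    _ = θ * (y * r) * θ⁻¹ := by rw [h1]; group
    _ = (θ * r) * y * θ⁻¹ := by rw [hv]; group
    _ = r * (θ * y * θ⁻¹) := by rw [hθr]; group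

include h3 in
theorem th_three (v : T.symm.lr.V) : th' T hθs (th' T hθs (th' T hθs v)) = v := by
  have h1 : (⟨θ, mem_centralizer_singleton_iff.2 hθs⟩ : centralizer ({s} : Set G)) *
      ⟨θ, mem_centralizer_singleton_iff.2 hθs⟩ * ⟨θ, mem_centralizer_singleton_iff.2 hθs⟩ = 1 := Subtype.ext h3
  have h2 : T.symm.lr.act ((⟨θ, mem_centralizer_singleton_iff.2 hθs⟩ : centralizer ({s} : Set G)) *
      ⟨θ, mem_centralizer_singleton_iff.2 hθs⟩ * ⟨θ, mem_centralizer_singleton_iff.2 hθs⟩) v = v := by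
    rw [h1, map_one]; rfl
  rw [map_mul, map_mul] at h2
  exact h2

include h3 hg in
/-- `[D̃^⊥, θ] ≤ D̃` -/
theorem th_perp (hq : ∀ w ∈ T.symm.W, T.symm.lr.q w = 0) {u : T.symm.lr.V}
    (hu : ∀ d ∈ T.symm.Dt, T.symm.lr.b u d = 0) : th' T hθs u + u ∈ T.symm.Dt := by
  have h1 : th' T hθs u + u ∈ T.symm.Xt := by
    apply perp_Xt T.symm hq
    intro v hv
    -- `v = θ v'`, `v' = θ² v`
    have e1 := th_three T h3 hθs v
    have hv1 := th_mem_Xt T hθs hθr hv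
    have hv2 := th_mem_Xt T hθs hθr hv1
    set v' := th' T hθs (th' T hθs v) with hv'
    have h2 : T.symm.lr.b (th' T hθs u) (th' T hθs v') = T.symm.lr.b u v' := T.symm.lr.b_act _ _ _
    have h3 := hu _ (th_Xt T t hθs hθr hg hv2)
    rw [e1] at h2 h3
    rw [map_add, LinearMap.add_apply, h2, ← map_add, add_comm]
    exact h3
  have h2 := th_Dt T hθs hθr (th_Xt T t hθs hθr hg h1)
  have e : th' T hθs (th' T hθs (th' T hθs u + u) + (th' T hθs u + u)) = th' T hθs u + u := by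
    simp only [map_add, th_three T h3 hθs]
    have : u + th' T hθs (th' T hθs u) + (th' T hθs (th' T hθs u) + th' T hθs u) =
      th' T hθs u + u + (th' T hθs (th' T hθs u) + th' T hθs (th' T hθs u)) := by abel
    rw [this, T.symm.lr.add_self, add_zero]
  rwa [e] at h2

include h3 hg in
/-- `|V_s| ≤ 16 |C_{V_s}(θ)|` -/
theorem card_V_le (hq : ∀ w ∈ T.symm.W, T.symm.lr.q w = 0) :
    Nat.card T.symm.lr.V ≤ 16 * Nat.card {v : T.symm.lr.V // th' T hθs v = v} := by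
  classical
  have h4 := Dt.card_Dt_le T.symm
  have h5 := Perp.card_perp T.symm.lr T.symm.Dt
  have hper : ∀ u : T.symm.lr.b.orthogonal T.symm.Dt, th' T hθs u + u ∈ T.symm.Dt := fun u =>
    th_perp T t h3 hθs hθr hg hq fun d hd => by
      rw [T.symm.lr.b_comm]; exact (Perp.mem_perp T.symm.lr _).1 u.2 d hd
  let f : T.symm.lr.b.orthogonal T.symm.Dt →+ T.symm.Dt :=
    { toFun := fun u => ⟨th' T hθs u + u, hper u⟩
      map_zero' := by
        apply Subtype.ext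
        show th' T hθs 0 + 0 = 0
        rw [map_zero, add_zero]
      map_add' := fun u u' => by
        apply Subtype.ext
        show th' T hθs (u + u') + (u + u') = th' T hθs u + u + (th' T hθs u' + u')
        rw [map_add]; abel }
  have h6 := card_le_of_hom f
  have h7 : Nat.card f.ker ≤ Nat.card {v : T.symm.lr.V // th' T hθs v = v} := by
    refine Nat.card_le_card_of_injective
      (fun x : f.ker => (⟨((x : T.symm.lr.b.orthogonal T.symm.Dt) : T.symm.lr.V), ?_⟩ :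
        {v : T.symm.lr.V // th' T hθs v = v})) ?_
    · have := congrArg (fun d : T.symm.Dt => (d : T.symm.lr.V)) x.2
      exact T.symm.add_eq_zero.1 this
    · intro x y hxy
      exact Subtype.ext (Subtype.ext (congrArg (fun v : {v : T.symm.lr.V // th' T hθs v = v} => (v : T.symm.lr.V)) hxy))
  calc Nat.card T.symm.lr.V = Nat.card T.symm.Dt * Nat.card (T.symm.lr.b.orthogonal T.symm.Dt) := h5.symm
    _ ≤ Nat.card T.symm.Dt * (Nat.card T.symm.Dt * Nat.card f.ker) := Nat.mul_le_mul_left _ h6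
    _ ≤ 4 * (4 * Nat.card f.ker) := Nat.mul_le_mul h4 (Nat.mul_le_mul_right _ h4)
    _ = 16 * Nat.card f.ker := by ring
    _ ≤ _ := Nat.mul_le_mul_left _ h7

include h3 hg in
/-- `θ` acts on `V_s` with trivial component in `Sym(3)` -/
theorem sg_th {U' : Type w} [AddCommGroup U'] {e' : Fin 3 → U' → T.symm.lr.V} (t' : Ten T.symm.lr e')
    (hq : ∀ w ∈ T.symm.W, T.symm.lr.q w = 0) (hU' : 16 < Nat.card U') :
    t'.sg ⟨θ, mem_centralizer_singleton_iff.2 hθs⟩ = 1 := by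
  by_contra hne
  have := t'.finite_U
  set c : centralizer ({s} : Set G) := ⟨θ, mem_centralizer_singleton_iff.2 hθs⟩ with hc
  have hc3 : c * c * c = 1 := Subtype.ext h3
  have hσ3 : t'.sg c * t'.sg c * t'.sg c = 1 := by rw [← t'.sg_mul, ← t'.sg_mul, hc3, t'.sg_one]
  have hcyc := cyc3 _ hne hσ3
  have h1 := card_V_le T t h3 hθs hθr hg hq
  obtain ⟨k1, k2, k3⟩ := hcyc 0
  have h2 : ∀ v : {v : T.symm.lr.V // th' T hθs v = v}, ∃ b,
      (v : T.symm.lr.V) = e' 0 (t'.gg c b) + e' (t'.sg c 0) b := by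
    rintro ⟨v, hv⟩
    obtain ⟨a, b, rfl⟩ := t'.surj k1 v
    refine ⟨b, ?_⟩
    have e1 : th' T hθs (e' 0 a + e' (t'.sg c 0) b) =
        e' 0 (t'.gg c b) + e' (t'.sg c 0) (t'.gg c a + t'.gg c b) := by
      rw [th', map_add, t'.act_e, t'.act_e, ← hc, t'.add, ← t'.third k1 k2 k3]
      abel
    rw [e1] at hv
    rw [(t'.uniq k1 hv).1]
  choose φ hφ using h2
  have h3' : Nat.card {v : T.symm.lr.V // th' T hθs v = v} ≤ Nat.card U' :=
    Nat.card_le_card_of_injective φ fun v w hvw => Subtype.ext (by rw [hφ v, hφ w, hvw])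
  rw [t'.card_V] at h1
  have h4 : Nat.card U' * Nat.card U' ≤ 16 * Nat.card U' := h1.trans (Nat.mul_le_mul_left _ h3')
  have h5 := Nat.le_of_mul_le_mul_right h4 (by omega)
  omega

include h3 hθs hg in
/-- **(C1)** -/
theorem false_of_th {U' : Type w} [AddCommGroup U'] {e' : Fin 3 → U' → T.symm.lr.V} (t' : Ten T.symm.lr e')
    (hr : t'.sg (cs T.symm) = 1) (hU' : 16 < Nat.card U') (h1 : θ ≠ 1) : False := by
  have hq := q_W_zero T.symm t' hr
  have hσ := sg_th T t h3 hθs hθr hg t' hq hU'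
  have := t'.finite_U
  set c : centralizer ({s} : Set G) := ⟨θ, mem_centralizer_singleton_iff.2 hθs⟩ with hc
  have hc3 : c * c * c = 1 := Subtype.ext h3
  have hg3 : ∀ u, t'.gg c (t'.gg c (t'.gg c u)) = u := fun u => by
    rw [← t'.gg_mul, ← t'.gg_mul, hc3, t'.gg_one]
  have hΘe : ∀ i u, th' T hθs (e' i u) = e' i (t'.gg c u) := fun i u => by
    rw [th', t'.act_e, ← hc, hσ]; rfl
  -- `f u = g u + u`
  let f : U' →+ U' :=
    { toFun := fun u => t'.gg c u + u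
      map_zero' := by rw [t'.gg_zero, add_zero]
      map_add' := fun u u' => by rw [t'.gg_add]; abel }
  have hker : ∀ u, u ∈ f.ker ↔ t'.gg c u = u := fun u => t'.add_eq_zero
  -- `|P| ≤ 4`
  have hP4 : Nat.card f.range ≤ 4 := by
    have k1 := card_V_le T t h3 hθs hθr hg hq
    have k2 : Nat.card {v : T.symm.lr.V // th' T hθs v = v} ≤ Nat.card (f.ker × f.ker) := by
      have k3 : ∀ v : {v : T.symm.lr.V // th' T hθs v = v}, ∃ p : f.ker × f.ker,
          (v : T.symm.lr.V) = e' 0 p.1 + e' 1 p.2 := by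
        rintro ⟨v, hv⟩
        obtain ⟨a, b, rfl⟩ := t'.surj01 v
        rw [map_add, hΘe, hΘe] at hv
        obtain ⟨ha, hb⟩ := t'.uniq (by decide) hv
        exact ⟨(⟨a, (hker a).2 ha⟩, ⟨b, (hker b).2 hb⟩), rfl⟩
      choose φ hφ using k3
      exact Nat.card_le_card_of_injective φ fun v w hvw => Subtype.ext (by rw [hφ v, hφ w, hvw])
    rw [Nat.card_prod] at k2
    rw [t'.card_V] at k1
    have k4 := card_range_mul f
    set K := Nat.card f.ker with hK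
    set R := Nat.card f.range with hR
    have hKpos : 0 < K := Nat.card_pos
    rw [k4] at k1
    have k5 : (R * R) * (K * K) ≤ 16 * (K * K) := by
      calc (R * R) * (K * K) = R * K * (R * K) := by ring
        _ ≤ 16 * Nat.card {v : T.symm.lr.V // th' T hθs v = v} := k1
        _ ≤ 16 * (K * K) := Nat.mul_le_mul_left _ k2
    have k6 := Nat.le_of_mul_le_mul_right k5 (Nat.mul_pos hKpos hKpos)
    by_contra hcon
    have : 5 * 5 ≤ R * R := Nat.mul_le_mul (by omega) (by omega)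
    omega
  -- a nonzero element of `P`
  obtain ⟨u0, hu0⟩ : ∃ u, t'.gg c u ≠ u := by
    by_contra hcon
    push Not at hcon
    have k1 : θ ∈ Qs := T.ls.mem_of_act c (t'.act_eq_one hσ hcon)
    have k2 : θ * θ * (θ * θ) = 1 := by
      rcases T.ls.sq θ k1 with h | h
      · rw [h, one_mul]
      · rw [h, T.ls.z_sq]
    apply h1
    calc θ = (θ * θ * θ)⁻¹ * (θ * θ * (θ * θ)) := by group
      _ = 1 := by rw [h3, k2]; group
  -- `p + g p + g² p = 0` on `P`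
  have hsum : ∀ p ∈ f.range, p + t'.gg c p = t'.gg c (t'.gg c p) := by
    rintro _ ⟨u, rfl⟩
    show (t'.gg c u + u) + t'.gg c (t'.gg c u + u) = t'.gg c (t'.gg c (t'.gg c u + u))
    rw [t'.gg_add, t'.gg_add, hg3]
    have : t'.gg c u + u + (t'.gg c (t'.gg c u) + t'.gg c u) =
      u + t'.gg c (t'.gg c u) + (t'.gg c u + t'.gg c u) := by abel
    rw [this, t'.add_self, add_zero]
  have hgP : ∀ p ∈ f.range, t'.gg c p ∈ f.range := by
    rintro _ ⟨u, rfl⟩
    exact ⟨t'.gg c u, (t'.gg_add c _ _).symm⟩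
  have hfp : ∀ p ∈ f.range, p ≠ 0 → t'.gg c p ≠ p := by
    intro p hp hp0 he
    have k1 := hsum p hp
    rw [he, he, t'.add_self] at k1
    exact hp0 k1.symm
  have hg0 : ∀ p, p ≠ 0 → t'.gg c p ≠ 0 := fun p hp h => hp (t'.gg_inj c (h.trans (t'.gg_zero c).symm))
  set hr' := t'.gg (cs T.symm) with hhr
  have hrr := hh_e T.symm t' hr
  have hcomm : ∀ u, hr' (t'.gg c u) = t'.gg c (hr' u) := by
    intro u
    rw [hhr, ← t'.gg_mul, ← t'.gg_mul]
    congr 1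
    exact Subtype.ext hθr.symm
  -- `r` is trivial on `P`
  have hrP : ∀ p ∈ f.range, hr' p = p := by
    intro p hp
    by_contra hne
    -- the fixed points of `r` on `P`
    let K : AddSubgroup U' :=
      { carrier := {x | x ∈ f.range ∧ hr' x = x}
        zero_mem' := ⟨f.range.zero_mem, t'.gg_zero _⟩
        add_mem' := by
          rintro x y ⟨hx, hx'⟩ ⟨hy, hy'⟩
          exact ⟨f.range.add_mem hx hy, by rw [hhr, t'.gg_add, ← hhr, hx', hy']⟩
        neg_mem' := by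
          rintro x ⟨hx, hx'⟩
          exact ⟨f.range.neg_mem hx, by rw [t'.neg_eq]; exact hx'⟩ }
    have hrP' : ∀ x ∈ f.range, hr' x ∈ f.range := by
      rintro _ ⟨u, rfl⟩
      refine ⟨hr' u, ?_⟩
      show t'.gg c (hr' u) + hr' u = hr' (t'.gg c u + u)
      rw [hhr, t'.gg_add, ← hhr, hcomm]
    have k1 : hr' p + p ∈ K := by
      refine ⟨f.range.add_mem (hrP' p hp) hp, ?_⟩
      rw [hhr, t'.gg_add, hrr, add_comm]
    have k0 : hr' p + p ≠ 0 := fun h => hne (t'.add_eq_zero.1 h)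
    have k2 : t'.gg c (hr' p + p) ∈ K := ⟨hgP _ k1.1, by rw [hcomm, k1.2]⟩
    have k3 := three_le k1 k2 k0 (hg0 _ k0) (hfp _ k1.1 k0).symm
    have k4 : K = f.range := eq_of_card (fun x hx => hx.1) hP4 k3
    rw [← k4] at hp
    exact hne hp.2
  -- `e' i p ∈ X̃`
  have hX : ∀ i, ∀ p ∈ f.range, e' i p ∈ T.symm.Xt := by
    intro i p hp
    by_contra hcon
    have hgt : ∀ p, t'.gg c p ∈ f.range → e' i (t'.gg c p) ∈ T.symm.Xt → e' i p ∈ T.symm.Xt := by
      intro p _ hx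
      have k1 := th_mem_Xt T hθs hθr (th_mem_Xt T hθs hθr hx)
      rwa [hΘe, hΘe, hg3] at k1
    have k1 : e' i (t'.gg c p) ∉ T.symm.Xt := fun h => hcon (hgt p (hgP p hp) h)
    have k2 := T.symm.add_mem_Xt ((mem_F_e T.symm t' hr).2 (hrP p hp))
      ((mem_F_e T.symm t' hr).2 (hrP _ (hgP p hp))) hcon k1
    rw [← t'.add, hsum p hp] at k2
    exact hcon (hgt p (hgP p hp) (hgt _ (hgP _ (hgP p hp)) k2))
  -- `e' i p ∈ D̃`
  have hD : ∀ i, ∀ p ∈ f.range, e' i p ∈ T.symm.Dt := by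
    intro i p hp
    have k1 := th_Xt T t hθs hθr hg (hX i p hp)
    rw [hΘe, ← t'.add, add_comm, hsum p hp] at k1
    have k2 := th_Dt T hθs hθr k1
    rwa [hΘe, hg3] at k2
  -- too many elements
  have hfin : Nat.card (f.range × f.range) ≤ Nat.card T.symm.Dt := by
    refine Nat.card_le_card_of_injective (fun p : f.range × f.range =>
      (⟨e' 0 p.1 + e' 1 p.2, T.symm.Dt.add_mem (hD 0 _ p.1.2) (hD 1 _ p.2.2)⟩ : T.symm.Dt)) ?_
    rintro ⟨a, b⟩ ⟨a', b'⟩ hab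
    have k1 := congrArg (fun d : T.symm.Dt => (d : T.symm.lr.V)) hab
    obtain ⟨k2, k3⟩ := t'.uniq (by decide) k1
    exact Prod.ext (Subtype.ext k2) (Subtype.ext k3)
  have hP2 : 2 < Nat.card f.range :=
    three_le (K := f.range) (a := t'.gg c u0 + u0) (b := t'.gg c (t'.gg c u0 + u0)) ⟨u0, rfl⟩ (hgP _ ⟨u0, rfl⟩)
      (fun h => hu0 (t'.add_eq_zero.1 h)) (hg0 _ fun h => hu0 (t'.add_eq_zero.1 h))
      (hfp _ ⟨u0, rfl⟩ fun h => hu0 (t'.add_eq_zero.1 h)).symm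
  rw [Nat.card_prod] at hfin
  have h4 := Dt.card_Dt_le T.symm
  have : 3 * 3 ≤ Nat.card f.range * Nat.card f.range := Nat.mul_le_mul hP2 hP2
  omega

end theta

/-- **Type I is impossible.** -/
theorem typeI [Finite G] (T : Two Qr Qs r s P) {U : Type v} [AddCommGroup U] {e : Fin 3 → U → T.lr.V}
    (t : Ten T.lr e) {U' : Type w} [AddCommGroup U'] {e' : Fin 3 → U' → T.symm.lr.V} (t' : Ten T.symm.lr e')
    (hs : t.sg (cs T) = 1) (hr : t'.sg (cs T.symm) = 1) (hU : 16 < Nat.card U) (hU' : 16 < Nat.card U') :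
    False := by
  by_cases h1 : T.F ≤ T.Xt
  · obtain ⟨θ, k1, k2, k3, k4, k5⟩ := exists_theta T t hs h1
    refine false_of_th T t k1 k2 k3 k5 t' hr hU' ?_
    rintro rfl
    apply k4
    exact t.sg_one
  by_cases h2 : T.symm.F ≤ T.symm.Xt
  · obtain ⟨θ, k1, k2, k3, k4, k5⟩ := exists_theta T.symm t' hr h2
    refine false_of_th T.symm t' k1 k2 k3 k5 t hs hU ?_
    rintro rfl
    apply k4
    exact t'.sg_one
  · exact caseC2 T t t' hs hr h1 h2

end Cfsg.Agent.Omega.All.DN
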