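import Cfsg.Agent.LargeExtra.CC.Dt

/-!
# Row `D_n` of LEMMA CC (#13336 helper298, #13367 helper146): the tensor structure

`Ten h e`: `V = N ⊗ U`, `N` of order 4 with nonzero vectors `n_0, n_1, n_2`, `e i u = n_i ⊗ u`; every element of `C(z)`
acts as `σ ⊗ g`, `σ ∈ Sym(3)`; some element acts as `ω ⊗ 1`, `ω` of order 3; `q (e i u) = 0`.
-/

set_option autoImplicit false

namespace Cfsg.Agent.Omega.All.DN

open Cfsg.Agent.Co2Type.Quad Subgroup

universe u v

variable {G : Type u} [Group G] {Q : Subgroup G} {z : G}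

/-- `V = N ⊗ U` -/
structure Ten (h : Large Q z) {U : Type v} [AddCommGroup U] (e : Fin 3 → U → h.V) : Prop where
  add : ∀ i u u', e i (u + u') = e i u + e i u'
  sum : ∀ u, e 0 u + e 1 u + e 2 u = 0
  inj01 : ∀ a b, e 0 a + e 1 b = 0 → a = 0 ∧ b = 0
  surj01 : ∀ v, ∃ a b, v = e 0 a + e 1 b
  q_e : ∀ i u, h.q (e i u) = 0
  act_ex : ∀ c, ∃ (σ : Equiv.Perm (Fin 3)) (g : U → U), ∀ i u, h.act c (e i u) = e (σ i) (g u)
  th_ex : ∃ c, ∃ σ : Equiv.Perm (Fin 3), σ ≠ 1 ∧ σ * σ * σ = 1 ∧ ∀ i u, h.act c (e i u) = e (σ i) u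
  nt : ∃ u : U, u ≠ 0

namespace Ten

variable {h : Large Q z} {U : Type v} [AddCommGroup U] {e : Fin 3 → U → h.V} (t : Ten h e)
include t

theorem e_zero (i : Fin 3) : e i 0 = 0 := by
  have := t.add i 0 0
  rw [add_zero] at this
  exact left_eq_add.1 this

/-- `e i u + e j u = e k u` -/
theorem third {i j k : Fin 3} (hij : i ≠ j) (hik : i ≠ k) (hjk : j ≠ k) (u : U) :
    e i u + e j u = e k u := by
  have key : ∀ i j k : Fin 3, i ≠ j → i ≠ k → j ≠ k → e i u + e j u + e k u = e 0 u + e 1 u + e 2 u := by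
    intro i j k
    fin_cases i <;> fin_cases j <;> fin_cases k <;> intro h1 h2 h3 <;>
      first
        | exact absurd rfl h1
        | exact absurd rfl h2
        | exact absurd rfl h3
        | rfl
        | (simp only [Fin.zero_eta, Fin.mk_one, Fin.reduceFinMk]; abel)
  have h1 := key i j k hij hik hjk
  rw [t.sum] at h1
  rw [add_eq_zero_iff_eq_neg, h.neg_eq] at h1
  exact h1

theorem inj {i j : Fin 3} (hij : i ≠ j) {a b : U} (hab : e i a + e j b = 0) : a = 0 ∧ b = 0 := by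
  have e2 : ∀ u, e 2 u = e 0 u + e 1 u := fun u => (t.third (by decide) (by decide) (by decide) u).symm
  have uu : ∀ u : U, u + u = 0 := by
    intro u
    have h1 : e 0 (u + u) + e 1 0 = 0 := by rw [t.add, t.e_zero, h.add_self, add_zero]
    exact (t.inj01 _ _ h1).1
  have nn : ∀ u : U, -u = u := fun u => neg_eq_of_add_eq_zero_left (uu u)
  fin_cases i <;> fin_cases j <;> simp only [Fin.zero_eta, Fin.mk_one, Fin.reduceFinMk] at hab hij
  · exact absurd rfl hij
  · exact t.inj01 _ _ hab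
  · rw [e2, ← add_assoc, ← t.add] at hab
    have h1 := t.inj01 _ _ hab
    obtain ⟨h2, rfl⟩ := h1
    rw [add_zero] at h2
    exact ⟨h2, rfl⟩
  · rw [add_comm] at hab
    exact (t.inj01 _ _ hab).symm
  · exact absurd rfl hij
  · rw [e2, add_left_comm, ← t.add] at hab
    obtain ⟨rfl, h2⟩ := t.inj01 _ _ hab
    rw [add_zero] at h2
    exact ⟨h2, rfl⟩
  · rw [e2, add_right_comm, ← t.add] at hab
    obtain ⟨h2, rfl⟩ := t.inj01 _ _ hab
    rw [zero_add] at h2
    exact ⟨rfl, h2⟩
  · rw [e2, add_assoc, ← t.add] at hab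
    obtain ⟨rfl, h2⟩ := t.inj01 _ _ hab
    rw [zero_add] at h2
    exact ⟨rfl, h2⟩
  · exact absurd rfl hij

theorem add_self (u : U) : u + u = 0 := by
  have h1 : e 0 (u + u) + e 1 0 = 0 := by rw [t.add, t.e_zero, h.add_self, add_zero]
  exact (t.inj01 _ _ h1).1

theorem neg_eq (u : U) : -u = u := neg_eq_of_add_eq_zero_left (t.add_self u)

theorem add_eq_zero {u u' : U} : u + u' = 0 ↔ u = u' := by rw [add_eq_zero_iff_eq_neg, t.neg_eq]

theorem inj1 {i : Fin 3} {u u' : U} (hu : e i u = e i u') : u = u' := by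
  obtain ⟨j, hj⟩ : ∃ j : Fin 3, i ≠ j := (by decide : ∀ i : Fin 3, ∃ j : Fin 3, i ≠ j) i
  have h1 : e i (u + u') + e j 0 = 0 := by
    rw [t.add, t.e_zero, hu, h.add_self, add_zero]
  exact t.add_eq_zero.1 (t.inj hj h1).1

theorem eq_zero {i j : Fin 3} (hij : i ≠ j) {u u' : U} (hu : e i u = e j u') : u = 0 := by
  have h1 : e i u + e j u' = 0 := by rw [hu, h.add_self]
  exact (t.inj hij h1).1

/-- uniqueness of coordinates -/
theorem uniq {i j : Fin 3} (hij : i ≠ j) {a b a' b' : U} (he : e i a + e j b = e i a' + e j b') :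
    a = a' ∧ b = b' := by
  have h1 : e i (a + a') + e j (b + b') = 0 := by
    rw [t.add, t.add]
    have : e i a + e i a' + (e j b + e j b') = (e i a + e j b) + (e i a' + e j b') := by abel
    rw [this, he, h.add_self]
  obtain ⟨h2, h3⟩ := t.inj hij h1
  exact ⟨t.add_eq_zero.1 h2, t.add_eq_zero.1 h3⟩

theorem surj {i j : Fin 3} (hij : i ≠ j) (v : h.V) : ∃ a b, v = e i a + e j b := by
  obtain ⟨a, b, rfl⟩ := t.surj01 v
  have e2 : ∀ u, e 2 u = e 0 u + e 1 u := fun u => (t.third (by decide) (by decide) (by decide) u).symm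
  have e2' : ∀ u, e 0 u = e 1 u + e 2 u := fun u => (t.third (by decide) (by decide) (by decide) u).symm
  have e2'' : ∀ u, e 1 u = e 0 u + e 2 u := fun u => (t.third (by decide) (by decide) (by decide) u).symm
  fin_cases i <;> fin_cases j <;> simp only [Fin.zero_eta, Fin.mk_one, Fin.reduceFinMk] at hij ⊢
  · exact absurd rfl hij
  · exact ⟨a, b, rfl⟩
  · exact ⟨a + b, b, by rw [e2'' b, t.add]; abel⟩
  · exact ⟨b, a, add_comm _ _⟩
  · exact absurd rfl hij
  · exact ⟨a + b, a, by rw [e2' a, t.add]; abel⟩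
  · exact ⟨b, a + b, by rw [e2'' b, t.add]; abel⟩
  · exact ⟨a, a + b, by rw [e2' a, t.add]; abel⟩
  · exact absurd rfl hij

/-! ### the form on `U` -/

omit t in
/-- the form on `U` -/
noncomputable def B (_t : Ten h e) (u u' : U) : ZMod 2 := h.b (e 0 u) (e 1 u')

theorem b_same (i : Fin 3) (u u' : U) : h.b (e i u) (e i u') = 0 := by
  have h1 := h.q_add' (e i u) (e i u')
  rw [← t.add, t.q_e, t.q_e, t.q_e, zero_add, zero_add] at h1
  exact h1.symm

theorem B_self (u : U) : t.B u u = 0 := by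
  have h1 := h.q_add' (e 0 u) (e 1 u)
  rw [t.third (k := 2) (by decide) (by decide) (by decide), t.q_e, t.q_e, t.q_e, zero_add, zero_add] at h1
  exact h1.symm

theorem B_add_left (u u' w : U) : t.B (u + u') w = t.B u w + t.B u' w := by
  unfold B
  rw [t.add, map_add, LinearMap.add_apply]

theorem B_add_right (u w w' : U) : t.B u (w + w') = t.B u w + t.B u w' := by
  unfold B
  rw [t.add, map_add]

theorem B_comm (u w : U) : t.B u w = t.B w u := by
  have h1 := t.B_self (u + w)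
  rw [t.B_add_left, t.B_add_right, t.B_add_right, t.B_self, t.B_self, zero_add, add_zero] at h1
  have : ∀ a b : ZMod 2, a + b = 0 → a = b := by decide
  exact this _ _ h1

theorem b_ne {i j : Fin 3} (hij : i ≠ j) (u u' : U) : h.b (e i u) (e j u') = t.B u u' := by
  have e2 : ∀ u, e 2 u = e 0 u + e 1 u := fun u => (t.third (by decide) (by decide) (by decide) u).symm
  fin_cases i <;> fin_cases j <;> simp only [Fin.zero_eta, Fin.mk_one, Fin.reduceFinMk] at hij ⊢
  · exact absurd rfl hij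
  · rfl
  · rw [e2, map_add, t.b_same, zero_add]; rfl
  · rw [h.b_comm, t.B_comm]; rfl
  · exact absurd rfl hij
  · rw [e2, map_add, t.b_same, add_zero, h.b_comm, t.B_comm]; rfl
  · rw [e2, map_add, LinearMap.add_apply, t.b_same, zero_add, h.b_comm, t.B_comm]; rfl
  · rw [e2, map_add, LinearMap.add_apply, t.b_same, add_zero]; rfl
  · exact absurd rfl hij

theorem B_nondeg {u : U} (hu : ∀ w, t.B u w = 0) : u = 0 := by
  have h1 : e 0 u = 0 := by
    apply h.b_nondeg
    intro v
    obtain ⟨a, b, rfl⟩ := t.surj01 v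
    rw [map_add, t.b_same, zero_add]
    exact hu b
  exact t.inj1 (h1.trans (t.e_zero 0).symm)

theorem exists_B {u : U} (hu : u ≠ 0) : ∃ w, t.B u w = 1 := by
  by_contra hcon
  push Not at hcon
  apply hu
  apply t.B_nondeg
  intro w
  have : ∀ a : ZMod 2, a ≠ 1 → a = 0 := by decide
  exact this _ (hcon w)

theorem B_zero_left (w : U) : t.B 0 w = 0 := by unfold B; rw [t.e_zero, map_zero, LinearMap.zero_apply]

theorem card_V [Finite Q] : Nat.card h.V = Nat.card U * Nat.card U := by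
  rw [← Nat.card_prod]
  symm
  refine Nat.card_congr (Equiv.ofBijective (fun p : U × U => e 0 p.1 + e 1 p.2) ⟨?_, ?_⟩)
  · rintro ⟨a, b⟩ ⟨a', b'⟩ hab
    obtain ⟨rfl, rfl⟩ := t.uniq (by decide) hab
    rfl
  · intro v
    obtain ⟨a, b, rfl⟩ := t.surj01 v
    exact ⟨(a, b), rfl⟩

theorem finite_U [Finite Q] : Finite U := by
  refine Finite.of_injective (fun u => e 0 u) fun u u' hu => t.inj1 hu

/-! ### the action -/

omit t in
/-- the component in `Sym(3)` -/
noncomputable def sg (t : Ten h e) (c : centralizer ({z} : Set G)) : Equiv.Perm (Fin 3) :=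
  (t.act_ex c).choose

omit t in
/-- the component on `U` -/
noncomputable def gg (t : Ten h e) (c : centralizer ({z} : Set G)) : U → U :=
  (t.act_ex c).choose_spec.choose

theorem act_e (c : centralizer ({z} : Set G)) (i : Fin 3) (u : U) :
    h.act c (e i u) = e (t.sg c i) (t.gg c u) := (t.act_ex c).choose_spec.choose_spec i u

theorem act_uniq {σ σ' : Equiv.Perm (Fin 3)} {g g' : U → U} {f : h.V ≃ₗ[ZMod 2] h.V}
    (h1 : ∀ i u, f (e i u) = e (σ i) (g u)) (h2 : ∀ i u, f (e i u) = e (σ' i) (g' u)) : σ = σ' ∧ g = g' := by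
  have hs : σ = σ' := by
    obtain ⟨u, hu⟩ := t.nt
    ext i
    by_contra hne
    have hne' : σ i ≠ σ' i := fun h => hne (congrArg _ h)
    have h3 := t.eq_zero hne' ((h1 i u).symm.trans (h2 i u))
    have h4 := h1 i u
    rw [h3, t.e_zero, LinearEquiv.map_eq_zero_iff] at h4
    exact hu (t.inj1 (h4.trans (t.e_zero i).symm))
  refine ⟨hs, funext fun u => ?_⟩
  have h3 := (h1 0 u).symm.trans (h2 0 u)
  rw [hs] at h3
  exact t.inj1 h3

theorem sg_gg_mul (c c' : centralizer ({z} : Set G)) :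
    t.sg (c * c') = t.sg c * t.sg c' ∧ t.gg (c * c') = fun u => t.gg c (t.gg c' u) := by
  refine t.act_uniq (f := h.act (c * c')) (fun i u => t.act_e _ i u) fun i u => ?_
  rw [map_mul]
  show h.act c (h.act c' (e i u)) = _
  rw [t.act_e, t.act_e]
  rfl

theorem sg_mul (c c' : centralizer ({z} : Set G)) : t.sg (c * c') = t.sg c * t.sg c' := (t.sg_gg_mul c c').1

theorem gg_mul (c c' : centralizer ({z} : Set G)) (u : U) : t.gg (c * c') u = t.gg c (t.gg c' u) :=
  congrFun (t.sg_gg_mul c c').2 u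

theorem sg_gg_of_act {c : centralizer ({z} : Set G)} (hc : h.act c = 1) : t.sg c = 1 ∧ ∀ u, t.gg c u = u := by
  have := t.act_uniq (f := h.act c) (fun i u => t.act_e c i u)
    (σ' := 1) (g' := id) (fun i u => by rw [hc]; rfl)
  exact ⟨this.1, fun u => congrFun this.2 u⟩

theorem sg_one : t.sg 1 = 1 := (t.sg_gg_of_act (map_one _)).1

theorem gg_one (u : U) : t.gg 1 u = u := (t.sg_gg_of_act (map_one _)).2 u

theorem act_eq_one {c : centralizer ({z} : Set G)} (h1 : t.sg c = 1) (h2 : ∀ u, t.gg c u = u) : h.act c = 1 := by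
  ext v
  obtain ⟨a, b, rfl⟩ := t.surj01 v
  rw [map_add, t.act_e, t.act_e, h1, h2, h2]
  rfl

theorem gg_add (c : centralizer ({z} : Set G)) (u u' : U) : t.gg c (u + u') = t.gg c u + t.gg c u' := by
  have h1 := t.act_e c 0 (u + u')
  rw [t.add, map_add, t.act_e, t.act_e, ← t.add] at h1
  exact (t.inj1 h1).symm

theorem gg_zero (c : centralizer ({z} : Set G)) : t.gg c 0 = 0 := by
  have h1 := t.act_e c 0 0
  rw [t.e_zero, map_zero] at h1
  exact (t.inj1 (h1.symm.trans (t.e_zero _).symm))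

theorem gg_inv_gg (c : centralizer ({z} : Set G)) (u : U) : t.gg c⁻¹ (t.gg c u) = u := by
  rw [← t.gg_mul, inv_mul_cancel, t.gg_one]

theorem gg_gg_inv (c : centralizer ({z} : Set G)) (u : U) : t.gg c (t.gg c⁻¹ u) = u := by
  rw [← t.gg_mul, mul_inv_cancel, t.gg_one]

theorem gg_inj (c : centralizer ({z} : Set G)) {u u' : U} (hu : t.gg c u = t.gg c u') : u = u' := by
  rw [← t.gg_inv_gg c u, hu, t.gg_inv_gg]

theorem B_gg (c : centralizer ({z} : Set G)) (u u' : U) : t.B (t.gg c u) (t.gg c u') = t.B u u' := by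
  have h1 : t.sg c 0 ≠ t.sg c 1 := fun h => absurd ((t.sg c).injective h) (by decide)
  rw [← t.b_ne h1, ← t.act_e, ← t.act_e, h.b_act]
  rfl

/-- an element of order dividing 3 of `C(z)` acting as `ω ⊗ 1` -/
theorem exists_th [Finite Q] : ∃ c : centralizer ({z} : Set G), c * c * c = 1 ∧ t.sg c ≠ 1 ∧
    t.sg c * t.sg c * t.sg c = 1 ∧ ∀ u, t.gg c u = u := by
  obtain ⟨c, σ, h1, h2, h3⟩ := t.th_ex
  obtain ⟨e1, e2⟩ := t.act_uniq (f := h.act c) (fun i u => t.act_e c i u) (g' := id) (σ' := σ) (fun i u => h3 i u)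
  have e3 : ∀ u, t.gg c u = u := fun u => congrFun e2 u
  -- `c³` acts trivially
  have h4 : (c * c * c : centralizer ({z} : Set G)).1 ∈ Q := by
    apply h.mem_of_act
    refine t.act_eq_one ?_ fun u => ?_
    · rw [t.sg_mul, t.sg_mul, e1]; exact h2
    · rw [t.gg_mul, t.gg_mul, e3, e3, e3]
  set x : G := (c * c * c : centralizer ({z} : Set G)).1 with hx
  have h5 : x * x * (x * x) = 1 := by
    rcases h.sq x h4 with h6 | h6
    · rw [h6, one_mul]
    · rw [h6, h.z_sq]
  refine ⟨c * c * (c * c), ?_, ?_, ?_, fun u => ?_⟩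
  · apply Subtype.ext
    show (c : G) * c * (c * c) * (c * c * (c * c)) * (c * c * (c * c)) = 1
    rw [← h5, hx]
    show _ = (c : G) * c * c * (c * c * c) * ((c : G) * c * c * (c * c * c))
    simp only [mul_assoc]
  · rw [t.sg_mul, t.sg_mul, e1]
    have : σ * σ * (σ * σ) = σ := by
      calc σ * σ * (σ * σ) = (σ * σ * σ) * σ := by group
        _ = σ := by rw [h2, one_mul]
    rw [this]; exact h1
  · rw [t.sg_mul, t.sg_mul, e1]
    have : σ * σ * (σ * σ) = σ := by
      calc σ * σ * (σ * σ) = (σ * σ * σ) * σ := by group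
        _ = σ := by rw [h2, one_mul]
    rw [this]; exact h2
  · rw [t.gg_mul, t.gg_mul, t.gg_mul, e3, e3, e3, e3]

end Ten

end Cfsg.Agent.Omega.All.DN
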