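import Cfsg.Agent.Omega.All.HOneSp

/-!
# THEOREM F1-h1 (OMEGA #14479): the end for `F₄(q)` (helper866)

`par_le_ffour` : every `P ∈ P(S)` lies in `Y`; `eq_top_ffour` : `Y = ⊤`.
-/

set_option autoImplicit false

namespace Cfsg.Agent.Omega.All.HOne

open Subgroup Cfsg Cfsg.Agent.ZN Cfsg.Agent.Omega.MinPar Cfsg.Agent.Omega.Frame
open Cfsg.Agent.Omega.FrameLE (AllIn)
open Cfsg.Agent.Omega.FrameNOFF (CZ)
open Cfsg.Agent.MinSimple.VModule (mem_zc zc_le_zl le_normalizer_zl zl_comm)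

universe u

variable {G : Type u} [Group G] [Finite G] {S : Sylow 2 G}

/-- **The end for `F₄(q)`.** -/
theorem par_le_ffour (hE : LemE.{u}) (hc : IsCharacteristicTwoType G) {S₀ Y Cs Cl Xs Xl Qs Ql Us Ul : Subgroup G}
    (D : FFourDat (S : Subgroup G) S₀ Y Cs Cl Xs Xl Qs Ql Us Ul) (hAll : AllIn (S : Subgroup G)) {P : Subgroup G}
    (hP : IsPar (S : Subgroup G) P) : P ≤ Y := by
  by_cases hn : P ≤ normalizer (zc (S : Subgroup G) : Set G)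
  · exact hn.trans (D.norm_zc_le_Y hc)
  by_contra hPY
  have hPS : IsParS (S : Subgroup G) P := ⟨hP, hn⟩
  have hV := hAll P hPS
  rw [D.o2_CZ hc] at hV
  obtain ⟨zs, hzs, hXs, h1s⟩ := D.side_s.exists_z
  obtain ⟨zl', hzl, hXl, h1l⟩ := D.side_l.exists_z
  -- `V_P` is not contained in `U_s` nor in `U_l`
  have hnS : ¬ zl (S : Subgroup G) P ≤ Us := fun h =>
    hPY (le_of_pr hzs h fun g hg => D.pr hc hXs h1s (Or.inl hg))
  have hnL : ¬ zl (S : Subgroup G) P ≤ Ul := fun h =>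
    hPY (le_of_pr hzs h fun g hg => D.pr hc hXs h1s (Or.inr hg))
  have hcl : zl (S : Subgroup G) P ≤ Ql := by
    rcases hE G hc S P Y S₀ _ _ _ _ _ hPS D.S_Y hPY D.offer_l D.S₀_S (D.side_l.S_U hc) D.side_s.S_X
      (fun x hx h1 => D.cen_le_Y hc hx h1) hV with h | h
    · exact (le_inf hV h).trans D.cen_l
    · exact absurd h hnS
  have hcs : zl (S : Subgroup G) P ≤ Qs := by
    rcases hE G hc S P Y S₀ _ _ _ _ _ hPS D.S_Y hPY D.offer_s D.S₀_S (D.side_s.S_U hc) D.side_l.S_X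
      (fun x hx h1 => D.cen_le_Y_l hc hx h1) hV with h | h
    · exact (le_inf hV h).trans D.cen_s
    · exact absurd h hnL
  have hJ : zl (S : Subgroup G) P ≤ Qs ⊓ Ql := le_inf hcs hcl
  -- an element of `P` outside `Y`
  obtain ⟨p, hp, hpY⟩ := SetLike.not_le_iff_exists.1 hPY
  have hpY' : p⁻¹ ∉ Y := fun h => hpY (by have := inv_mem h; rwa [inv_inv] at this)
  have hVn := le_normalizer_zl (S : Subgroup G) P
  have hw := conj_mem_of_normalizer (hVn hp) (zc_le_zl _ P hzl)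
  have hv := conj_mem_of_normalizer (hVn (inv_mem hp)) (zc_le_zl _ P hzs)
  set w := p * zl' * p⁻¹ with hwdef
  set v := p⁻¹ * zs * p⁻¹⁻¹ with hvdef
  obtain ⟨y, -, hy⟩ := D.mix_s w (hJ hw) (fun h => hpY (D.pr_l hc hXl h1l (Or.inl h)))
    (fun h => hpY (D.pr_l hc hXl h1l (Or.inr h))) zs hXs
  obtain ⟨y', -, hy'⟩ := D.mix_l v (hJ hv) (fun h => hpY' (D.pr hc hXs h1s (Or.inl h)))
    (fun h => hpY' (D.pr hc hXs h1s (Or.inr h))) zl' hXl
  -- `V_P` is abelian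
  have hab : zs * w = w * zs := zl_comm hPS.le S.isPGroup' (MinSimple.Basic.not_dvd_relIndex S hPS.le)
    (hPS.isLoc.char2 S hc) _ (zc_le_zl _ P hzs) _ hw
  -- `z_s ∼ z_s w = w z_s ∼ w ∼ z_l`
  refine D.not_conj hc hXs h1s hXl h1l (g := p⁻¹ * y⁻¹ * (p * y' * p⁻¹)) ?_
  have e1 : p * v * p⁻¹ = zs := by rw [hvdef]; group
  calc p⁻¹ * y⁻¹ * (p * y' * p⁻¹) * zs * (p⁻¹ * y⁻¹ * (p * y' * p⁻¹))⁻¹
      = p⁻¹ * y⁻¹ * (p * (y' * v * y'⁻¹) * p⁻¹) * y * p := by rw [← e1]; group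
    _ = p⁻¹ * y⁻¹ * ((p * v * p⁻¹) * (p * zl' * p⁻¹)) * y * p := by rw [hy']; group
    _ = p⁻¹ * y⁻¹ * (w * zs) * y * p := by rw [e1, ← hwdef, hab]
    _ = p⁻¹ * y⁻¹ * (y * w * y⁻¹) * y * p := by rw [hy]
    _ = p⁻¹ * w * p := by group
    _ = zl' := by rw [hwdef]; group

/-- `Full S`: `Y = G`. -/
theorem eq_top_ffour (hE : LemE.{u}) (hc : IsCharacteristicTwoType G) {S₀ Y Cs Cl Xs Xl Qs Ql Us Ul : Subgroup G}
    (D : FFourDat (S : Subgroup G) S₀ Y Cs Cl Xs Xl Qs Ql Us Ul) (hAll : AllIn (S : Subgroup G))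
    (hF : Full (S : Subgroup G)) : Y = ⊤ :=
  eq_top_of_par S hF (D.norm_S_le_Y hc) fun _ hP => par_le_ffour hE hc D hAll hP

end Cfsg.Agent.Omega.All.HOne
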