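import Cfsg.Agent.Omega.All.HOneOff
import Cfsg.Agent.Omega.All.HOneFFour

/-!
# THEOREM F1-h1 (OMEGA #14479)

`FFThm.Stmt`, `S` a Sylow 2-subgroup, `V_P ≤ O₂(C_G(Z))` for all `P ∈ P*(S)`:

* `par_le_sp'`, `par_le_ffour'` : with `SpDat` resp. `FFourDat` every `P ∈ P(S)` lies in `Y`;
* `top_sp`, `top_ffour` : in case `Full S`, `Y = ⊤`.
-/

set_option autoImplicit false

namespace Cfsg.Agent.Omega.All.HOne

open Subgroup Cfsg Cfsg.Agent.ZN Cfsg.Agent.Omega.MinPar Cfsg.Agent.Omega.Frame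
open Cfsg.Agent.Omega.FrameLE (AllIn)

universe u

theorem lemE_prop (hFF : FFThm.Stmt.{u}) : LemE.{u} :=
  fun _ _ _ hG S _ _ _ _ _ _ _ _ h hSY hPY O hS₀ hSU hSX hX hVQ =>
    lemE hFF hG S h hSY hPY O hS₀ hSU hSX hX hVQ

variable {G : Type u} [Group G] [Finite G] {S : Sylow 2 G}

theorem par_le_sp' (hFF : FFThm.Stmt.{u}) (hc : IsCharacteristicTwoType G) {S₀ Y C Xs Qs Us Ul : Subgroup G}
    (D : SpDat (S : Subgroup G) S₀ Y C Xs Qs Us Ul) (hAll : AllIn (S : Subgroup G)) {P : Subgroup G}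
    (hP : IsPar (S : Subgroup G) P) : P ≤ Y := par_le_sp (lemE_prop hFF) hc D hAll hP

theorem top_sp (hFF : FFThm.Stmt.{u}) (hc : IsCharacteristicTwoType G) {S₀ Y C Xs Qs Us Ul : Subgroup G}
    (D : SpDat (S : Subgroup G) S₀ Y C Xs Qs Us Ul) (hAll : AllIn (S : Subgroup G)) (hF : Full (S : Subgroup G)) :
    Y = ⊤ := eq_top_sp (lemE_prop hFF) hc D hAll hF

theorem par_le_ffour' (hFF : FFThm.Stmt.{u}) (hc : IsCharacteristicTwoType G)
    {S₀ Y Cs Cl Xs Xl Qs Ql Us Ul : Subgroup G}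
    (D : FFourDat (S : Subgroup G) S₀ Y Cs Cl Xs Xl Qs Ql Us Ul) (hAll : AllIn (S : Subgroup G)) {P : Subgroup G}
    (hP : IsPar (S : Subgroup G) P) : P ≤ Y := par_le_ffour (lemE_prop hFF) hc D hAll hP

theorem top_ffour (hFF : FFThm.Stmt.{u}) (hc : IsCharacteristicTwoType G)
    {S₀ Y Cs Cl Xs Xl Qs Ql Us Ul : Subgroup G}
    (D : FFourDat (S : Subgroup G) S₀ Y Cs Cl Xs Xl Qs Ql Us Ul) (hAll : AllIn (S : Subgroup G))
    (hF : Full (S : Subgroup G)) : Y = ⊤ := eq_top_ffour (lemE_prop hFF) hc D hAll hF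

end Cfsg.Agent.Omega.All.HOne
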