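import Cfsg.Agent.Omega.All.FFourGZ
import Cfsg.Agent.Omega.All.HOneEnd

/-!
# END `F₄(q)` with a graph element (OMEGA #16413)

`FFourG` : the data (K-side), `FFThm.Stmt`, `AllIn S`:

* `FFourG.norm_zc_le` : `N_G(Z) ≤ Y`;
* `FFourG.not_le_J0` : **(C1)** `V_P` is not contained in `J₀`;
* `FFourG.par_le` : every `P ∈ P(S)` lies in `Y`;
* `FFourG.top` : in case `Full S`, `Y = ⊤`.
-/

set_option autoImplicit false
set_option linter.unusedSectionVars false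
set_option linter.unusedVariables false

namespace Cfsg.Agent.Omega.All.HOne

open Subgroup Cfsg Cfsg.Agent.ZN Cfsg.Agent.Omega.MinPar Cfsg.Agent.Omega.Frame Cfsg.Agent.Omega.FrameFF
open Cfsg.Agent.Omega.FrameLE (AllIn)
open Cfsg.Agent.Omega.FrameNOFF (CZ)
open Cfsg.Agent.Omega.FFThm (elem_zl)
open Cfsg.Agent.MinSimple.VModule (le_o2 mem_zc zc_le zc_comm o2_le o2_isPGroup le_normalizer_o2 le_centralizer_zc
  zc_le_centralizer zc_sq normalizer_le_normalizer_zc zc_le_zl le_normalizer_zl)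

universe u

variable {G : Type u} [Group G]

namespace FFourG

variable [Finite G] {S : Sylow 2 G} {S₁ S₀ Y Cs Cl Xs Xl Qs Ql Us Ul : Subgroup G}
  (D : FFourG (S : Subgroup G) S₁ S₀ Y Cs Cl Xs Xl Qs Ql Us Ul)
include D

/-- `Z ≤ Ω₁(Z(S₁))` -/
theorem zc_le_zc : zc (S : Subgroup G) ≤ zc S₁ := by
  intro z hz
  have h1 := mem_zc.1 hz
  refine mem_zc.2 ⟨D.mem_S₁ h1.1 ?_, fun t ht => h1.2.1 t (D.S₁_S ht), h1.2.2⟩
  refine centralizer_le_normalizer _ (mem_centralizer_iff.2 fun x hx => ?_)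
  exact h1.2.1 x (D.S₁_S (D.dat.side_s.X_S hx))

variable {s a : G} (p : Pt (S : Subgroup G) S₁ Xs s a)
include p

/-- every element of `Z#` is `Y`-conjugate to `z` -/
theorem zc_typ (hc : IsCharacteristicTwoType G) {w : G} (hw : w ∈ zc (S : Subgroup G)) (h1 : w ≠ 1) :
    ∃ y ∈ Y, y * w * y⁻¹ = a * (s * a * s⁻¹) := by
  have key : ¬ (w ∈ Xs ∨ w ∈ Xl) := fun h2 => by
    refine D.not_zc hc (g := 1) h2 h1 ?_
    rw [one_mul, inv_one, mul_one]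
    exact hw
  push Not at key
  exact D.typ3_z p (D.zc_le_Z0 hc (D.zc_le_zc hw)) key.1 key.2

/-- `N_G(Z) ≤ Y` -/
theorem norm_zc_le' (hc : IsCharacteristicTwoType G) : normalizer (zc (S : Subgroup G) : Set G) ≤ Y := by
  intro g hg
  obtain ⟨y, hy, h1⟩ := D.zc_typ p hc (conj_mem_of_normalizer hg (D.z_zc p)) (conj_ne_one (D.z_ne p))
  have h2 : y * g ∈ centralizer ({a * (s * a * s⁻¹)} : Set G) := by
    rw [mem_centralizer_singleton_iff]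
    calc y * g * (a * (s * a * s⁻¹)) = y * (g * (a * (s * a * s⁻¹)) * g⁻¹) * y⁻¹ * (y * g) := by group
      _ = _ := by rw [h1]
  have h3 := D.cen_z_le p hc h2
  have e : g = y⁻¹ * (y * g) := by group
  rw [e]
  exact mul_mem (inv_mem hy) h3

omit p

theorem norm_zc_le (hc : IsCharacteristicTwoType G) : normalizer (zc (S : Subgroup G) : Set G) ≤ Y := by
  obtain ⟨s, a, p⟩ := D.exists_pt
  exact D.norm_zc_le' p hc

theorem norm_S_le (hc : IsCharacteristicTwoType G) : normalizer ((S : Subgroup G) : Set G) ≤ Y :=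
  (normalizer_le_normalizer_zc _).trans (D.norm_zc_le hc)

/-- `V_P ≤ Q_s Q_l` -/
theorem zl_le (hc : IsCharacteristicTwoType G) (hAll : AllIn (S : Subgroup G)) {P : Subgroup G}
    (hP : IsParS (S : Subgroup G) P) : zl (S : Subgroup G) P ≤ Qs ⊔ Ql := by
  refine (hAll P hP).trans (D.W_le hc ?_ ?_)
  · exact Cfsg.Agent.MinSimple.VModule.o2_le_of_sylow S.isPGroup'
      (Cfsg.Agent.MinSimple.Basic.not_dvd_relIndex S (le_centralizer_zc _))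
  · exact (centralizer_le D.zc_le_zc).trans (le_normalizer_o2 _)

/-- **(C1)** `V_P` is not contained in `J₀`. -/
theorem not_le_J0 (hc : IsCharacteristicTwoType G) {P : Subgroup G} (hP : IsParS (S : Subgroup G) P)
    (hPY : ¬ P ≤ Y) : ¬ zl (S : Subgroup G) P ≤ Qs ⊓ Ql := by
  intro hV
  obtain ⟨s, a, p⟩ := D.exists_pt
  obtain ⟨g, hg, hgY⟩ := SetLike.not_le_iff_exists.1 hPY
  have hgY' : g⁻¹ ∉ Y := fun h => hgY (by have := inv_mem h; rwa [inv_inv] at this)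
  have hVn := le_normalizer_zl (S : Subgroup G) P
  have hz := D.z_zc p
  have hzY := D.cen_z_le p hc
  have hprz := fun h => D.pr_z p hc (g := h)
  have hbX := D.b_X p
  set b := s * a * s⁻¹ with hb
  set z := a * b with hzdef
  have hw := conj_mem_of_normalizer (hVn hg) (zc_le_zl _ P hz)
  -- `z^g ∉ U_s ∪ U_l`
  have hwU : ¬ (g * z * g⁻¹ ∈ Us ∨ g * z * g⁻¹ ∈ Ul) := by
    intro h1
    obtain ⟨y, hy, h2⟩ := hprz g h1
    apply hgY
    have e : g = y⁻¹ * (y * g) := by group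
    rw [e]
    exact mul_mem (inv_mem hy) (hzY h2)
  push Not at hwU
  -- `X_s ≤ V_P`
  obtain ⟨q, hq, hq1⟩ := D.mixQ_s _ (hV hw) hwU.1 hwU.2 a p.a_X
  have hqP : q ∈ P := hP.le (D.QQ_S hq)
  have haV : a ∈ zl (S : Subgroup G) P := by
    have h1 := conj_mem_of_normalizer (hVn hqP) hw
    rw [hq1] at h1
    exact (Subgroup.mul_mem_cancel_left _ hw).1 h1
  have hv := conj_mem_of_normalizer (hVn (inv_mem hg)) haV
  -- `a^(g⁻¹) ∉ U_s ∪ U_l`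
  have hvU : ¬ (g⁻¹ * a * g⁻¹⁻¹ ∈ Us ∨ g⁻¹ * a * g⁻¹⁻¹ ∈ Ul) := fun h1 =>
    hgY' (D.pr hc (Or.inl p.a_X) p.a_ne h1)
  push Not at hvU
  set v := g⁻¹ * a * g⁻¹⁻¹ with hvdef
  -- `v z ∼ v`
  obtain ⟨q₁, hq₁, hv1⟩ := D.mixQ_s v (hV hv) hvU.1 hvU.2 a p.a_X
  have haU := D.Z0_Us (mem_sup_left p.a_X : a ∈ Xs ⊔ Xl)
  have haU' := D.Z0_Ul (mem_sup_left p.a_X : a ∈ Xs ⊔ Xl)
  have haJ : a ∈ Qs ⊓ Ql := D.Z0_J0 (mem_sup_left p.a_X)
  obtain ⟨q₂, hq₂, hv2⟩ := D.mixQ_l (v * a) (mul_mem (hV hv) haJ)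
    (fun h2 => hvU.1 ((Subgroup.mul_mem_cancel_right _ haU).1 h2))
    (fun h2 => hvU.2 ((Subgroup.mul_mem_cancel_right _ haU').1 h2)) b hbX
  -- `a ∼ v ∼ v z = z v ∼ z^g a ∼ z^g ∼ z`
  have hab := D.J0_ab hc (hV hv) (D.Z0_J0 (mul_mem (mem_sup_left p.a_X) (mem_sup_right hbX)) : z ∈ Qs ⊓ Ql)
  refine D.not_zc hc (x := a) (g := g⁻¹ * q⁻¹ * g * q₂ * q₁ * g⁻¹) (Or.inl p.a_X) p.a_ne ?_
  have e : g⁻¹ * q⁻¹ * g * q₂ * q₁ * g⁻¹ * a * (g⁻¹ * q⁻¹ * g * q₂ * q₁ * g⁻¹)⁻¹ = z := by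
    calc g⁻¹ * q⁻¹ * g * q₂ * q₁ * g⁻¹ * a * (g⁻¹ * q⁻¹ * g * q₂ * q₁ * g⁻¹)⁻¹
        = g⁻¹ * q⁻¹ * g * (q₂ * (q₁ * v * q₁⁻¹) * q₂⁻¹) * g⁻¹ * q * g := by rw [hvdef]; group
      _ = g⁻¹ * q⁻¹ * g * (v * z) * g⁻¹ * q * g := by rw [hv1, hv2, hzdef, mul_assoc v]
      _ = g⁻¹ * q⁻¹ * g * (z * v) * g⁻¹ * q * g := by rw [hab]
      _ = g⁻¹ * q⁻¹ * (g * z * g⁻¹ * a) * q * g := by rw [hvdef]; group
      _ = g⁻¹ * q⁻¹ * (q * (g * z * g⁻¹) * q⁻¹) * q * g := by rw [hq1]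
      _ = z := by group
  rw [e]
  exact hz

/-- **The end for `F₄(q)` with a graph element.** -/
theorem par_le (hFF : FFThm.Stmt.{u}) (hc : IsCharacteristicTwoType G) (hAll : AllIn (S : Subgroup G))
    {P : Subgroup G} (hP : IsPar (S : Subgroup G) P) : P ≤ Y := by
  by_cases hn : P ≤ normalizer (zc (S : Subgroup G) : Set G)
  · exact hn.trans (D.norm_zc_le hc)
  by_contra hPY
  have hPS : IsParS (S : Subgroup G) P := ⟨hP, hn⟩
  have hV := D.zl_le hc hAll hPS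
  have hVn := le_normalizer_zl (S : Subgroup G) P
  apply D.not_le_J0 hc hPS hPY
  -- (C2)
  have hJs : ∀ u ∈ Ul ⊓ Qs, ∀ v ∈ zl (S : Subgroup G) P, u * v = v * u := by
    refine lemE1 hFF hc S hPS D.S_Y hPY D.dat.offer_l (D.dat.S₀_S.trans D.S₁_S) (fun t ht x hx h1 => ?_) hV
    refine D.cen_le_Y hc ?_ (conj_ne_one h1)
    by_cases ht1 : t ∈ S₁
    · exact Or.inl (conj_mem_of_normalizer (D.S₁_N ht1) hx)
    · exact Or.inr ((D.takX ht ht1).1.mem hx)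
  obtain ⟨s, hs, hs1⟩ := D.swap
  have hJl : ∀ u ∈ Us ⊓ Ql, ∀ v ∈ zl (S : Subgroup G) P, u * v = v * u := by
    intro u hu v hv
    have h1 := (D.takJ hs hs1).2.mem hu
    have h2 := conj_mem_of_normalizer (hVn (hPS.le hs)) hv
    have h3 := hJs _ h1 _ h2
    calc u * v = s⁻¹ * ((s * u * s⁻¹) * (s * v * s⁻¹)) * s := by group
      _ = s⁻¹ * ((s * v * s⁻¹) * (s * u * s⁻¹)) * s := by rw [h3]
      _ = v * u := by group
  refine D.elJ _ hV (elem_zl hc S hPS.isLoc) (hPS.le.trans hVn) fun e he j hj => ?_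
  obtain ⟨j₁, hj₁, j₂, hj₂, rfl⟩ := D.exists_J hc hj
  calc e * (j₁ * j₂) = (e * j₁) * j₂ := by group
    _ = j₁ * (e * j₂) := by rw [← hJs j₁ hj₁ e he]; group
    _ = j₁ * j₂ * e := by rw [← hJl j₂ hj₂ e he]; group

/-- `Full S`: `Y = G`. -/
theorem top (hFF : FFThm.Stmt.{u}) (hc : IsCharacteristicTwoType G) (hAll : AllIn (S : Subgroup G))
    (hF : Full (S : Subgroup G)) : Y = ⊤ :=
  eq_top_of_par S hF (D.norm_S_le hc) fun _ hP => D.par_le hFF hc hAll hP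

end FFourG

end Cfsg.Agent.Omega.All.HOne
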