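import Cfsg.Agent.Omega.All.FFourGBase

/-!
# END `F₄(q)` with a graph element (OMEGA #16413): `W ≤ Q_s Q_l` and (B)

* `FFourG.Js_inf`, `FFourG.Js_sup`, `FFourG.J0_comm` : `J_s ∩ J_l = Z₀`, `J₀ = J_s J_l`, `[J₀, Q_s Q_l] ≤ Z₀`;
* `FFourG.W_le` : a subgroup of `S` normalised by `C_G(Ω₁(Z(S₁)))` lies in `Q_s Q_l`;
* `Pt` : an element `a` of `X_s ∩ Ω₁(Z(S₁))`, `s ∈ S - S₁`, `z = a a^s`;
* `FFourG.cen_z_le` : **(B)** `C_G(z) ≤ Y`.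
-/

set_option autoImplicit false
set_option linter.unusedSectionVars false
set_option linter.unusedVariables false

namespace Cfsg.Agent.Omega.All.HOne

open Subgroup Cfsg Cfsg.Agent.ZN Cfsg.Agent.Omega.MinPar Cfsg.Agent.Omega.Frame
open Cfsg.Agent.Omega.FrameLE (AllIn)
open Cfsg.Agent.Omega.FrameNOFF (CZ)
open Cfsg.Agent.MinSimple.VModule (le_o2 mem_zc zc_le zc_comm o2_le o2_isPGroup le_normalizer_o2 le_centralizer_zc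
  zc_le_centralizer zc_sq normalizer_le_normalizer_zc)
open Cfsg.Agent.MinSimple.Basic (char2_centralizer)
open scoped commutatorElement

universe u

variable {G : Type u} [Group G]

theorem conj_ne_one {x g : G} (h : x ≠ 1) : g * x * g⁻¹ ≠ 1 := fun h2 => h (by
  have e : x = g⁻¹ * (g * x * g⁻¹) * g := by group
  rw [e, h2]; group)

theorem el_inv {A : Subgroup G} (h : IsElementaryAbelian 2 A) {x : G} (hx : x ∈ A) : x⁻¹ = x := by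
  have h1 := h.2 x hx
  rw [pow_two] at h1
  exact inv_eq_of_mul_eq_one_left h1

theorem el_comm {A : Subgroup G} (h : IsElementaryAbelian 2 A) {x y : G} (hx : x ∈ A) (hy : y ∈ A) :
    x * y = y * x := congrArg Subtype.val (h.1.is_comm.comm ⟨x, hx⟩ ⟨y, hy⟩)

/-- `a ∈ X_s# ∩ Ω₁(Z(S₁))`, `s ∈ S - S₁` -/
structure Pt (S S₁ Xs : Subgroup G) (s a : G) : Prop where
  s_S : s ∈ S
  s_not : s ∉ S₁
  a_zc : a ∈ zc S₁
  a_X : a ∈ Xs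
  a_ne : a ≠ 1

namespace FFourG

variable [Finite G] {S : Sylow 2 G} {S₁ S₀ Y Cs Cl Xs Xl Qs Ql Us Ul : Subgroup G}
  (D : FFourG (S : Subgroup G) S₁ S₀ Y Cs Cl Xs Xl Qs Ql Us Ul)
include D

theorem exists_pt : ∃ s a, Pt (S : Subgroup G) S₁ Xs s a := by
  obtain ⟨s, hs, hs1⟩ := D.swap
  obtain ⟨a, ha, hX, h1⟩ := D.exists_zs S.isPGroup'
  exact ⟨s, a, hs, hs1, ha, hX, h1⟩

/-! ### `J_s`, `J_l`, `J₀` -/

theorem J_ne : Ul ⊓ Qs ≠ Us ⊓ Ql := by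
  intro h
  have h1 := D.dat.commJs
  rw [h, D.dat.commJl] at h1
  exact D.Xs_ne_Xl h1.symm

theorem takJ {t : G} (ht : t ∈ (S : Subgroup G)) (h1 : t ∉ S₁) :
    Tak t (Ul ⊓ Qs) (Us ⊓ Ql) ∧ Tak t (Us ⊓ Ql) (Ul ⊓ Qs) :=
  ⟨(D.takU ht h1).2.inf (D.tak_of ht h1).1, (D.takU ht h1).1.inf (D.tak_of ht h1).2⟩

theorem takJ0 {t : G} (ht : t ∈ (S : Subgroup G)) (h1 : t ∉ S₁) : Tak t (Qs ⊓ Ql) (Qs ⊓ Ql) := by
  have h2 := (D.tak_of ht h1).1.inf (D.tak_of ht h1).2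
  rwa [inf_comm Ql Qs] at h2

theorem takZ0 {t : G} (ht : t ∈ (S : Subgroup G)) (h1 : t ∉ S₁) : Tak t (Xs ⊔ Xl) (Xs ⊔ Xl) := by
  have h2 := (D.takX ht h1).1.sup (D.takX ht h1).2
  rwa [sup_comm Xl Xs] at h2

theorem card_J : Nat.card ↥(Ul ⊓ Qs) = Nat.card ↥(Us ⊓ Ql) := by
  obtain ⟨s, hs, hs1⟩ := D.swap
  exact (D.takJ hs hs1).1.card

theorem not_le_J : ¬ Ul ⊓ Qs ≤ Us ⊓ Ql := fun h => D.J_ne (eq_of_le_of_card_ge h D.card_J.ge)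

theorem not_le_J' : ¬ Us ⊓ Ql ≤ Ul ⊓ Qs := fun h => D.J_ne (eq_of_le_of_card_ge h D.card_J.le).symm

theorem CZ_Js (hc : IsCharacteristicTwoType G) : CZ S₁ ≤ normalizer ((Ul ⊓ Qs : Subgroup G) : Set G) :=
  normalizer_inf_le (D.CZ_Ul hc) (D.CZ_Qs hc)

theorem CZ_Jl (hc : IsCharacteristicTwoType G) : CZ S₁ ≤ normalizer ((Us ⊓ Ql : Subgroup G) : Set G) :=
  normalizer_inf_le (D.CZ_Us hc) (D.CZ_Ql hc)

theorem CZ_J0 (hc : IsCharacteristicTwoType G) : CZ S₁ ≤ normalizer ((Qs ⊓ Ql : Subgroup G) : Set G) :=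
  normalizer_inf_le (D.CZ_Qs hc) (D.CZ_Ql hc)

theorem CZ_Z0 (hc : IsCharacteristicTwoType G) : CZ S₁ ≤ normalizer ((Xs ⊔ Xl : Subgroup G) : Set G) :=
  normalizer_sup_le (D.CZ_Xs hc) (D.CZ_Xl hc)

/-- `J_s ∩ J_l = Z₀` -/
theorem Js_inf (hc : IsCharacteristicTwoType G) : Ul ⊓ Qs ⊓ (Us ⊓ Ql) = Xs ⊔ Xl := by
  by_contra hne
  have h1 : Xs ⊔ Xl < Ul ⊓ Qs ⊓ (Us ⊓ Ql) := lt_of_le_of_ne (le_inf D.dat.lt_s.le D.dat.lt_l.le) fun h => hne h.symm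
  rcases D.dat.two _ h1 (lt_of_le_of_lt inf_le_left D.dat.lt_s') (normalizer_inf_le (D.CZ_Js hc) (D.CZ_Jl hc))
    with h | h
  · exact D.not_le_J (h ▸ inf_le_right)
  · exact D.not_le_J' (h ▸ inf_le_left)

/-- `J₀ = J_s J_l` -/
theorem Js_sup (hc : IsCharacteristicTwoType G) : (Ul ⊓ Qs) ⊔ (Us ⊓ Ql) = Qs ⊓ Ql := by
  by_contra hne
  have h1 : (Ul ⊓ Qs) ⊔ (Us ⊓ Ql) < Qs ⊓ Ql := lt_of_le_of_ne (sup_le D.dat.lt_s'.le D.dat.lt_l'.le) hne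
  rcases D.dat.two _ (lt_of_lt_of_le D.dat.lt_s le_sup_left) h1 (normalizer_sup_le (D.CZ_Js hc) (D.CZ_Jl hc))
    with h | h
  · exact D.not_le_J' (h ▸ le_sup_right)
  · exact D.not_le_J (h ▸ le_sup_left)

theorem Js_Jl_comm {a b : G} (ha : a ∈ Ul ⊓ Qs) (hb : b ∈ Us ⊓ Ql) : a * b = b * a := by
  have h1 := ha.1
  rw [D.dat.side_l.U_eq] at h1
  exact (mem_centralizer_iff.1 h1.2 b hb.2).symm

theorem exists_J (hc : IsCharacteristicTwoType G) {x : G} (hx : x ∈ Qs ⊓ Ql) :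
    ∃ a ∈ Ul ⊓ Qs, ∃ b ∈ Us ⊓ Ql, x = a * b := by
  rw [← D.Js_sup hc] at hx
  exact mem_sup_comm (fun _ ha _ hb => D.Js_Jl_comm ha hb) hx

theorem Js_Js_comm {a b : G} (ha : a ∈ Ul ⊓ Qs) (hb : b ∈ Ul ⊓ Qs) : a * b = b * a :=
  el_comm D.dat.side_l.U_el ha.1 hb.1

theorem Jl_Jl_comm {a b : G} (ha : a ∈ Us ⊓ Ql) (hb : b ∈ Us ⊓ Ql) : a * b = b * a :=
  el_comm D.dat.side_s.U_el ha.1 hb.1

/-- `J₀` is abelian -/
theorem J0_ab (hc : IsCharacteristicTwoType G) {x y : G} (hx : x ∈ Qs ⊓ Ql) (hy : y ∈ Qs ⊓ Ql) : x * y = y * x := by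
  obtain ⟨a, ha, b, hb, rfl⟩ := D.exists_J hc hx
  obtain ⟨a', ha', b', hb', rfl⟩ := D.exists_J hc hy
  calc a * b * (a' * b') = a * (b * a') * b' := by group
    _ = (a * a') * (b * b') := by rw [← D.Js_Jl_comm ha' hb]; group
    _ = (a' * a) * (b' * b) := by rw [D.Js_Js_comm ha ha', D.Jl_Jl_comm hb hb']
    _ = a' * (a * b') * b := by group
    _ = a' * b' * (a * b) := by rw [D.Js_Jl_comm ha hb']; group

theorem J0_sq (hc : IsCharacteristicTwoType G) {x : G} (hx : x ∈ Qs ⊓ Ql) : x * x = 1 := by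
  obtain ⟨a, ha, b, hb, rfl⟩ := D.exists_J hc hx
  have h1 := D.dat.side_l.U_el.2 a ha.1
  have h2 := D.dat.side_s.U_el.2 b hb.1
  rw [pow_two] at h1 h2
  calc a * b * (a * b) = a * (b * a) * b := by group
    _ = (a * a) * (b * b) := by rw [← D.Js_Jl_comm ha hb]; group
    _ = 1 := by rw [h1, h2, one_mul]

/-- `[J₀, Q_s Q_l] ≤ Z₀` -/
theorem J0_comm (hc : IsCharacteristicTwoType G) {j q : G} (hj : j ∈ Qs ⊓ Ql) (hq : q ∈ Qs ⊔ Ql) :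
    j * q * j⁻¹ * q⁻¹ ∈ Xs ⊔ Xl := by
  obtain ⟨a, ha, b, hb, rfl⟩ := D.exists_J hc hj
  have h1 : a * q * a⁻¹ * q⁻¹ ∈ Xs := by
    rw [← D.dat.commJs, ← commutatorElement_def]
    exact commutator_mem_commutator ha hq
  have h2 : b * q * b⁻¹ * q⁻¹ ∈ Xl := by
    rw [← D.dat.commJl, ← commutatorElement_def]
    exact commutator_mem_commutator hb hq
  have haQ : a ∈ Qs ⊔ Ql := mem_sup_left ha.2
  have h3 := D.Z0_comm (mem_sup_right h2 : b * q * b⁻¹ * q⁻¹ ∈ Xs ⊔ Xl) haQ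
  have e : a * b * q * (a * b)⁻¹ * q⁻¹ = (b * q * b⁻¹ * q⁻¹) * (a * q * a⁻¹ * q⁻¹) := by
    calc a * b * q * (a * b)⁻¹ * q⁻¹ = a * (b * q * b⁻¹ * q⁻¹) * (q * a⁻¹ * q⁻¹) := by group
      _ = (b * q * b⁻¹ * q⁻¹) * a * (q * a⁻¹ * q⁻¹) := by rw [h3]
      _ = _ := by group
  rw [e]
  exact mul_mem (mem_sup_right h2) (mem_sup_left h1)

theorem J0_QQ : Qs ⊓ Ql ≤ Qs ⊔ Ql := inf_le_left.trans le_sup_left

theorem Z0_J0 : Xs ⊔ Xl ≤ Qs ⊓ Ql := D.dat.lt_s.le.trans D.dat.lt_s'.le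

/-- a `D₁`-invariant group between `Z₀` and `J₀` which meets `J_s` and `J_l` in `Z₀` is `Z₀` -/
theorem no_T (hc : IsCharacteristicTwoType G) {T : Subgroup G} (h1 : Xs ⊔ Xl ≤ T) (h2 : T ≤ Qs ⊓ Ql)
    (h3 : CZ S₁ ≤ normalizer (T : Set G)) (h4 : T ⊓ (Ul ⊓ Qs) ≤ Xs ⊔ Xl) (h5 : T ⊓ (Us ⊓ Ql) ≤ Xs ⊔ Xl) :
    T ≤ Xs ⊔ Xl := by
  by_contra hT
  have h6 : Xs ⊔ Xl < T := lt_of_le_of_ne h1 fun h => hT h.ge
  have h7 : T < Qs ⊓ Ql := lt_of_le_of_ne h2 fun h => by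
    rw [h, inf_eq_right.2 D.dat.lt_s'.le] at h4
    exact absurd D.dat.lt_s (not_lt_of_ge h4)
  rcases D.dat.two T h6 h7 h3 with h | h
  · rw [h, inf_idem] at h4
    exact absurd D.dat.lt_s (not_lt_of_ge h4)
  · rw [h, inf_idem] at h5
    exact absurd D.dat.lt_l (not_lt_of_ge h5)

/-- A subgroup of `S` normalised by `D₁ = C_G(Ω₁(Z(S₁)))` lies in `Q_s Q_l`. -/
theorem W_le (hc : IsCharacteristicTwoType G) {W : Subgroup G} (hWS : W ≤ (S : Subgroup G))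
    (hn : CZ S₁ ≤ normalizer (W : Set G)) : W ≤ Qs ⊔ Ql := by
  have hS₁ : S₁ ≤ CZ S₁ := le_centralizer_zc _
  have hW1 : W ⊓ S₁ ≤ Qs ⊔ Ql := by
    rw [← D.o2_CZ hc]
    refine le_o2 (inf_le_right.trans hS₁) ((D.pg S.isPGroup').to_le inf_le_right) ?_
    refine le_normalizer_of fun d hd x hx => ?_
    have h1 := conj_mem_of_normalizer (hn hd) hx.1
    refine ⟨h1, D.mem_S₁ (hWS h1) ?_⟩
    have h2 := D.CZ_Xs hc hd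
    exact mul_mem (mul_mem h2 (D.S₁_N hx.2)) (inv_mem h2)
  intro w hw
  by_cases hw1 : w ∈ S₁
  · exact hW1 ⟨hw, hw1⟩
  exfalso
  have hwS := hWS hw
  obtain ⟨hws, hwl⟩ := D.takJ hwS hw1
  have hwZ := D.takZ0 hwS hw1
  have hZs : Xs ⊔ Xl ≤ Ul ⊓ Qs := D.dat.lt_s.le
  have hZl : Xs ⊔ Xl ≤ Us ⊓ Ql := D.dat.lt_l.le
  have hsJ : Ul ⊓ Qs ≤ Qs ⊓ Ql := D.dat.lt_s'.le
  have hlJ : Us ⊓ Ql ≤ Qs ⊓ Ql := D.dat.lt_l'.le
  -- the graph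
  let f : ↥(Ul ⊓ Qs) →* G :=
    { toFun := fun j => (j : G) * (w * j * w⁻¹)
      map_one' := by simp
      map_mul' := by
        intro j j'
        have h1 := D.Js_Jl_comm j'.2 (hws.mem j.2)
        show (j : G) * j' * (w * ((j : G) * j') * w⁻¹) = (j : G) * (w * j * w⁻¹) * ((j' : G) * (w * j' * w⁻¹))
        calc (j : G) * j' * (w * ((j : G) * j') * w⁻¹) = j * (j' * (w * j * w⁻¹)) * (w * j' * w⁻¹) := by group
          _ = j * ((w * j * w⁻¹) * j') * (w * j' * w⁻¹) := by rw [h1]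
          _ = _ := by group }
  have hf : ∀ j : ↥(Ul ⊓ Qs), f j = (j : G) * (w * j * w⁻¹) := fun _ => rfl
  have hfJ : f.range ≤ Qs ⊓ Ql := by
    rintro _ ⟨j, rfl⟩
    rw [hf]
    exact mul_mem (hsJ j.2) (hlJ (hws.mem j.2))
  have hTmem : ∀ x ∈ f.range ⊔ (Xs ⊔ Xl), ∃ j : ↥(Ul ⊓ Qs), ∃ z ∈ Xs ⊔ Xl, x = f j * z := by
    intro x hx
    obtain ⟨a, ⟨j, rfl⟩, z, hz, h1⟩ := mem_sup_comm (fun a ha b hb => D.J0_ab hc (hfJ ha) (D.Z0_J0 hb)) hx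
    exact ⟨j, z, hz, h1⟩
  -- `f j ∈ J_s` implies `j ∈ Z₀`
  have hjs : ∀ j : ↥(Ul ⊓ Qs), f j ∈ Ul ⊓ Qs → (j : G) ∈ Xs ⊔ Xl := by
    intro j hj
    rw [hf] at hj
    have h1 : w * (j : G) * w⁻¹ ∈ Ul ⊓ Qs := (Subgroup.mul_mem_cancel_left _ j.2).1 hj
    have h2 : w * (j : G) * w⁻¹ ∈ Xs ⊔ Xl := by
      rw [← D.Js_inf hc]
      exact ⟨h1, hws.mem j.2⟩
    exact (hwZ _).2 h2
  have hjl : ∀ j : ↥(Ul ⊓ Qs), f j ∈ Us ⊓ Ql → (j : G) ∈ Xs ⊔ Xl := by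
    intro j hj
    rw [hf] at hj
    have h1 : (j : G) ∈ Us ⊓ Ql := (Subgroup.mul_mem_cancel_right _ (hws.mem j.2)).1 hj
    rw [← D.Js_inf hc]
    exact ⟨j.2, h1⟩
  have hfZ : ∀ j : ↥(Ul ⊓ Qs), (j : G) ∈ Xs ⊔ Xl → f j ∈ Xs ⊔ Xl := fun j hj => by
    rw [hf]
    exact mul_mem hj (hwZ.mem hj)
  have hT : f.range ⊔ (Xs ⊔ Xl) ≤ Xs ⊔ Xl := by
    refine D.no_T hc le_sup_right (sup_le hfJ D.Z0_J0) ?_ ?_ ?_
    · refine le_normalizer_of fun d hd x hx => ?_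
      obtain ⟨j, z, hz, rfl⟩ := hTmem x hx
      have hdj := conj_mem_of_normalizer (D.CZ_Js hc hd) j.2
      have hdz := conj_mem_of_normalizer (D.CZ_Z0 hc hd) hz
      -- `c = [d, w] ∈ W ∩ S₁ ≤ Q_s Q_l`
      have hcW : d * w * d⁻¹ * w⁻¹ ∈ W := mul_mem (conj_mem_of_normalizer (hn hd) hw) (inv_mem hw)
      have hcX : d * w * d⁻¹ * w⁻¹ ∈ normalizer (Xs : Set G) := by
        have h1 := (D.takX hwS hw1).2.norm (inv_mem (D.CZ_Xl hc hd))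
        have e : d * w * d⁻¹ * w⁻¹ = d * (w * d⁻¹ * w⁻¹) := by group
        rw [e]
        exact mul_mem (D.CZ_Xs hc hd) h1
      have hcQ := hW1 ⟨hcW, D.mem_S₁ (hWS hcW) hcX⟩
      set c := d * w * d⁻¹ * w⁻¹ with hcdef
      have hv := hws.mem hdj
      have h2 := D.J0_comm hc (inv_mem (hlJ hv)) hcQ
      have e : d * (f j * z) * d⁻¹ = f ⟨_, hdj⟩ * (((w * (d * j * d⁻¹) * w⁻¹)⁻¹ * c *
          (w * (d * j * d⁻¹) * w⁻¹)⁻¹⁻¹ * c⁻¹) * (d * z * d⁻¹)) := by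
        rw [hf, hf, hcdef]
        group
      rw [e]
      exact mul_mem (mem_sup_left ⟨_, rfl⟩) (mem_sup_right (mul_mem h2 hdz))
    · rintro x ⟨hx, hxs⟩
      obtain ⟨j, z, hz, rfl⟩ := hTmem x hx
      exact mul_mem (hfZ j (hjs j ((Subgroup.mul_mem_cancel_right _ (hZs hz)).1 hxs))) hz
    · rintro x ⟨hx, hxs⟩
      obtain ⟨j, z, hz, rfl⟩ := hTmem x hx
      exact mul_mem (hfZ j (hjl j ((Subgroup.mul_mem_cancel_right _ (hZl hz)).1 hxs))) hz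
  apply absurd D.dat.lt_s (not_lt_of_ge _)
  intro j hj
  have h1 : f ⟨j, hj⟩ ∈ Xs ⊔ Xl := hT (mem_sup_left ⟨_, rfl⟩)
  exact hjs ⟨j, hj⟩ (hZs h1)

end FFourG

end Cfsg.Agent.Omega.All.HOne
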