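import Cfsg.Agent.Omega.All.HOneDat

/-!
# THEOREM F1-h1 (OMEGA #14479): (A), (B), (PR), (C) (helper866)

`G` of characteristic 2 type, `S` a Sylow 2-subgroup.

* `Side.o2_eq`, `Side.cen_le` : `O₂(C_G(x)) = Q`, `C_G(x) ≤ N_G(Q)` for `1 ≠ x ∈ X`; `Side.norm_Q_le`;
  `Side.C_Q`, `Side.S_Q`, `Side.S_U`;
* `Base S Y X U U'` : the common output: `C_G(x) ≤ Y` (`x ∈ X#`), `N_G(S) ≤ Y`, and (PR): `x ∈ X#`, `g x g⁻¹ ∈ U ∪ U'`
  implies `g ∈ Y`;
* `SpDat.*`, `FFourDat.*` : `C_G(Z) ≤ Y`, `O₂(C_G(Z)) = Q_s Q_l`, `N_G(Z) ≤ N_G(X_s) ≤ Y`, (PR), and for `F₄(q)`: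
  `N_G(Z) ≤ N_G(X_l)`, `C_G(x) ≤ Y` for `x ∈ X_l#`, (PR) for `X_l`, `X_s#` and `X_l#` are not fused in `G`.
-/

set_option autoImplicit false

namespace Cfsg.Agent.Omega.All.HOne

open Subgroup Cfsg Cfsg.Agent.ZN Cfsg.Agent.Omega.MinPar Cfsg.Agent.Omega.Frame
open Cfsg.Agent.Omega.FrameNOFF (CZ)
open Cfsg.Agent.MinSimple.VModule (le_o2 mem_zc zc_le zc_comm o2_le o2_isPGroup le_normalizer_o2 le_centralizer_zc
  zc_le_centralizer zc_sq normalizer_le_normalizer_zc)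
open Cfsg.Agent.MinSimple.Basic (char2_centralizer)
open scoped commutatorElement

universe u

variable {G : Type u} [Group G]

/-! ### Normalisers -/

theorem conj_mem_of_normalizer {A : Subgroup G} {g x : G} (hg : g ∈ normalizer (A : Set G)) (hx : x ∈ A) :
    g * x * g⁻¹ ∈ A := (mem_normalizer_iff.1 hg x).1 hx

theorem conj_mem_of_normalizer' {A : Subgroup G} {g x : G} (hg : g ∈ normalizer (A : Set G)) (hx : x ∈ A) :
    g⁻¹ * x * g ∈ A := by
  have := (mem_normalizer_iff.1 (inv_mem hg) x).1 hx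
  rwa [inv_inv] at this

/-- `N ≤ N_G(A)` from one-sided conjugation -/
theorem le_normalizer_of {N A : Subgroup G} (h : ∀ g ∈ N, ∀ x ∈ A, g * x * g⁻¹ ∈ A) : N ≤ normalizer (A : Set G) := by
  intro g hg
  rw [mem_normalizer_iff]
  intro x
  refine ⟨fun hx => h g hg x hx, fun hx => ?_⟩
  have h1 := h g⁻¹ (inv_mem hg) _ hx
  have e : g⁻¹ * (g * x * g⁻¹) * g⁻¹⁻¹ = x := by group
  rwa [e] at h1

theorem normalizer_centralizer_le {N A : Subgroup G} (h : N ≤ normalizer (A : Set G)) :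
    N ≤ normalizer ((centralizer (A : Set G) : Subgroup G) : Set G) := by
  refine le_normalizer_of fun g hg x hx => ?_
  rw [mem_centralizer_iff] at hx ⊢
  intro a ha
  have h1 := hx _ (conj_mem_of_normalizer' (h hg) ha)
  calc a * (g * x * g⁻¹) = g * (g⁻¹ * a * g * x) * g⁻¹ := by group
    _ = g * (x * (g⁻¹ * a * g)) * g⁻¹ := by rw [h1]
    _ = g * x * g⁻¹ * a := by group

theorem normalizer_inf_le {N A B : Subgroup G} (h1 : N ≤ normalizer (A : Set G)) (h2 : N ≤ normalizer (B : Set G)) :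
    N ≤ normalizer ((A ⊓ B : Subgroup G) : Set G) :=
  le_normalizer_of fun _ hg _ hx => ⟨conj_mem_of_normalizer (h1 hg) hx.1, conj_mem_of_normalizer (h2 hg) hx.2⟩

theorem normalizer_sup_le {N A B : Subgroup G} (h1 : N ≤ normalizer (A : Set G)) (h2 : N ≤ normalizer (B : Set G)) :
    N ≤ normalizer ((A ⊔ B : Subgroup G) : Set G) := by
  refine le_normalizer_of fun g hg x hx => ?_
  have h3 : A ⊔ B ≤ (A ⊔ B).comap (MulAut.conj g).toMonoidHom := by
    rw [sup_le_iff]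
    exact ⟨fun a ha => mem_comap.2 (mem_sup_left (conj_mem_of_normalizer (h1 hg) ha)),
      fun b hb => mem_comap.2 (mem_sup_right (conj_mem_of_normalizer (h2 hg) hb))⟩
  exact h3 hx

theorem normalizer_commutator_le {N A B : Subgroup G} (h1 : N ≤ normalizer (A : Set G))
    (h2 : N ≤ normalizer (B : Set G)) : N ≤ normalizer ((⁅A, B⁆ : Subgroup G) : Set G) := by
  refine le_normalizer_of fun g hg x hx => ?_
  have h3 : ⁅A, B⁆ ≤ (⁅A, B⁆ : Subgroup G).comap (MulAut.conj g).toMonoidHom := by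
    rw [commutator_le]
    intro a ha b hb
    rw [mem_comap]
    have e : (MulAut.conj g).toMonoidHom ⁅a, b⁆ = ⁅g * a * g⁻¹, g * b * g⁻¹⁆ := by
      show g * ⁅a, b⁆ * g⁻¹ = _
      rw [commutatorElement_def, commutatorElement_def]; group
    rw [e]
    exact commutator_mem_commutator (conj_mem_of_normalizer (h1 hg) ha) (conj_mem_of_normalizer (h2 hg) hb)
  exact h3 hx

theorem normalizer_o2_le {N L : Subgroup G} (h : N ≤ normalizer (L : Set G)) : N ≤ normalizer (o2 L : Set G) := by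
  refine le_normalizer_of fun g hg x hx => ?_
  have h1 : (o2 L).map (MulAut.conj g).toMonoidHom ≤ o2 L := by
    refine le_o2 ?_ ((o2_isPGroup L).map _) ?_
    · rintro _ ⟨y, hy, rfl⟩
      exact conj_mem_of_normalizer (h hg) (o2_le L hy)
    · refine le_normalizer_of fun l hl y hy => ?_
      obtain ⟨w, hw, rfl⟩ := hy
      have h2 := conj_mem_of_normalizer (le_normalizer_o2 L (conj_mem_of_normalizer' (h hg) hl)) hw
      refine ⟨_, h2, ?_⟩
      show g * ((g⁻¹ * l * g) * w * (g⁻¹ * l * g)⁻¹) * g⁻¹ = l * (g * w * g⁻¹) * l⁻¹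
      group
  exact h1 ⟨x, hx, rfl⟩

theorem normalizer_centralizer_singleton {x g : G} :
    ∀ c ∈ centralizer ({x} : Set G), g * c * g⁻¹ ∈ centralizer ({g * x * g⁻¹} : Set G) := by
  intro c hc
  rw [mem_centralizer_singleton_iff] at hc ⊢
  calc g * c * g⁻¹ * (g * x * g⁻¹) = g * (c * x) * g⁻¹ := by group
    _ = g * (x * c) * g⁻¹ := by rw [hc]
    _ = _ := by group

theorem mem_normalizer_of_map_eq {T : Subgroup G} {g : G} (h : T.map (MulAut.conj g).toMonoidHom = T) :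
    g ∈ normalizer (T : Set G) := by
  rw [mem_normalizer_iff]
  intro x
  constructor
  · intro hx
    rw [← h]
    exact ⟨x, hx, rfl⟩
  · intro hx
    rw [← h] at hx
    obtain ⟨y, hy, h1⟩ := hx
    have h2 : g * y * g⁻¹ = g * x * g⁻¹ := h1
    have h3 : y = x := mul_left_cancel (mul_right_cancel h2)
    rwa [← h3]

theorem map_eq_of_mem_normalizer {T : Subgroup G} {g : G} (h : g ∈ normalizer (T : Set G)) :
    T.map (MulAut.conj g).toMonoidHom = T := by
  apply le_antisymm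
  · rintro _ ⟨w, hw, rfl⟩
    exact conj_mem_of_normalizer h hw
  · intro w hw
    refine ⟨g⁻¹ * w * g, conj_mem_of_normalizer' h hw, ?_⟩
    show g * (g⁻¹ * w * g) * g⁻¹ = w
    group

/-- an element of odd order modulo `N(T)` which permutes `{T, T'}` normalises `T` -/
theorem mem_normalizer_of_odd {T T' : Subgroup G} (hne : T ≠ T') {g : G}
    (h1 : T.map (MulAut.conj g).toMonoidHom = T ∨ T.map (MulAut.conj g).toMonoidHom = T')
    (h2 : T'.map (MulAut.conj g).toMonoidHom = T ∨ T'.map (MulAut.conj g).toMonoidHom = T') {m : ℕ} (hm : Odd m)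
    (hg : g ^ m ∈ normalizer (T : Set G)) : g ∈ normalizer (T : Set G) := by
  have hinj : Function.Injective (fun A : Subgroup G => A.map (MulAut.conj g).toMonoidHom) :=
    Subgroup.map_injective (MulAut.conj g).injective
  rcases h1 with h1 | h1
  · exact mem_normalizer_of_map_eq h1
  · have h3 : T'.map (MulAut.conj g).toMonoidHom = T := by
      rcases h2 with h2 | h2
      · exact h2
      · exact absurd (hinj (h1.trans h2.symm)) hne
    have h4 : g ^ 2 ∈ normalizer (T : Set G) := by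
      apply mem_normalizer_of_map_eq
      have e : T.map (MulAut.conj (g ^ 2)).toMonoidHom =
          (T.map (MulAut.conj g).toMonoidHom).map (MulAut.conj g).toMonoidHom := by
        rw [map_map]
        congr 1
        ext x
        show g ^ 2 * x * (g ^ 2)⁻¹ = g * (g * x * g⁻¹) * g⁻¹
        rw [pow_two]; group
      rw [e, h1, h3]
    obtain ⟨k, rfl⟩ := hm
    rw [pow_succ', pow_mul] at hg
    exact (Subgroup.mul_mem_cancel_right _ (pow_mem h4 k)).1 hg

/-! ### Burnside -/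

theorem zc_sq' {S : Subgroup G} {x : G} (hx : x ∈ zc S) : x ^ 2 = 1 := zc_sq S x hx

/-- **Burnside**: fusion in `Ω₁(Z(S))` is controlled by `N_G(S)`. -/
theorem burnside [Finite G] (S : Sylow 2 G) {x x' g : G} (hx : x ∈ zc (S : Subgroup G))
    (hx' : x' ∈ zc (S : Subgroup G)) (h : g * x * g⁻¹ = x') :
    ∃ n ∈ normalizer ((S : Subgroup G) : Set G), n * x * n⁻¹ = x' := by
  have hf : Fact (Nat.Prime 2) := ⟨Nat.prime_two⟩
  obtain ⟨n, hn, h1⟩ := S.conj_eq_normalizer_conj_of_mem_centralizer x g⁻¹ (zc_le_centralizer _ hx)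
    (by rw [inv_inv, h]; exact zc_le_centralizer _ hx')
  rw [inv_inv, h] at h1
  refine ⟨n⁻¹, inv_mem hn, ?_⟩
  rw [inv_inv, ← h1]

/-! ### One side -/

namespace Side

variable {Y C X Q U : Subgroup G}

section

variable {S : Subgroup G} (D : Side S Y C X Q U)
include D

theorem norm_Q_le : normalizer (Q : Set G) ≤ normalizer (X : Set G) := by
  rw [← D.comm]
  exact normalizer_commutator_le le_rfl le_rfl

theorem norm_Q_le_U : normalizer (Q : Set G) ≤ normalizer (U : Set G) := by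
  rw [D.U_eq]
  exact normalizer_inf_le le_rfl (normalizer_centralizer_le le_rfl)

theorem U_Q : U ≤ Q := by rw [D.U_eq]; exact inf_le_left

theorem X_Q : X ≤ Q := D.X_U.trans D.U_Q

end

variable {S : Sylow 2 G} (D : Side (S : Subgroup G) Y C X Q U)
include D

/-- an element `≠ 1` of `X ∩ Ω₁(Z(S))` -/
theorem exists_z [Finite G] : ∃ z ∈ zc (S : Subgroup G), z ∈ X ∧ z ≠ 1 := by
  have hf : Fact (Nat.Prime 2) := ⟨Nat.prime_two⟩
  refine exists_zc_mem S.isPGroup' D.X_S D.S_X (fun x hx => ?_) D.X_ne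
  have h1 := D.X_el.2 x hx
  rwa [pow_two] at h1

/-- **(A) for a 2-central element.** -/
theorem o2_eq_zc [Finite G] (hc : IsCharacteristicTwoType G) {z : G} (hz : z ∈ zc (S : Subgroup G)) (hX : z ∈ X)
    (h1 : z ≠ 1) : o2 (centralizer ({z} : Set G)) = Q := by
  have hf : Fact (Nat.Prime 2) := ⟨Nat.prime_two⟩
  have hS : (S : Subgroup G) ≤ centralizer ({z} : Set G) := fun s hs =>
    mem_centralizer_singleton_iff.2 ((mem_zc.1 hz).2.1 s hs)
  have hO : o2 (centralizer ({z} : Set G)) ≤ S := by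
    refine Cfsg.Agent.MinSimple.VModule.o2_le_of_sylow S.isPGroup' ?_
    exact Cfsg.Agent.MinSimple.Basic.not_dvd_relIndex S hS
  have hC : C ≤ centralizer ({z} : Set G) := D.C_X.trans (centralizer_le (by
    intro w hw
    rw [Set.mem_singleton_iff] at hw
    rw [hw]; exact hX))
  have hCO : C ≤ normalizer ((o2 (centralizer ({z} : Set G)) : Subgroup G) : Set G) :=
    hC.trans (le_normalizer_o2 _)
  have hOQ : o2 (centralizer ({z} : Set G)) ≤ Q := by
    intro t ht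
    refine D.fld t (hO ht) fun c hcC => ?_
    have hSC := D.S_C (hO ht)
    have h2 : t * c * t⁻¹ * c⁻¹ ∈ C := mul_mem (conj_mem_of_normalizer hSC hcC) (inv_mem hcC)
    have h3 : t * c * t⁻¹ * c⁻¹ ∈ o2 (centralizer ({z} : Set G)) := by
      have e : t * c * t⁻¹ * c⁻¹ = t * (c * t⁻¹ * c⁻¹) := by group
      rw [e]
      exact mul_mem ht (conj_mem_of_normalizer (hCO hcC) (inv_mem ht))
    refine D.Q_max (o2 (centralizer ({z} : Set G)) ⊓ C) ?_ inf_le_right ?_ ⟨h3, h2⟩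
    · exact (o2_isPGroup _).to_le inf_le_left
    · exact normalizer_inf_le hCO le_normalizer
  refine D.irr _ hOQ hCO ?_
  exact le_trans (inf_le_inf (D.Q_C.trans hC) le_rfl) (char2_centralizer hc (zc_sq' hz) h1)

/-- `C` normalises `Q`. -/
theorem C_Q [Finite G] (hc : IsCharacteristicTwoType G) : C ≤ normalizer (Q : Set G) := by
  obtain ⟨z, hz, hX, h1⟩ := D.exists_z
  have h2 := D.o2_eq_zc hc hz hX h1
  rw [← h2]
  refine le_trans (D.C_X.trans (centralizer_le ?_)) (le_normalizer_o2 _)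
  intro w hw
  rw [Set.mem_singleton_iff] at hw
  rw [hw]; exact hX

/-- `S` normalises `Q`. -/
theorem S_Q [Finite G] (hc : IsCharacteristicTwoType G) : (S : Subgroup G) ≤ normalizer (Q : Set G) := by
  obtain ⟨z, hz, hX, h1⟩ := D.exists_z
  have h2 := D.o2_eq_zc hc hz hX h1
  rw [← h2]
  refine le_trans (fun s hs => ?_) (le_normalizer_o2 _)
  exact mem_centralizer_singleton_iff.2 ((mem_zc.1 hz).2.1 s hs)

theorem S_U [Finite G] (hc : IsCharacteristicTwoType G) : (S : Subgroup G) ≤ normalizer (U : Set G) :=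
  (D.S_Q hc).trans D.norm_Q_le_U

/-- every `x ∈ X#` is conjugate in `Y` to an element of `X ∩ Ω₁(Z(S))` -/
theorem exists_conj_z [Finite G] {x : G} (hx : x ∈ X) (h1 : x ≠ 1) : ∃ y ∈ Y, y ∈ normalizer (X : Set G) ∧
    y ∈ normalizer (Q : Set G) ∧ y * x * y⁻¹ ∈ zc (S : Subgroup G) ∧ y * x * y⁻¹ ∈ X ∧ y * x * y⁻¹ ≠ 1 := by
  obtain ⟨z, hz, hX, hz1⟩ := D.exists_z
  obtain ⟨y, hy, h2, h3, h4⟩ := D.trans x hx z hX h1 hz1
  exact ⟨y, hy, h2, h3, by rw [h4]; exact hz, by rw [h4]; exact hX, by rw [h4]; exact hz1⟩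

/-- **(A)**: `O₂(C_G(x)) = Q` for `1 ≠ x ∈ X`. -/
theorem o2_eq [Finite G] (hc : IsCharacteristicTwoType G) {x : G} (hx : x ∈ X) (h1 : x ≠ 1) :
    o2 (centralizer ({x} : Set G)) = Q := by
  obtain ⟨y, hy, h2, h3, h4, h5, h6⟩ := D.exists_conj_z hx h1
  have h7 := D.o2_eq_zc hc h4 h5 h6
  -- conjugation by `y`
  have key : ∀ (a g : G), (o2 (centralizer ({a} : Set G))).map (MulAut.conj g).toMonoidHom ≤
      o2 (centralizer ({g * a * g⁻¹} : Set G)) := by
    intro a g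
    refine le_o2 ?_ ((o2_isPGroup _).map _) ?_
    · rintro _ ⟨w, hw, rfl⟩
      exact normalizer_centralizer_singleton w (o2_le _ hw)
    · refine le_normalizer_of fun l hl w hw => ?_
      obtain ⟨v, hv, rfl⟩ := hw
      have h8 : g⁻¹ * l * g ∈ centralizer ({a} : Set G) := by
        have := normalizer_centralizer_singleton (g := g⁻¹) l hl
        have e : g⁻¹ * (g * a * g⁻¹) * g⁻¹⁻¹ = a := by group
        rwa [e, inv_inv] at this
      refine ⟨_, conj_mem_of_normalizer (le_normalizer_o2 _ h8) hv, ?_⟩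
      show g * ((g⁻¹ * l * g) * v * (g⁻¹ * l * g)⁻¹) * g⁻¹ = l * (g * v * g⁻¹) * l⁻¹
      group
  apply le_antisymm
  · intro w hw
    have h8 := key x y ⟨w, hw, rfl⟩
    rw [h7] at h8
    have h9 := conj_mem_of_normalizer' h3 h8
    have e : y⁻¹ * ((MulAut.conj y).toMonoidHom w) * y = w := by
      show y⁻¹ * (y * w * y⁻¹) * y = w
      group
    rwa [e] at h9
  · intro w hw
    have h8 := conj_mem_of_normalizer h3 hw
    rw [← h7] at h8
    have h9 := key (y * x * y⁻¹) y⁻¹ ⟨_, h8, rfl⟩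
    have e : y⁻¹ * (y * x * y⁻¹) * y⁻¹⁻¹ = x := by group
    rw [e] at h9
    have e2 : (MulAut.conj y⁻¹).toMonoidHom (y * w * y⁻¹) = w := by
      show y⁻¹ * (y * w * y⁻¹) * y⁻¹⁻¹ = w
      group
    rwa [e2] at h9

/-- **(A)**: `C_G(x) ≤ N_G(Q)` for `1 ≠ x ∈ X`. -/
theorem cen_le [Finite G] (hc : IsCharacteristicTwoType G) {x : G} (hx : x ∈ X) (h1 : x ≠ 1) :
    centralizer ({x} : Set G) ≤ normalizer (Q : Set G) := by
  rw [← D.o2_eq hc hx h1]
  exact le_normalizer_o2 _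

theorem cen_le_X [Finite G] (hc : IsCharacteristicTwoType G) {x : G} (hx : x ∈ X) (h1 : x ≠ 1) :
    centralizer ({x} : Set G) ≤ normalizer (X : Set G) := (D.cen_le hc hx h1).trans D.norm_Q_le

/-- `C_G(Z) ≤ N_G(Q)` -/
theorem CZ_le [Finite G] (hc : IsCharacteristicTwoType G) : CZ (S : Subgroup G) ≤ normalizer (Q : Set G) := by
  obtain ⟨z, hz, hX, h1⟩ := D.exists_z
  refine le_trans (centralizer_le ?_) (D.cen_le hc hX h1)
  intro w hw
  rw [Set.mem_singleton_iff] at hw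
  rw [hw]; exact hz

/-- **(PR)**, abstract: `C_G(x) ≤ Y` for `x ∈ X#` and `N_G(S) ≤ Y`. -/
theorem pr [Finite G] (hY : ∀ x ∈ X, x ≠ 1 → centralizer ({x} : Set G) ≤ Y)
    (hS : normalizer ((S : Subgroup G) : Set G) ≤ Y) {x g : G} (hx : x ∈ X) (h1 : x ≠ 1)
    (hg : ∃ y ∈ Y, y * (g * x * g⁻¹) * y⁻¹ ∈ zc (S : Subgroup G)) : g ∈ Y := by
  obtain ⟨y, hy, h2⟩ := hg
  obtain ⟨t, ht, -, -, h3, h4, h5⟩ := D.exists_conj_z hx h1
  obtain ⟨n, hn, h6⟩ := burnside S h3 h2 (g := y * g * t⁻¹) (by group)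
  have hnY := hS hn
  have h7 : t⁻¹ * n⁻¹ * y * g ∈ centralizer ({x} : Set G) := by
    rw [mem_centralizer_singleton_iff]
    have e : n * t * x * (n * t)⁻¹ = (y * g) * x * (y * g)⁻¹ := by
      calc n * t * x * (n * t)⁻¹ = n * (t * x * t⁻¹) * n⁻¹ := by group
        _ = y * (g * x * g⁻¹) * y⁻¹ := h6
        _ = _ := by group
    calc t⁻¹ * n⁻¹ * y * g * x = (n * t)⁻¹ * ((y * g) * x * (y * g)⁻¹) * (y * g) := by group
      _ = (n * t)⁻¹ * (n * t * x * (n * t)⁻¹) * (y * g) := by rw [e]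
      _ = x * (t⁻¹ * n⁻¹ * y * g) := by group
  have h8 := hY x hx h1 h7
  have e2 : g = y⁻¹ * (n * (t * (t⁻¹ * n⁻¹ * y * g))) := by group
  rw [e2]
  exact mul_mem (inv_mem hy) (mul_mem hnY (mul_mem ht h8))

end Side

/-! ### `Sp_{2n}(q)` -/

namespace SpDat

variable {S : Sylow 2 G} {S₀ Y C Xs Qs Us Ul : Subgroup G} (D : SpDat (S : Subgroup G) S₀ Y C Xs Qs Us Ul)
include D

/-- `C_G(x) ≤ Y` for `1 ≠ x ∈ X_s` -/
theorem cen_le_Y [Finite G] (hc : IsCharacteristicTwoType G) {x : G} (hx : x ∈ Xs) (h1 : x ≠ 1) :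
    centralizer ({x} : Set G) ≤ Y := (D.side.cen_le_X hc hx h1).trans D.N_Y

/-- **(B)**: `C_G(Z) ≤ Y` -/
theorem CZ_le [Finite G] (hc : IsCharacteristicTwoType G) : CZ (S : Subgroup G) ≤ Y :=
  (D.side.CZ_le hc).trans (D.side.norm_Q_le.trans D.N_Y)

theorem o2_CZ [Finite G] (hc : IsCharacteristicTwoType G) : o2 (CZ (S : Subgroup G)) = Qs ⊔ Ul := D.oZ (D.CZ_le hc)

/-- `N_G(Z) ≤ N_G(Q_s Q_l)` -/
theorem norm_zc_le_QQ [Finite G] (hc : IsCharacteristicTwoType G) :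
    normalizer (zc (S : Subgroup G) : Set G) ≤ normalizer ((Qs ⊔ Ul : Subgroup G) : Set G) := by
  rw [← D.o2_CZ hc]
  exact normalizer_o2_le (normalizer_centralizer_le le_rfl)

/-- **(B)**: `N_G(Z) ≤ N_G(X_s)` -/
theorem norm_zc_le [Finite G] (hc : IsCharacteristicTwoType G) :
    normalizer (zc (S : Subgroup G) : Set G) ≤ normalizer (Xs : Set G) := by
  have h1 := D.norm_zc_le_QQ hc
  have h2 := normalizer_commutator_le (normalizer_commutator_le h1 h1) h1
  rwa [D.lcs] at h2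

theorem norm_zc_le_Y [Finite G] (hc : IsCharacteristicTwoType G) :
    normalizer (zc (S : Subgroup G) : Set G) ≤ Y := (D.norm_zc_le hc).trans D.N_Y

theorem norm_S_le_Y [Finite G] (hc : IsCharacteristicTwoType G) :
    normalizer ((S : Subgroup G) : Set G) ≤ Y :=
  (normalizer_le_normalizer_zc _).trans (D.norm_zc_le_Y hc)

/-- **(PR)** -/
theorem pr [Finite G] (hc : IsCharacteristicTwoType G) {x g : G} (hx : x ∈ Xs) (h1 : x ≠ 1)
    (hg : g * x * g⁻¹ ∈ Us ∨ g * x * g⁻¹ ∈ Ul) : g ∈ Y := by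
  refine D.side.pr (fun x hx h1 => D.cen_le_Y hc hx h1) (D.norm_S_le_Y hc) hx h1 ?_
  rcases hg with hg | hg
  · exact D.side.typ _ hg
  · exact D.typ_l _ hg

/-- `N_G(U_l) ≤ Y` -/
theorem norm_Ul_le [Finite G] (hc : IsCharacteristicTwoType G) : normalizer (Ul : Set G) ≤ Y := by
  intro g hg
  obtain ⟨z, -, hX, h1⟩ := D.side.exists_z
  exact D.pr hc hX h1 (Or.inr (conj_mem_of_normalizer hg (D.Xs_Ul hX)))

end SpDat

/-! ### `F₄(q)` -/

namespace FFourDat

variable {S : Sylow 2 G} {S₀ Y Cs Cl Xs Xl Qs Ql Us Ul : Subgroup G}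
  (D : FFourDat (S : Subgroup G) S₀ Y Cs Cl Xs Xl Qs Ql Us Ul)
include D

theorem cen_le_Y [Finite G] (hc : IsCharacteristicTwoType G) {x : G} (hx : x ∈ Xs) (h1 : x ≠ 1) :
    centralizer ({x} : Set G) ≤ Y := (D.side_s.cen_le_X hc hx h1).trans D.N_Y

/-- **(B)**: `C_G(Z) ≤ Y` -/
theorem CZ_le [Finite G] (hc : IsCharacteristicTwoType G) : CZ (S : Subgroup G) ≤ Y :=
  (D.side_s.CZ_le hc).trans (D.side_s.norm_Q_le.trans D.N_Y)

theorem o2_CZ [Finite G] (hc : IsCharacteristicTwoType G) : o2 (CZ (S : Subgroup G)) = Qs ⊔ Ql := D.oZ (D.CZ_le hc)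

/-- `N_G(Z) ≤ N_G(Q_s Q_l)` -/
theorem norm_zc_le_QQ [Finite G] (hc : IsCharacteristicTwoType G) :
    normalizer (zc (S : Subgroup G) : Set G) ≤ normalizer ((Qs ⊔ Ql : Subgroup G) : Set G) := by
  rw [← D.o2_CZ hc]
  exact normalizer_o2_le (normalizer_centralizer_le le_rfl)

theorem norm_zc_le_J0 [Finite G] (hc : IsCharacteristicTwoType G) :
    normalizer (zc (S : Subgroup G) : Set G) ≤ normalizer ((Qs ⊓ Ql : Subgroup G) : Set G) := by
  have h1 := D.norm_zc_le_QQ hc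
  have h2 := normalizer_commutator_le h1 h1
  rwa [D.comm0] at h2

theorem norm_zc_le_Z0 [Finite G] (hc : IsCharacteristicTwoType G) :
    normalizer (zc (S : Subgroup G) : Set G) ≤ normalizer ((Xs ⊔ Xl : Subgroup G) : Set G) := by
  have h1 := D.norm_zc_le_QQ hc
  have h2 := normalizer_inf_le h1 (normalizer_centralizer_le h1)
  rwa [D.cen0] at h2

/-- an element of `N_G(Z)` permutes `J_s`, `J_l` -/
theorem conj_J [Finite G] (hc : IsCharacteristicTwoType G) {g : G} (hg : g ∈ normalizer (zc (S : Subgroup G) : Set G))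
    {T : Subgroup G} (hT : T = Ul ⊓ Qs ∨ T = Us ⊓ Ql) :
    T.map (MulAut.conj g).toMonoidHom = Ul ⊓ Qs ∨ T.map (MulAut.conj g).toMonoidHom = Us ⊓ Ql := by
  have hT1 : Xs ⊔ Xl < T := by
    rcases hT with rfl | rfl
    · exact D.lt_s
    · exact D.lt_l
  have hT2 : T < Qs ⊓ Ql := by
    rcases hT with rfl | rfl
    · exact D.lt_s'
    · exact D.lt_l'
  have hCs := D.side_s.CZ_le hc
  have hCl := D.side_l.CZ_le hc
  have hT3 : CZ (S : Subgroup G) ≤ normalizer (T : Set G) := by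
    rcases hT with rfl | rfl
    · exact normalizer_inf_le (hCl.trans D.side_l.norm_Q_le_U) hCs
    · exact normalizer_inf_le (hCs.trans D.side_s.norm_Q_le_U) hCl
  have hZ := D.norm_zc_le_Z0 hc hg
  have hJ := D.norm_zc_le_J0 hc hg
  have hinj : Function.Injective (MulAut.conj g).toMonoidHom := (MulAut.conj g).injective
  refine D.two _ ?_ ?_ ?_
  · rw [← map_eq_of_mem_normalizer hZ]
    exact (map_lt_map_iff_of_injective hinj).2 hT1
  · rw [← map_eq_of_mem_normalizer hJ]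
    exact (map_lt_map_iff_of_injective hinj).2 hT2
  · refine le_normalizer_of fun l hl w hw => ?_
    obtain ⟨v, hv, rfl⟩ := hw
    have h1 : g⁻¹ * l * g ∈ CZ (S : Subgroup G) :=
      conj_mem_of_normalizer' (normalizer_centralizer_le le_rfl hg) hl
    refine ⟨_, conj_mem_of_normalizer (hT3 h1) hv, ?_⟩
    show g * ((g⁻¹ * l * g) * v * (g⁻¹ * l * g)⁻¹) * g⁻¹ = l * (g * v * g⁻¹) * l⁻¹
    group

theorem J_ne : Ul ⊓ Qs ≠ Us ⊓ Ql := by
  intro h
  have h1 := D.commJs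
  rw [h, D.commJl] at h1
  have h2 := D.Xs_Xl
  rw [h1, inf_idem] at h2
  exact D.side_s.X_ne h2

/-- `N_G(Z) ≤ N_G(J_s) ∩ N_G(J_l)` -/
theorem norm_zc_le_J [Finite G] (hc : IsCharacteristicTwoType G) :
    normalizer (zc (S : Subgroup G) : Set G) ≤ normalizer ((Ul ⊓ Qs : Subgroup G) : Set G) ⊓
      normalizer ((Us ⊓ Ql : Subgroup G) : Set G) := by
  have hf : Fact (Nat.Prime 2) := ⟨Nat.prime_two⟩
  intro g hg
  have hCs := D.side_s.CZ_le hc
  have hCl := D.side_l.CZ_le hc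
  have hfixs : CZ (S : Subgroup G) ≤ normalizer ((Ul ⊓ Qs : Subgroup G) : Set G) :=
    normalizer_inf_le (hCl.trans D.side_l.norm_Q_le_U) hCs
  have hfixl : CZ (S : Subgroup G) ≤ normalizer ((Us ⊓ Ql : Subgroup G) : Set G) :=
    normalizer_inf_le (hCs.trans D.side_s.norm_Q_le_U) hCl
  -- an odd power of `g` lies in `C_G(Z)`
  obtain ⟨m, hm, hgm⟩ : ∃ m : ℕ, Odd m ∧ g ^ m ∈ CZ (S : Subgroup G) := by
    have hn : normalizer (zc (S : Subgroup G) : Set G) ≤ normalizer ((CZ (S : Subgroup G) : Subgroup G) : Set G) :=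
      normalizer_centralizer_le le_rfl
    have h1 : ((CZ (S : Subgroup G)).subgroupOf (normalizer (zc (S : Subgroup G) : Set G))).Normal :=
      normal_subgroupOf_of_le_normalizer hn
    refine ⟨((CZ (S : Subgroup G)).subgroupOf (normalizer (zc (S : Subgroup G) : Set G))).index, ?_, ?_⟩
    · rw [← Nat.not_even_iff_odd, even_iff_two_dvd]
      intro h2
      have h3 : (CZ (S : Subgroup G)).relIndex (normalizer (zc (S : Subgroup G) : Set G)) ∣
          (CZ (S : Subgroup G)).index := relIndex_dvd_index_of_le (centralizer_le_normalizer _)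
      have h4 : (CZ (S : Subgroup G)).index ∣ (S : Subgroup G).index := index_dvd_of_le (le_centralizer_zc _)
      exact S.not_dvd_index ((h2.trans h3).trans h4)
    · have h2 := Subgroup.pow_index_mem ((CZ (S : Subgroup G)).subgroupOf (normalizer (zc (S : Subgroup G) : Set G)))
        (⟨g, hg⟩ : normalizer (zc (S : Subgroup G) : Set G))
      exact h2
  have h1 := D.conj_J hc hg (Or.inl rfl)
  have h2 := D.conj_J hc hg (Or.inr rfl)
  exact ⟨mem_normalizer_of_odd D.J_ne h1 h2 hm (hfixs hgm),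
    mem_normalizer_of_odd (fun h => D.J_ne h.symm) h2.symm h1.symm hm (hfixl hgm)⟩

/-- **(B)**: `N_G(Z) ≤ N_G(X_s)` -/
theorem norm_zc_le_s [Finite G] (hc : IsCharacteristicTwoType G) :
    normalizer (zc (S : Subgroup G) : Set G) ≤ normalizer (Xs : Set G) := by
  have h1 := normalizer_commutator_le ((D.norm_zc_le_J hc).trans inf_le_left) (D.norm_zc_le_QQ hc)
  rwa [D.commJs] at h1

/-- **(B)**: `N_G(Z) ≤ N_G(X_l)` -/
theorem norm_zc_le_l [Finite G] (hc : IsCharacteristicTwoType G) :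
    normalizer (zc (S : Subgroup G) : Set G) ≤ normalizer (Xl : Set G) := by
  have h1 := normalizer_commutator_le ((D.norm_zc_le_J hc).trans inf_le_right) (D.norm_zc_le_QQ hc)
  rwa [D.commJl] at h1

theorem norm_zc_le_Y [Finite G] (hc : IsCharacteristicTwoType G) :
    normalizer (zc (S : Subgroup G) : Set G) ≤ Y := (D.norm_zc_le_s hc).trans D.N_Y

theorem norm_S_le_Y [Finite G] (hc : IsCharacteristicTwoType G) :
    normalizer ((S : Subgroup G) : Set G) ≤ Y :=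
  (normalizer_le_normalizer_zc _).trans (D.norm_zc_le_Y hc)

/-- **(PR)** for `X_s` -/
theorem pr [Finite G] (hc : IsCharacteristicTwoType G) {x g : G} (hx : x ∈ Xs) (h1 : x ≠ 1)
    (hg : g * x * g⁻¹ ∈ Us ∨ g * x * g⁻¹ ∈ Ul) : g ∈ Y := by
  refine D.side_s.pr (fun x hx h1 => D.cen_le_Y hc hx h1) (D.norm_S_le_Y hc) hx h1 ?_
  rcases hg with hg | hg
  · exact D.side_s.typ _ hg
  · exact D.side_l.typ _ hg

/-- `N_G(U_l) ≤ Y` -/
theorem norm_Ul_le [Finite G] (hc : IsCharacteristicTwoType G) : normalizer (Ul : Set G) ≤ Y := by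
  intro g hg
  obtain ⟨z, -, hX, h1⟩ := D.side_s.exists_z
  exact D.pr hc hX h1 (Or.inr (conj_mem_of_normalizer hg (D.Xs_Ul hX)))

/-- **(C)**: `C_G(x) ≤ Y` for `1 ≠ x ∈ X_l` -/
theorem cen_le_Y_l [Finite G] (hc : IsCharacteristicTwoType G) {x : G} (hx : x ∈ Xl) (h1 : x ≠ 1) :
    centralizer ({x} : Set G) ≤ Y :=
  ((D.side_l.cen_le hc hx h1).trans D.side_l.norm_Q_le_U).trans (D.norm_Ul_le hc)

/-- **(PR)** for `X_l` -/
theorem pr_l [Finite G] (hc : IsCharacteristicTwoType G) {x g : G} (hx : x ∈ Xl) (h1 : x ≠ 1)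
    (hg : g * x * g⁻¹ ∈ Us ∨ g * x * g⁻¹ ∈ Ul) : g ∈ Y := by
  refine D.side_l.pr (fun x hx h1 => D.cen_le_Y_l hc hx h1) (D.norm_S_le_Y hc) hx h1 ?_
  rcases hg with hg | hg
  · exact D.side_s.typ _ hg
  · exact D.side_l.typ _ hg

/-- **(B)**: no element of `X_s#` is conjugate in `G` to an element of `X_l#`. -/
theorem not_conj [Finite G] (hc : IsCharacteristicTwoType G) {x x' g : G} (hx : x ∈ Xs) (h1 : x ≠ 1)
    (hx' : x' ∈ Xl) (h1' : x' ≠ 1) : g * x * g⁻¹ ≠ x' := by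
  intro h
  obtain ⟨y, -, -, -, h3, h4, h5⟩ := D.side_s.exists_conj_z hx h1
  obtain ⟨y', -, -, -, h3', h4', h5'⟩ := D.side_l.exists_conj_z hx' h1'
  obtain ⟨n, hn, h6⟩ := burnside S h3 h3' (g := y' * g * y⁻¹) (by rw [← h]; group)
  have h7 : n ∈ normalizer (Xs : Set G) := D.norm_zc_le_s hc (normalizer_le_normalizer_zc _ hn)
  have h8 := conj_mem_of_normalizer h7 h4
  rw [h6] at h8
  have h9 : y' * x' * y'⁻¹ ∈ Xs ⊓ Xl := ⟨h8, h4'⟩
  rw [D.Xs_Xl] at h9
  exact h5' (mem_bot.1 h9)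

end FFourDat

end Cfsg.Agent.Omega.All.HOne
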