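import Cfsg.Agent.Omega.All.HOneNat

/-!
# LEMMA E (OMEGA #14479), natural modules

`M : NatK F S P V D k`, `V = V_P ≤ QQ`, `V` not in `C(U)`.

* `nat_offer` : `U` induces on `V / D` exactly the upper unitriangular elements;
* `nat_J` : (E1) `[V, J] = 1`;
* `nat_E` : (E2) `V ≤ U'`.
-/

set_option autoImplicit false
set_option linter.unusedSectionVars false

namespace Cfsg.Agent.Omega.All.HOne

open Subgroup Cfsg Cfsg.Agent.ZN Cfsg.Agent.Omega.MinPar Cfsg.Agent.Omega.FrameFF Cfsg.Agent.Omega.FFThm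
open Cfsg.Agent.Lib.SL2Mat Cfsg.Agent.Omega.NatPair
open Cfsg.Agent.MinSimple.VModule (oddGen mem_zc zc_le_zl)
open Cfsg.Agent.Omega.NoFF.LinesPlug (oddGen_sup)

universe u

variable {G : Type u} [Group G]

/-- a group of order at most `|F| |C|` -/
theorem card_le_of_fibre {F : Type*} [Finite F] {U C : Subgroup G} [Finite C] (f : U → F)
    (hf : ∀ a b : U, f a = f b → (a : G)⁻¹ * b ∈ C) : Nat.card U ≤ Nat.card F * Nat.card C := by
  classical
  by_cases hne : Nonempty U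
  · obtain ⟨u₀⟩ := hne
    let r : F → U := fun c => if h : ∃ a, f a = c then h.choose else u₀
    have hr : ∀ a : U, f (r (f a)) = f a := fun a => by
      have h : ∃ b, f b = f a := ⟨a, rfl⟩
      simp only [r, dif_pos h]
      exact h.choose_spec
    rw [← Nat.card_prod]
    refine Nat.card_le_card_of_injective (fun a : U => (f a, (⟨((r (f a) : U) : G)⁻¹ * a, hf _ _ (hr a)⟩ : C))) ?_
    intro a b hab
    have h1 : f a = f b := congrArg Prod.fst hab
    have h2 : ((r (f a) : U) : G)⁻¹ * a = ((r (f b) : U) : G)⁻¹ * b := congrArg (fun x : F × C => (x.2 : G)) hab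
    rw [h1] at h2
    exact Subtype.ext (mul_left_cancel h2)
  · exact absurd ⟨1⟩ hne

section nat

variable [Finite G] (hG : IsCharacteristicTwoType G) (S : Sylow 2 G) {P : Subgroup G}
  (h : IsParS (S : Subgroup G) P) {F : Type} [Field F] {k : ℕ}
  (M : NatK F (S : Subgroup G) P (zl (S : Subgroup G) P) (cv (S : Subgroup G) P) k)

/-- `a` induces the upper unitriangular element `b` -/
abbrev AU (a : G) (b : Fin k → F) : Prop :=
  ActsSL M.e (zl (S : Subgroup G) P) (cv (S : Subgroup G) P) a fun i => up (b i)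

omit [Finite G] in
theorem au_0 {a : G} {b : Fin k → F} (ha : a ∈ P) (hab : AU S M a b) {v : G} (hv : v ∈ zl (S : Subgroup G) P)
    (i : Fin k) : M.e (a * v * a⁻¹ * v⁻¹) i 0 = b i * M.e v i 1 := by
  rw [nat_div M (conjZ ha hv) hv, Pi.sub_apply, hab.1 v hv, Pi.sub_apply, ap_up_0]
  ring

omit [Finite G] in
theorem au_1 {a : G} {b : Fin k → F} (ha : a ∈ P) (hab : AU S M a b) {v : G} (hv : v ∈ zl (S : Subgroup G) P)
    (i : Fin k) : M.e (a * v * a⁻¹ * v⁻¹) i 1 = 0 := by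
  rw [nat_div M (conjZ ha hv) hv, Pi.sub_apply, hab.1 v hv, Pi.sub_apply, ap_up_1, sub_self]

omit [Finite G] in
theorem au_eq {a : G} {b : Fin k → F} (ha : a ∈ P) (hab : AU S M a b) {v : G} (hv : v ∈ zl (S : Subgroup G) P)
    (hc : a * v = v * a) (i : Fin k) : b i * M.e v i 1 = 0 := by
  rw [← au_0 S M ha hab hv i]
  have e : a * v * a⁻¹ * v⁻¹ = 1 := by rw [hc]; group
  rw [e, nat_one]
  rfl

omit [Finite G] in
theorem au_D {a : G} {b : Fin k → F} (ha : a ∈ P) (hab : AU S M a b) {v : G} (hv : v ∈ zl (S : Subgroup G) P)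
    (hz : ∀ i, b i * M.e v i 1 = 0) : a * v * a⁻¹ * v⁻¹ ∈ cv (S : Subgroup G) P := by
  rw [← M.ker _ (mul_mem (conjZ ha hv) (inv_mem hv))]
  funext i
  refine ext2 ?_ ?_
  · rw [au_0 S M ha hab hv, hz]; rfl
  · rw [au_1 S M ha hab hv]; rfl

include hG h in
theorem au_zero {a : G} {b : Fin k → F} (ha : a ∈ (S : Subgroup G)) (hab : AU S M a b) (hb : ∀ i, b i = 0) :
    ∀ v ∈ zl (S : Subgroup G) P, a * v = v * a := by
  refine comm_of_sec hG S h ha fun v hv => ?_
  refine au_D S M (h.le ha) hab hv fun i => ?_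
  rw [hb, zero_mul]

include hG h in
/-- `U` induces exactly the upper unitriangular elements -/
theorem nat_offer {U : Subgroup G} (hUS : U ≤ (S : Subgroup G)) (hoff : Off (zl (S : Subgroup G) P) U)
    (hSU : (S : Subgroup G) ≤ normalizer (U : Set G)) :
    (∀ a ∈ U, ∃ b, AU S M a b) ∧ ∀ b, ∃ a ∈ U, AU S M a b := by
  obtain ⟨I, h1, h2⟩ := M.off U hUS hoff
  have hne : ∃ i, i ∈ I := by
    by_contra hcon
    push Not at hcon
    apply hoff.ne
    intro a ha
    obtain ⟨b, hb, hab⟩ := h1 a ha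
    rw [mem_centralizer_iff]
    exact fun v hv => (au_zero hG S h M (hUS ha) hab (fun i => hb i (hcon i)) v hv).symm
  obtain ⟨i, hi⟩ := hne
  have hall : ∀ j, j ∈ I := by
    intro j
    by_contra hj
    obtain ⟨t, ht, htij⟩ := M.trans i j
    have htP := h.le ht
    obtain ⟨a, ha, hab⟩ := h2 (Function.update (0 : Fin k → F) i 1) fun l hl => by
      rw [Function.update_of_ne]
      · rfl
      · rintro rfl; exact hl hi
    have haP := h.le (hUS ha)
    have ha' : t * a * t⁻¹ ∈ U := (mem_normalizer_iff.1 (hSU ht) a).1 ha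
    obtain ⟨b', hb', hab'⟩ := h1 _ ha'
    have ha'P := h.le (hUS ha')
    obtain ⟨w, hw, hwi, -⟩ := nat_single M i ![0, 1]
    have h3 : M.e (a * w * a⁻¹ * w⁻¹) i ≠ 0 := by
      intro h4
      have h5 := au_0 S M haP hab hw i
      rw [h4, Function.update_self, hwi, one_mul] at h5
      exact zero_ne_one h5
    apply h3
    rw [← htij _ (mul_mem (conjZ haP hw) (inv_mem hw))]
    have e1 : t * (a * w * a⁻¹ * w⁻¹) * t⁻¹ =
      t * a * t⁻¹ * (t * w * t⁻¹) * (t * a * t⁻¹)⁻¹ * (t * w * t⁻¹)⁻¹ := by group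
    rw [e1]
    have htw := conjZ htP hw
    refine ext2 ?_ ?_
    · rw [au_0 S M ha'P hab' htw, hb' j hj, zero_mul]; rfl
    · rw [au_1 S M ha'P hab' htw]; rfl
  refine ⟨fun a ha => ?_, fun b => ?_⟩
  · obtain ⟨b, -, hb⟩ := h1 a ha
    exact ⟨b, hb⟩
  · exact h2 b fun l hl => absurd (hall l) hl

variable {S₀ QQ U J X U' Y : Subgroup G} (O : Offer S₀ QQ U J X U') (hVQ : zl (S : Subgroup G) P ≤ QQ)
  (hS₀ : S₀ ≤ (S : Subgroup G)) (hSU : (S : Subgroup G) ≤ normalizer (U : Set G))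
  (hVU : ¬ zl (S : Subgroup G) P ≤ centralizer (U : Set G))

omit [Finite G] in
include O hVQ hVU in
theorem off_U : Off (zl (S : Subgroup G) P) U :=
  ⟨O.U_el, fun h => hVU (le_centralizer_iff.1 h), O.off _ hVQ⟩

include hG h M O hVQ hS₀ hVU in
/-- (E1) `[V, J] = 1` -/
theorem nat_J [Finite F] [CharP F 2] (hSY : (S : Subgroup G) ≤ Y) (hPY : ¬ P ≤ Y)
    (hX : ∀ x ∈ X, x ≠ 1 → centralizer ({x} : Set G) ≤ Y) :
    ∀ u ∈ J, ∀ v ∈ zl (S : Subgroup G) P, u * v = v * u := by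
  have hUS : U ≤ (S : Subgroup G) := O.U_S₀.trans hS₀
  have h1 : ∀ a ∈ U, ∃ b, AU S M a b := by
    obtain ⟨I, h1, -⟩ := M.off U hUS (off_U S O hVQ hVU)
    intro a ha
    obtain ⟨b, -, hb⟩ := h1 a ha
    exact ⟨b, hb⟩
  by_contra hcon
  push Not at hcon
  obtain ⟨u, hu, v₀, hv₀, huv⟩ := hcon
  have huU := O.J_U hu
  have huP := h.le (hUS huU)
  obtain ⟨b, hb⟩ := h1 u huU
  obtain ⟨i, hi⟩ : ∃ i, b i ≠ 0 := by
    by_contra hc
    push Not at hc
    exact huv (au_zero hG S h M (hUS huU) hb hc v₀ hv₀)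
  -- elements of `X ∩ V`
  have hXV : ∀ c : F, ∃ x ∈ X, x ∈ zl (S : Subgroup G) P ∧ M.e x i 0 = b i * c ∧ ∀ l, l ≠ i → M.e x l = 0 := by
    intro c
    obtain ⟨v, hv, hvi, hvl⟩ := nat_single M i ![0, c]
    refine ⟨_, O.comm u hu v (hVQ hv), mul_mem (conjZ huP hv) (inv_mem hv), ?_, fun l hl => ?_⟩
    · rw [au_0 S M huP hb hv, hvi]; rfl
    · refine ext2 ?_ ?_
      · rw [au_0 S M huP hb hv, hvl l hl]; exact mul_zero _
      · rw [au_1 S M huP hb hv]; rfl
  choose x hxX hxV hx0 hxl using hXV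
  have hx1 : x 1 ≠ 1 := by
    intro h3
    have h4 := hx0 1
    rw [h3, nat_one, mul_one] at h4
    exact hi h4.symm
  have hone : ∀ l, l = i := by
    intro l
    by_contra hl
    have h3 := nat_full hG S h M hSY (hxV 1) (fun g _ hgx => hX _ (hxX 1) hx1 (mem_centralizer_singleton_iff.2 hgx))
      hPY l
    exact h3 (hxl 1 l hl)
  -- `|F| ≤ |X|`
  have hFX : Nat.card F ≤ Nat.card X := by
    refine Nat.card_le_card_of_injective (fun c : F => (⟨x c, hxX c⟩ : X)) ?_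
    intro c d hcd
    have h3 : x c = x d := congrArg Subtype.val hcd
    have h4 := hx0 c
    rw [h3, hx0 d] at h4
    exact (mul_left_cancel₀ hi h4).symm
  -- `|U| ≤ |F| |C_U(V)|`
  set C : Subgroup G := U ⊓ centralizer (zl (S : Subgroup G) P : Set G) with hC
  choose β hβ using h1
  have hUF : Nat.card U ≤ Nat.card F * Nat.card C := by
    refine card_le_of_fibre (fun a : U => β a a.2 i) ?_
    intro a a' haa
    have haP := h.le (hUS a.2)
    have ha'P := h.le (hUS a'.2)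
    refine mem_inf.2 ⟨mul_mem (inv_mem a.2) a'.2, ?_⟩
    rw [mem_centralizer_iff]
    intro v hv
    refine (comm_of_sec hG S h (mul_mem (inv_mem (hUS a.2)) (hUS a'.2)) ?_ v hv).symm
    have h3 := acts_mul M ha'P (acts_inv M haP (hβ a a.2)) (hβ a' a'.2)
    have h4 : ((fun l => up (β a a.2 l))⁻¹ * (fun l => up (β a' a'.2 l)) :
        Fin k → Matrix.SpecialLinearGroup (Fin 2) F) = 1 := by
      funext l
      rw [hone l, Pi.mul_apply, Pi.inv_apply, haa, inv_mul_cancel]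
      rfl
    rw [h4] at h3
    exact (acts_ker M (mul_mem (inv_mem haP) ha'P) h3).2
  -- `C_U(V) < J`
  have hCJ : C ≤ J := by
    intro a ha
    obtain ⟨v, hv, hvU⟩ := SetLike.not_le_iff_exists.1 hVU
    exact O.fix v (hVQ hv) hvU a ha.1 (mem_centralizer_iff.1 ha.2 v hv).symm
  have hlt : Nat.card C < Nat.card J := by
    by_contra hle
    push Not at hle
    have h3 : C = J := eq_of_le_of_card_ge hCJ hle
    have h4 : u ∈ C := by rw [h3]; exact hu
    exact huv (mem_centralizer_iff.1 h4.2 v₀ hv₀).symm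
  have hXpos : 0 < Nat.card X := Nat.card_pos
  have h5 : Nat.card X * Nat.card J ≤ Nat.card X * Nat.card C :=
    (O.card.trans hUF).trans (Nat.mul_le_mul_right _ hFX)
  have h6 := Nat.le_of_mul_le_mul_left h5 hXpos
  omega

include hG h M O hVQ hS₀ hSU hVU in
/-- (E2) one summand -/
theorem nat_one_summand [CharP F 2] (hVJ : ∀ u ∈ J, ∀ v ∈ zl (S : Subgroup G) P, u * v = v * u)
    (i j : Fin k) : i = j := by
  by_contra hij
  have hUS : U ≤ (S : Subgroup G) := O.U_S₀.trans hS₀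
  obtain ⟨-, h2⟩ := nat_offer hG S h M hUS (off_U S O hVQ hVU) hSU
  obtain ⟨a, ha, hab⟩ := h2 (Function.update (0 : Fin k → F) j 1)
  obtain ⟨a', ha', hab'⟩ := h2 (Function.update (0 : Fin k → F) i 1)
  have haP := h.le (hUS ha)
  have ha'P := h.le (hUS ha')
  obtain ⟨g, hg, hgA⟩ := M.lift (sg i (th F))
  obtain ⟨w, hw, hwi, hwl⟩ := nat_single M i ![1, 0]
  have hgw := conjZ hg hw
  have hv : g * w * g⁻¹ * w⁻¹ ∈ zl (S : Subgroup G) P := mul_mem hgw (inv_mem hw)
  have hvi : M.e (g * w * g⁻¹ * w⁻¹) i 1 = 1 := by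
    rw [nat_div M hgw hw, Pi.sub_apply, hgA.1 w hw, Pi.sub_apply, sg_self, ap_th_1, hwi]
    simp
  -- `a'` moves `v`
  have h3 : g * w * g⁻¹ * w⁻¹ ∉ centralizer (U : Set G) := by
    intro h4
    have h5 := au_eq S M ha'P hab' hv (mem_centralizer_iff.1 h4 a' ha') i
    rw [Function.update_self, hvi, one_mul] at h5
    exact one_ne_zero h5
  -- `a` fixes `v`
  have h4 : a * (g * w * g⁻¹ * w⁻¹) = (g * w * g⁻¹ * w⁻¹) * a := by
    apply fix_of_comm hG S h hg hab.2 hgA.2 _ hw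
    · apply au_D S M haP hab hw
      intro l
      by_cases hl : l = j
      · rw [hwl l (by rw [hl]; exact fun h5 => hij h5.symm)]
        exact mul_zero _
      · rw [Function.update_of_ne hl]; exact zero_mul _
    · have h5 := acts_mul M (inv_mem hg) (acts_mul M (inv_mem haP) (acts_mul M hg hab hgA) (acts_inv M haP hab))
        (acts_inv M hg hgA)
      have h6 : ((fun l => up (Function.update (0 : Fin k → F) j 1 l)) * sg i (th F) *
          (fun l => up (Function.update (0 : Fin k → F) j 1 l))⁻¹ * (sg i (th F))⁻¹ :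
          Fin k → Matrix.SpecialLinearGroup (Fin 2) F) = 1 := by
        funext l
        simp only [Pi.mul_apply, Pi.inv_apply, Pi.one_apply]
        by_cases hl : l = i
        · rw [hl, Function.update_of_ne hij, Pi.zero_apply, up_zero, one_mul, inv_one, mul_one, mul_inv_cancel]
        · rw [sg_ne hl, mul_one, mul_inv_cancel, inv_one, mul_one]
      rw [h6] at h5
      exact acts_ker M (mul_mem (mul_mem (mul_mem haP hg) (inv_mem haP)) (inv_mem hg)) h5
  have h5 := O.fix _ (hVQ hv) h3 a ha h4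
  -- but `a` does not centralise `V`
  obtain ⟨w', hw', hwj, -⟩ := nat_single M j ![0, 1]
  have h6 := au_eq S M haP hab hw' (hVJ a h5 w' hw') j
  rw [Function.update_self, hwj, one_mul] at h6
  exact one_ne_zero h6

include h in
/-- an element of `Z` outside `D` -/
theorem exists_zc_not_D : ∃ z ∈ zc (S : Subgroup G), z ∉ cv (S : Subgroup G) P := by
  by_contra hcon
  push Not at hcon
  apply h.not_zc
  have h5 : P ≤ centralizer (zc (S : Subgroup G) : Set G) := by
    conv_lhs => rw [← oddGen_sup h.le (MinSimple.Basic.not_dvd_relIndex S h.le)]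
    refine sup_le ?_ ?_
    · intro s hs
      rw [mem_centralizer_iff]
      exact fun z hz => (mem_centralizer_iff.1 (hcon z hz).2 s hs).symm
    · intro s hs
      rw [mem_centralizer_iff]
      exact fun z hz => ((mem_zc.1 hz).2.1 s hs).symm
  exact h5.trans (centralizer_le_normalizer _)

include hG h M O hVQ hS₀ hSU hVU in
/-- (E2) `V ≤ U'` -/
theorem nat_E [Finite F] [CharP F 2] (hk : 0 < k) (hSY : (S : Subgroup G) ≤ Y) (hPY : ¬ P ≤ Y)
    (hX : ∀ x ∈ X, x ≠ 1 → centralizer ({x} : Set G) ≤ Y) : zl (S : Subgroup G) P ≤ U' := by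
  have hVJ := nat_J hG S h M O hVQ hS₀ hVU hSY hPY hX
  have hone := nat_one_summand hG S h M O hVQ hS₀ hSU hVU hVJ
  have hUS : U ≤ (S : Subgroup G) := O.U_S₀.trans hS₀
  obtain ⟨h1, h2⟩ := nat_offer hG S h M hUS (off_U S O hVQ hVU) hSU
  set i : Fin k := ⟨0, hk⟩ with hi
  have hall : ∀ l, l = i := fun l => hone l i
  have hVJ' : zl (S : Subgroup G) P ≤ QQ ⊓ centralizer (J : Set G) :=
    le_inf hVQ fun v hv => mem_centralizer_iff.2 fun u hu => hVJ u hu v hv
  refine O.fin _ hVJ' ?_ hVU ?_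
  · exact elem_zl hG S h.isLoc
  -- the elements of `C_V(U)` have second coordinate 0
  obtain ⟨a₁, ha₁, hab₁⟩ := h2 fun _ => 1
  have hCV : ∀ v ∈ zl (S : Subgroup G) P, v ∈ centralizer (U : Set G) → M.e v i 1 = 0 := by
    intro v hv hvU
    have h3 := au_eq S M (h.le (hUS ha₁)) hab₁ hv (mem_centralizer_iff.1 hvU a₁ ha₁) i
    rwa [one_mul] at h3
  intro s hs
  have hsS := hS₀ hs
  have hsP := h.le hsS
  -- `s` fixes the second coordinates
  have hs1 : ∀ v ∈ zl (S : Subgroup G) P, M.e (s * v * s⁻¹) i 1 = M.e v i 1 := by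
    intro v hv
    have h3 := O.triv s hs v (hVJ' hv)
    have h4 := hCV _ (mul_mem (conjZ hsP hv) (inv_mem hv)) h3
    rw [nat_div M (conjZ hsP hv) hv, Pi.sub_apply, Pi.sub_apply, sub_eq_zero] at h4
    exact h4
  -- the vectors
  have hex : ∀ c d : F, ∃ v ∈ zl (S : Subgroup G) P, M.e v i = ![c, d] := fun c d => by
    obtain ⟨v, hv, h3, -⟩ := nat_single M i ![c, d]
    exact ⟨v, hv, h3⟩
  choose w hwV hwe using hex
  have heq : ∀ v ∈ zl (S : Subgroup G) P, ∀ v' ∈ zl (S : Subgroup G) P, M.e v i = M.e v' i →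
      M.e (s * v * s⁻¹) i = M.e (s * v' * s⁻¹) i := by
    intro v hv v' hv' hvv
    have h3 : v * v'⁻¹ ∈ cv (S : Subgroup G) P := by
      rw [nat_mem M hv hv']
      funext l
      rw [hall l, hvv]
    have h4 := conjD hsP h3
    have e : s * (v * v'⁻¹) * s⁻¹ = (s * v * s⁻¹) * (s * v' * s⁻¹)⁻¹ := by group
    rw [e, nat_mem M (conjZ hsP hv) (conjZ hsP hv')] at h4
    rw [h4]
  -- the first coordinates: `α c` of `(c, 0)`, `β d` of `(0, d)`
  let α : F → F := fun c => M.e (s * w c 0 * s⁻¹) i 0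
  let β : F → F := fun d => M.e (s * w 0 d * s⁻¹) i 0
  have hαβ : ∀ v ∈ zl (S : Subgroup G) P, M.e (s * v * s⁻¹) i 0 = α (M.e v i 0) + β (M.e v i 1) := by
    intro v hv
    have h3 := heq v hv (w (M.e v i 0) 0 * w 0 (M.e v i 1)) (mul_mem (hwV _ _) (hwV _ _)) (by
      rw [M.mul _ (hwV _ _) _ (hwV _ _), Pi.add_apply, hwe, hwe]
      refine ext2 ?_ ?_ <;> simp)
    have e : s * (w (M.e v i 0) 0 * w 0 (M.e v i 1)) * s⁻¹ =
      (s * w (M.e v i 0) 0 * s⁻¹) * (s * w 0 (M.e v i 1) * s⁻¹) := by group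
    rw [h3, e, M.mul _ (conjZ hsP (hwV _ _)) _ (conjZ hsP (hwV _ _))]
    rfl
  -- the conjugate of `lo 1`
  obtain ⟨g, hg, hgA⟩ := M.lift fun _ => lo 1
  obtain ⟨B, hB⟩ := M.norm s hsP g hg _ hgA.1
  have hconj : ∀ v ∈ zl (S : Subgroup G) P, M.e (s * (g * v * g⁻¹) * s⁻¹) i = ap (B i) (M.e (s * v * s⁻¹) i) := by
    intro v hv
    have e : s * (g * v * g⁻¹) * s⁻¹ = s * g * s⁻¹ * (s * v * s⁻¹) * (s * g * s⁻¹)⁻¹ := by group
    rw [← hB _ (conjZ hsP hv), e]
  have hgv0 : ∀ v ∈ zl (S : Subgroup G) P, M.e (g * v * g⁻¹) i 0 = M.e v i 0 := by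
    intro v hv
    rw [hgA.1 v hv, ap_zero', lo_00, lo_01]; ring
  have hgv1 : ∀ v ∈ zl (S : Subgroup G) P, M.e (g * v * g⁻¹) i 1 = M.e v i 0 + M.e v i 1 := by
    intro v hv
    rw [hgA.1 v hv, ap_one', lo_10, lo_11]; ring
  -- second coordinates
  have hB1 : ∀ v ∈ zl (S : Subgroup G) P, M.e v i 0 + M.e v i 1 =
      ent (B i) 1 0 * (α (M.e v i 0) + β (M.e v i 1)) + ent (B i) 1 1 * M.e v i 1 := by
    intro v hv
    have h3 := congrFun (hconj v hv) 1
    rw [hs1 _ (conjZ hg hv), hgv1 v hv, ap_one', hαβ v hv, hs1 v hv] at h3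
    exact h3
  have hα0 : α 0 = 0 := by
    have h3 := hαβ 1 (one_mem _)
    have h4 : β 0 = M.e (s * w 0 0 * s⁻¹) i 0 := rfl
    have h5 : α 0 = M.e (s * w 0 0 * s⁻¹) i 0 := rfl
    have h6 := heq (w 0 0) (hwV 0 0) 1 (one_mem _) (by
      rw [hwe, nat_one]
      refine ext2 ?_ ?_ <;> rfl)
    rw [h5, h6, mul_one, mul_inv_cancel, nat_one]
    rfl
  have hβ0 : β 0 = 0 := hα0
  have hα : ∀ c, c = ent (B i) 1 0 * α c := by
    intro c
    have h3 := hB1 (w c 0) (hwV c 0)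
    rw [hwe] at h3
    have h4 : (![c, 0] : Fin 2 → F) 0 = c := rfl
    have h5 : (![c, 0] : Fin 2 → F) 1 = 0 := rfl
    rw [h4, h5, hβ0, add_zero, add_zero, mul_zero, add_zero] at h3
    exact h3
  have hβ : ∀ d, d = ent (B i) 1 0 * β d + ent (B i) 1 1 * d := by
    intro d
    have h3 := hB1 (w 0 d) (hwV 0 d)
    rw [hwe] at h3
    have h4 : (![0, d] : Fin 2 → F) 0 = 0 := rfl
    have h5 : (![0, d] : Fin 2 → F) 1 = d := rfl
    rw [h4, h5, hα0, zero_add, zero_add] at h3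
    exact h3
  -- the scalar is 1
  obtain ⟨z, hz, hzD⟩ := exists_zc_not_D S h
  have hzV := zc_le_zl _ P hz
  have hsz : s * z * s⁻¹ = z := by rw [(mem_zc.1 hz).2.1 s hsS]; group
  have hz1 : M.e z i 1 = 0 := by
    apply hCV z hzV
    rw [mem_centralizer_iff]
    exact fun a ha => (mem_zc.1 hz).2.1 a (hUS ha)
  have hz0 : M.e z i 0 ≠ 0 := by
    intro h3
    apply hzD
    rw [← M.ker z hzV]
    funext l
    rw [hall l]
    exact ext2 h3 hz1
  have hαz : α (M.e z i 0) = M.e z i 0 := by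
    have h3 := hαβ z hzV
    rw [hsz, hz1, hβ0, add_zero] at h3
    exact h3.symm
  have hent : ent (B i) 1 0 = 1 := by
    have h3 := hα (M.e z i 0)
    rw [hαz] at h3
    have h4 : (1 - ent (B i) 1 0) * M.e z i 0 = 0 := by linear_combination h3
    rcases mul_eq_zero.1 h4 with h5 | h5
    · exact (sub_eq_zero.1 h5).symm
    · exact absurd h5 hz0
  have hα' : ∀ c, α c = c := fun c => by
    have h3 := hα c
    rw [hent, one_mul] at h3
    exact h3.symm
  have hβ' : ∀ d, β d = (1 - ent (B i) 1 1) * d := fun d => by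
    have h3 := hβ d
    rw [hent, one_mul] at h3
    linear_combination -h3
  -- `s` induces `up (1 - B₁₁)`
  obtain ⟨a, ha, hab⟩ := h2 fun _ => 1 - ent (B i) 1 1
  have haP := h.le (hUS ha)
  refine ⟨a, ha, ?_⟩
  rw [mem_centralizer_iff]
  intro v hv
  refine (comm_of_sec hG S h (mul_mem (inv_mem (hUS ha)) hsS) (fun v hv => ?_) v hv).symm
  have hsv : M.e (s * v * s⁻¹) = M.e (a * v * a⁻¹) := by
    funext l
    rw [hall l, hab.1 v hv]
    refine ext2 ?_ ?_
    · rw [hαβ v hv, hα', hβ', ap_up_0]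
    · rw [hs1 v hv, ap_up_1]
  have h3 : (s * v * s⁻¹) * (a * v * a⁻¹)⁻¹ ∈ cv (S : Subgroup G) P :=
    (nat_mem M (conjZ hsP hv) (conjZ haP hv)).2 hsv
  have h4 := conjD (inv_mem haP) h3
  have e : a⁻¹ * s * v * (a⁻¹ * s)⁻¹ * v⁻¹ = a⁻¹ * ((s * v * s⁻¹) * (a * v * a⁻¹)⁻¹) * a⁻¹⁻¹ := by group
  rw [e]
  exact h4

end nat

end Cfsg.Agent.Omega.All.HOne
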