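import Cfsg.Agent.Omega.All.FFourGDat
import Cfsg.Agent.Omega.All.HOneBase
import Cfsg.Agent.Omega.All.HOneNatE

/-!
# END `F₄(q)` with a graph element (OMEGA #16413): (A), types, `W ≤ Q_s Q_l`

* `Tak t A B` : `t A t⁻¹ = B`;
* `FFourG.cen_le_Qs`, `FFourG.cen_le_Ql` : (A), `C_G(x) ≤ N_G(Q_s)` for `1 ≠ x ∈ X_s`, the same with `l`;
* `FFourG.not_zc` : the elements of `X_s#` are not 2-central;
* `FFourG.pr`, `FFourG.pr_z` : types of the elements of `U_s ∪ U_l`;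
* `FFourG.W_le` : a subgroup of `S` normalised by `C_G(Ω₁(Z(S₁)))` lies in `Q_s Q_l`.
-/

set_option autoImplicit false

namespace Cfsg.Agent.Omega.All.HOne

open Subgroup Cfsg Cfsg.Agent.ZN Cfsg.Agent.Omega.MinPar Cfsg.Agent.Omega.Frame
open Cfsg.Agent.Omega.FrameLE (AllIn)
open Cfsg.Agent.Omega.FrameNOFF (CZ)
open Cfsg.Agent.MinSimple.VModule (le_o2 mem_zc zc_le zc_comm o2_le o2_isPGroup le_normalizer_o2 le_centralizer_zc
  zc_le_centralizer zc_sq normalizer_le_normalizer_zc)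
open Cfsg.Agent.MinSimple.Basic (char2_centralizer)
open scoped commutatorElement

universe u

variable {G : Type u} [Group G]

/-! ### `Tak` -/

/-- `t` takes `A` to `B` -/
def Tak (t : G) (A B : Subgroup G) : Prop := ∀ x, x ∈ A ↔ t * x * t⁻¹ ∈ B

theorem tak_iff {t : G} {A B : Subgroup G} : Tak t A B ↔ A.map (MulAut.conj t).toMonoidHom = B := by
  constructor
  · intro h
    ext x
    constructor
    · rintro ⟨y, hy, rfl⟩
      exact (h y).1 hy
    · intro hx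
      refine ⟨t⁻¹ * x * t, (h _).2 ?_, ?_⟩
      · have e : t * (t⁻¹ * x * t) * t⁻¹ = x := by group
        rwa [e]
      · show t * (t⁻¹ * x * t) * t⁻¹ = x
        group
  · rintro rfl x
    constructor
    · intro hx
      exact ⟨x, hx, rfl⟩
    · rintro ⟨y, hy, h⟩
      have h' : t * y * t⁻¹ = t * x * t⁻¹ := h
      have h2 : y = x := mul_left_cancel (mul_right_cancel h')
      rwa [← h2]

theorem tak_norm {t : G} {A : Subgroup G} : Tak t A A ↔ t ∈ normalizer (A : Set G) := by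
  rw [mem_normalizer_iff]
  rfl

namespace Tak

variable {t v : G} {A A' B B' C : Subgroup G}

theorem inv (h : Tak t A B) : Tak t⁻¹ B A := fun x => by
  rw [h (t⁻¹ * x * t⁻¹⁻¹)]
  have e : t * (t⁻¹ * x * t⁻¹⁻¹) * t⁻¹ = x := by group
  rw [e]

theorem mul (h1 : Tak t A B) (h2 : Tak v B C) : Tak (v * t) A C := fun x => by
  rw [h1 x, h2]
  have e : v * (t * x * t⁻¹) * v⁻¹ = v * t * x * (v * t)⁻¹ := by group
  rw [e]

theorem inf (h1 : Tak t A B) (h2 : Tak t A' B') : Tak t (A ⊓ A') (B ⊓ B') := fun x => by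
  rw [mem_inf, mem_inf, h1 x, h2 x]

theorem sup (h1 : Tak t A B) (h2 : Tak t A' B') : Tak t (A ⊔ A') (B ⊔ B') := by
  rw [tak_iff] at *
  rw [Subgroup.map_sup, h1, h2]

theorem commutator (h1 : Tak t A B) (h2 : Tak t A' B') : Tak t ⁅A, A'⁆ ⁅B, B'⁆ := by
  rw [tak_iff] at *
  rw [Subgroup.map_commutator, h1, h2]

theorem cen (h : Tak t A B) : Tak t (centralizer (A : Set G)) (centralizer (B : Set G)) := by
  have key : ∀ {t : G} {A B : Subgroup G}, Tak t A B → ∀ x ∈ centralizer (A : Set G),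
      t * x * t⁻¹ ∈ centralizer (B : Set G) := by
    intro t A B h x hx
    rw [mem_centralizer_iff] at hx ⊢
    intro b hb
    have h1 : t⁻¹ * b * t ∈ A := by
      rw [h]
      have e : t * (t⁻¹ * b * t) * t⁻¹ = b := by group
      rwa [e]
    calc b * (t * x * t⁻¹) = t * (t⁻¹ * b * t * x) * t⁻¹ := by group
      _ = t * (x * (t⁻¹ * b * t)) * t⁻¹ := by rw [hx _ h1]
      _ = t * x * t⁻¹ * b := by group
  intro x
  refine ⟨key h x, fun hx => ?_⟩
  have h1 := key h.inv _ hx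
  have e : t⁻¹ * (t * x * t⁻¹) * t⁻¹⁻¹ = x := by group
  rwa [e] at h1

theorem eq (h : Tak t A B) (h' : Tak t A B') : B = B' := by
  rw [tak_iff] at h h'
  rw [← h, h']

theorem eq' (h : Tak t A B) (h' : Tak t A' B) : A = A' := h.inv.eq h'.inv

theorem card (h : Tak t A B) : Nat.card A = Nat.card B := by
  rw [tak_iff] at h
  rw [← h]
  exact (Nat.card_congr (A.equivMapOfInjective _ (MulAut.conj t).injective).toEquiv)

theorem mem (h : Tak t A B) {x : G} (hx : x ∈ A) : t * x * t⁻¹ ∈ B := (h x).1 hx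

theorem mem' (h : Tak t A B) {x : G} (hx : x ∈ B) : t⁻¹ * x * t ∈ A := by
  rw [h]
  have e : t * (t⁻¹ * x * t) * t⁻¹ = x := by group
  rwa [e]

/-- conjugates of normalising elements -/
theorem norm (h : Tak t A B) {m : G} (hm : m ∈ normalizer (A : Set G)) : t * m * t⁻¹ ∈ normalizer (B : Set G) :=
  tak_norm.1 ((h.inv.mul (tak_norm.2 hm)).mul h |> fun h2 => by rwa [← mul_assoc] at h2)

end Tak

theorem Side.tak {S Y C X Q U C' X' Q' U' : Subgroup G} (D : Side S Y C X Q U) (D' : Side S Y C' X' Q' U') {t : G}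
    (h : Tak t Q Q') : Tak t U U' ∧ Tak t X X' := by
  refine ⟨?_, ?_⟩
  · rw [D.U_eq, D'.U_eq]
    exact h.inf h.cen
  · rw [← D.comm, ← D'.comm]
    exact h.commutator h

/-- the elements of the join of two commuting subgroups -/
theorem mem_sup_comm {A B : Subgroup G} (h : ∀ a ∈ A, ∀ b ∈ B, a * b = b * a) {x : G} (hx : x ∈ A ⊔ B) :
    ∃ a ∈ A, ∃ b ∈ B, x = a * b := by
  let T : Subgroup G :=
    { carrier := {x | ∃ a ∈ A, ∃ b ∈ B, x = a * b}
      mul_mem' := by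
        rintro _ _ ⟨a, ha, b, hb, rfl⟩ ⟨a', ha', b', hb', rfl⟩
        refine ⟨a * a', mul_mem ha ha', b * b', mul_mem hb hb', ?_⟩
        calc a * b * (a' * b') = a * (b * a') * b' := by group
          _ = a * (a' * b) * b' := by rw [h a' ha' b hb]
          _ = a * a' * (b * b') := by group
      one_mem' := ⟨1, one_mem _, 1, one_mem _, by simp⟩
      inv_mem' := by
        rintro _ ⟨a, ha, b, hb, rfl⟩
        refine ⟨a⁻¹, inv_mem ha, b⁻¹, inv_mem hb, ?_⟩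
        rw [mul_inv_rev, h _ (inv_mem ha) _ (inv_mem hb)] }
  have h1 : A ⊔ B ≤ T := sup_le (fun a ha => ⟨a, ha, 1, one_mem _, by simp⟩) fun b hb => ⟨1, one_mem _, b, hb, by simp⟩
  exact h1 hx

theorem inv_mul_mem_of_card [Finite G] {A T : Subgroup G} (hAT : A ≤ T) (hc : Nat.card T ≤ 2 * Nat.card A) {a b : G}
    (ha : a ∈ T) (hb : b ∈ T) (ha' : a ∉ A) (hb' : b ∉ A) : a⁻¹ * b ∈ A := by
  have h1 : A.relIndex T * Nat.card A = Nat.card T := by
    have := Subgroup.card_mul_index (A.subgroupOf T)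
    rw [Nat.card_congr (subgroupOfEquivOfLe hAT).toEquiv] at this
    rw [← this, mul_comm]
    rfl
  have hpos : 0 < Nat.card A := Nat.card_pos
  have h2 : A.relIndex T ≤ 2 := by
    rw [← h1] at hc
    exact Nat.le_of_mul_le_mul_right hc hpos
  have h3 : A.relIndex T ≠ 0 := by
    intro h
    rw [h, zero_mul] at h1
    have : 0 < Nat.card T := Nat.card_pos
    omega
  have h4 : A.relIndex T ≠ 1 := by
    intro h
    rw [relIndex_eq_one] at h
    exact ha' (h ha)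
  have h5 : (A.subgroupOf T).index = 2 := by
    show A.relIndex T = 2
    omega
  have h6 := Subgroup.mul_mem_iff_of_index_two h5 (a := (⟨a, ha⟩ : T)⁻¹) (b := ⟨b, hb⟩)
  have h7 : (⟨a, ha⟩ : T)⁻¹ * ⟨b, hb⟩ ∈ A.subgroupOf T := by
    rw [h6, inv_mem_iff, mem_subgroupOf, mem_subgroupOf]
    exact ⟨fun h => absurd h ha', fun h => absurd h hb'⟩
  exact h7

/-! ### The graph case -/

namespace FFourG

section gen

variable {S S₁ S₀ Y Cs Cl Xs Xl Qs Ql Us Ul : Subgroup G} (D : FFourG S S₁ S₀ Y Cs Cl Xs Xl Qs Ql Us Ul)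
include D

theorem S₁_S : S₁ ≤ S := by
  have h := D.S₁_eq
  rw [h]
  exact inf_le_left

theorem S₁_N : S₁ ≤ normalizer (Xs : Set G) := by
  have h := D.S₁_eq
  rw [h]
  exact inf_le_right

theorem mem_S₁ {t : G} (ht : t ∈ S) (hX : t ∈ normalizer (Xs : Set G)) : t ∈ S₁ := by
  rw [D.S₁_eq]
  exact ⟨ht, hX⟩

theorem Xs_ne_Xl : Xs ≠ Xl := by
  intro h
  have h1 := D.dat.Xs_Xl
  rw [← h, inf_idem] at h1
  exact D.dat.side_s.X_ne h1

theorem norm_of {t : G} (ht : t ∈ S₁) : t ∈ normalizer (Qs : Set G) ∧ t ∈ normalizer (Ql : Set G) := by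
  rcases D.perm t (D.S₁_S ht) with h | h
  · exact h
  · exfalso
    have h1 := (D.dat.side_s.tak D.dat.side_l (tak_iff.2 h.1)).2
    exact D.Xs_ne_Xl ((tak_norm.2 (D.S₁_N ht)).eq h1)

theorem tak_of {t : G} (ht : t ∈ S) (h1 : t ∉ S₁) : Tak t Qs Ql ∧ Tak t Ql Qs := by
  rcases D.perm t ht with h | h
  · exact absurd (D.mem_S₁ ht (D.dat.side_s.norm_Q_le h.1)) h1
  · exact ⟨tak_iff.2 h.1, tak_iff.2 h.2⟩

theorem takU {t : G} (ht : t ∈ S) (h1 : t ∉ S₁) : Tak t Us Ul ∧ Tak t Ul Us :=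
  ⟨(D.dat.side_s.tak D.dat.side_l (D.tak_of ht h1).1).1, (D.dat.side_l.tak D.dat.side_s (D.tak_of ht h1).2).1⟩

theorem takX {t : G} (ht : t ∈ S) (h1 : t ∉ S₁) : Tak t Xs Xl ∧ Tak t Xl Xs :=
  ⟨(D.dat.side_s.tak D.dat.side_l (D.tak_of ht h1).1).2, (D.dat.side_l.tak D.dat.side_s (D.tak_of ht h1).2).2⟩

theorem inv_mul {t t' : G} (ht : t ∈ S) (h1 : t ∉ S₁) (ht' : t' ∈ S) (h1' : t' ∉ S₁) : t⁻¹ * t' ∈ S₁ :=
  D.mem_S₁ (mul_mem (inv_mem ht) ht') (tak_norm.1 ((D.takX ht' h1').1.mul (D.takX ht h1).1.inv))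

theorem inv_not {t : G} (h1 : t ∉ S₁) : t⁻¹ ∉ S₁ := fun h => h1 (inv_mem_iff.1 h)

theorem sq_mem {t : G} (ht : t ∈ S) (h1 : t ∉ S₁) : t * t ∈ S₁ := by
  have h2 := D.inv_mul (inv_mem ht) (D.inv_not h1) ht h1
  rwa [inv_inv] at h2

theorem norm_S₁ : S ≤ normalizer (S₁ : Set G) := by
  refine le_normalizer_of fun t ht x hx => ?_
  by_cases h1 : t ∈ S₁
  · exact mul_mem (mul_mem h1 hx) (inv_mem h1)
  · refine D.mem_S₁ (mul_mem (mul_mem ht (D.S₁_S hx)) (inv_mem ht)) ?_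
    have h2 := (D.takX ht h1).2.norm (D.dat.side_s.S_X.trans le_rfl hx |> fun _ => D.dat.side_l.S_X hx)
    exact h2

theorem card_S [Finite G] : Nat.card S ≤ 2 * Nat.card S₁ := by
  classical
  have h := card_le_of_fibre (F := Bool) (U := S) (C := S₁) (fun t => decide ((t : G) ∈ S₁)) (fun a b hab => by
    have h1 : ((a : G) ∈ S₁) ↔ ((b : G) ∈ S₁) := decide_eq_decide.1 hab
    by_cases ha : (a : G) ∈ S₁
    · exact mul_mem (inv_mem ha) (h1.1 ha)
    · exact D.inv_mul a.2 ha b.2 fun hb => ha (h1.2 hb))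
  rwa [Nat.card_eq_fintype_card (α := Bool), Fintype.card_bool] at h

theorem card_lt [Finite G] : Nat.card S₁ < Nat.card S := by
  obtain ⟨s, hs, hs1⟩ := D.swap
  refine lt_of_le_of_ne (Subgroup.card_le_of_le D.S₁_S) fun h => hs1 ?_
  have h1 := eq_of_le_of_card_ge D.S₁_S h.ge
  rw [h1]
  exact hs

theorem pg (hS : IsPGroup 2 S) : IsPGroup 2 S₁ := hS.to_le D.S₁_S

theorem exists_zs [Finite G] (hS : IsPGroup 2 S) : ∃ z ∈ zc S₁, z ∈ Xs ∧ z ≠ 1 := by
  refine exists_zc_mem (D.pg hS) D.dat.side_s.X_S D.dat.side_s.S_X (fun x hx => ?_) D.dat.side_s.X_ne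
  have h1 := D.dat.side_s.X_el.2 x hx
  rwa [pow_two] at h1

theorem exists_zl [Finite G] (hS : IsPGroup 2 S) : ∃ z ∈ zc S₁, z ∈ Xl ∧ z ≠ 1 := by
  refine exists_zc_mem (D.pg hS) D.dat.side_l.X_S D.dat.side_l.S_X (fun x hx => ?_) D.dat.side_l.X_ne
  have h1 := D.dat.side_l.X_el.2 x hx
  rwa [pow_two] at h1

theorem N_Yl : normalizer (Xl : Set G) ≤ Y := by
  obtain ⟨s, hs, hs1⟩ := D.swap
  intro g hg
  have h1 := (D.takX hs hs1).1.inv.norm hg
  have h2 := D.dat.N_Y h1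
  have hsY := D.S_Y hs
  have e : g = s * (s⁻¹ * g * s⁻¹⁻¹) * s⁻¹ := by group
  rw [e]
  exact mul_mem (mul_mem hsY h2) (inv_mem hsY)

end gen

section syl

variable [Finite G] {S : Sylow 2 G} {S₁ S₀ Y Cs Cl Xs Xl Qs Ql Us Ul : Subgroup G}
  (D : FFourG (S : Subgroup G) S₁ S₀ Y Cs Cl Xs Xl Qs Ql Us Ul)
include D

theorem card_le_two {T : Subgroup G} (hT : IsPGroup 2 T) : Nat.card T ≤ 2 * Nat.card S₁ := by
  have hf : Fact (Nat.Prime 2) := ⟨Nat.prime_two⟩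
  obtain ⟨R, hR⟩ := hT.exists_le_sylow
  refine (Subgroup.card_le_of_le hR).trans (le_trans ?_ D.card_S)
  rw [Sylow.card_eq_multiplicity R, Sylow.card_eq_multiplicity S]

/-- **(A)** for `x ∈ Ω₁(Z(S₁))`. -/
theorem o2_eq_zc (hc : IsCharacteristicTwoType G) {x : G} (hx : x ∈ zc S₁) (hX : x ∈ Xs) (h1 : x ≠ 1) :
    o2 (centralizer ({x} : Set G)) = Qs := by
  have hf : Fact (Nat.Prime 2) := ⟨Nat.prime_two⟩
  set H := centralizer ({x} : Set G) with hH
  set O := o2 H with hO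
  have hSH : S₁ ≤ H := fun s hs => mem_centralizer_singleton_iff.2 ((mem_zc.1 hx).2.1 s hs)
  have hCH : Cs ≤ H := D.dat.side_s.C_X.trans (centralizer_le (by
    intro w hw
    rw [Set.mem_singleton_iff] at hw
    rw [hw]; exact hX))
  have hSO : S₁ ≤ normalizer (O : Set G) := hSH.trans (le_normalizer_o2 _)
  have hCO : Cs ≤ normalizer (O : Set G) := hCH.trans (le_normalizer_o2 _)
  have hCX : Cs ≤ normalizer (Xs : Set G) := D.dat.side_s.C_X.trans (centralizer_le_normalizer _)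
  have hT : IsPGroup 2 (S₁ ⊔ O : Subgroup G) :=
    (D.pg S.isPGroup').to_sup_of_normal_right' (o2_isPGroup _) hSO
  have hcard := D.card_le_two hT
  have hTN : (S₁ ⊔ O) ⊓ normalizer (Xs : Set G) ≤ S₁ := by
    have h2 : S₁ ≤ (S₁ ⊔ O) ⊓ normalizer (Xs : Set G) := le_inf le_sup_left D.S₁_N
    have h3 := D.syl _ (hT.to_le inf_le_left) (inf_le_right : (S₁ ⊔ O) ⊓ normalizer (Xs : Set G) ≤ _)
    exact (eq_of_le_of_card_ge h2 h3).ge
  have hO1 : ∀ t ∈ O, t ∈ normalizer (Xs : Set G) → t ∈ Qs := by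
    intro t ht htX
    have htS : t ∈ S₁ := hTN ⟨mem_sup_right ht, htX⟩
    refine D.dat.side_s.fld t htS fun c hcC => ?_
    have h2 : t * c * t⁻¹ * c⁻¹ ∈ Cs :=
      mul_mem (conj_mem_of_normalizer (D.dat.side_s.S_C htS) hcC) (inv_mem hcC)
    have h3 : t * c * t⁻¹ * c⁻¹ ∈ O := by
      have e : t * c * t⁻¹ * c⁻¹ = t * (c * t⁻¹ * c⁻¹) := by group
      rw [e]
      exact mul_mem ht (conj_mem_of_normalizer (hCO hcC) (inv_mem ht))
    refine D.dat.side_s.Q_max (O ⊓ Cs) ((o2_isPGroup _).to_le inf_le_left) inf_le_right ?_ ⟨h3, h2⟩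
    exact normalizer_inf_le hCO le_normalizer
  have hOC : ∀ t ∈ O, ∀ c ∈ Cs, t * c * t⁻¹ * c⁻¹ ∈ Qs := by
    intro t ht c hcC
    have e : t * c * t⁻¹ * c⁻¹ = t * (c * t⁻¹ * c⁻¹) := by group
    have h2 : c * t⁻¹ * c⁻¹ ∈ O := conj_mem_of_normalizer (hCO hcC) (inv_mem ht)
    rw [e]
    by_cases htX : t ∈ normalizer (Xs : Set G)
    · refine mul_mem (hO1 t ht htX) (hO1 _ h2 ?_)
      exact mul_mem (mul_mem (hCX hcC) (inv_mem htX)) (inv_mem (hCX hcC))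
    · have h3 : c * t⁻¹ * c⁻¹ ∉ S₁ := by
        intro h4
        apply htX
        have h5 := D.S₁_N h4
        have e2 : t = (c⁻¹ * (c * t⁻¹ * c⁻¹) * c)⁻¹ := by group
        rw [e2]
        exact inv_mem (mul_mem (mul_mem (inv_mem (hCX hcC)) h5) (hCX hcC))
      have h4 : t⁻¹ ∉ S₁ := fun h5 => htX (D.S₁_N (inv_mem_iff.1 h5))
      have h5 := inv_mul_mem_of_card (T := S₁ ⊔ O) le_sup_left hcard (mem_sup_right (inv_mem ht))
        (mem_sup_right h2) h4 h3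
      rw [inv_inv] at h5
      exact hO1 _ (mul_mem ht h2) (D.S₁_N h5)
  have hON : O ≤ normalizer (Qs : Set G) := by
    refine le_normalizer_of fun t ht q hq => ?_
    have h2 := hOC t ht q (D.dat.side_s.Q_C hq)
    have e : t * q * t⁻¹ = t * q * t⁻¹ * q⁻¹ * q := by group
    rw [e]
    exact mul_mem h2 hq
  have hOQ : O ≤ Qs := fun t ht => hO1 t ht (D.dat.side_s.norm_Q_le (hON ht))
  refine D.dat.side_s.irr _ hOQ hCO ?_
  exact le_trans (inf_le_inf (D.dat.side_s.Q_C.trans hCH) le_rfl) (char2_centralizer hc (zc_sq S₁ x hx) h1)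

/-- **(A)** -/
theorem cen_le_Qs (hc : IsCharacteristicTwoType G) {x : G} (hx : x ∈ Xs) (h1 : x ≠ 1) :
    centralizer ({x} : Set G) ≤ normalizer (Qs : Set G) := by
  obtain ⟨z, hz, hX, hz1⟩ := D.exists_zs S.isPGroup'
  obtain ⟨y, -, -, hyQ, h4⟩ := D.dat.side_s.trans x hx z hX h1 hz1
  intro g hg
  have h5 := normalizer_centralizer_singleton (g := y) g hg
  rw [h4] at h5
  have h6 : centralizer ({z} : Set G) ≤ normalizer (Qs : Set G) := by
    have h7 := le_normalizer_o2 (centralizer ({z} : Set G))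
    rwa [D.o2_eq_zc hc hz hX hz1] at h7
  have e : g = y⁻¹ * (y * g * y⁻¹) * y := by group
  rw [e]
  exact mul_mem (mul_mem (inv_mem hyQ) (h6 h5)) hyQ

/-- **(A)** for `X_l` -/
theorem cen_le_Ql (hc : IsCharacteristicTwoType G) {x : G} (hx : x ∈ Xl) (h1 : x ≠ 1) :
    centralizer ({x} : Set G) ≤ normalizer (Ql : Set G) := by
  obtain ⟨s, hs, hs1⟩ := D.swap
  intro g hg
  have h2 : s * x * s⁻¹ ∈ Xs := (D.takX hs hs1).2.mem hx
  have h3 : s * x * s⁻¹ ≠ 1 := fun h => h1 (by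
    have e : x = s⁻¹ * (s * x * s⁻¹) * s := by group
    rw [e, h]; group)
  have h4 := D.cen_le_Qs hc h2 h3 (normalizer_centralizer_singleton (g := s) g hg)
  have h5 := (D.tak_of hs hs1).2.inv.norm h4
  have e : s⁻¹ * (s * g * s⁻¹) * s⁻¹⁻¹ = g := by group
  rwa [e] at h5

theorem cen_le_Xs (hc : IsCharacteristicTwoType G) {x : G} (hx : x ∈ Xs) (h1 : x ≠ 1) :
    centralizer ({x} : Set G) ≤ normalizer (Xs : Set G) := (D.cen_le_Qs hc hx h1).trans D.dat.side_s.norm_Q_le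

theorem cen_le_Xl (hc : IsCharacteristicTwoType G) {x : G} (hx : x ∈ Xl) (h1 : x ≠ 1) :
    centralizer ({x} : Set G) ≤ normalizer (Xl : Set G) := (D.cen_le_Ql hc hx h1).trans D.dat.side_l.norm_Q_le

theorem cen_le_Y (hc : IsCharacteristicTwoType G) {x : G} (hx : x ∈ Xs ∨ x ∈ Xl) (h1 : x ≠ 1) :
    centralizer ({x} : Set G) ≤ Y := by
  rcases hx with hx | hx
  · exact (D.cen_le_Xs hc hx h1).trans D.dat.N_Y
  · exact (D.cen_le_Xl hc hx h1).trans D.N_Yl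

/-- `D₁ = C_G(Ω₁(Z(S₁)))` normalises `Q_s` and `Q_l` -/
theorem CZ_le (hc : IsCharacteristicTwoType G) : CZ S₁ ≤ normalizer (Qs : Set G) ⊓ normalizer (Ql : Set G) := by
  obtain ⟨z, hz, hX, hz1⟩ := D.exists_zs S.isPGroup'
  obtain ⟨z', hz', hX', hz1'⟩ := D.exists_zl S.isPGroup'
  refine le_inf (le_trans (centralizer_le ?_) (D.cen_le_Qs hc hX hz1))
    (le_trans (centralizer_le ?_) (D.cen_le_Ql hc hX' hz1'))
  · intro w hw
    rw [Set.mem_singleton_iff] at hw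
    rw [hw]; exact hz
  · intro w hw
    rw [Set.mem_singleton_iff] at hw
    rw [hw]; exact hz'

theorem CZ_Qs (hc : IsCharacteristicTwoType G) : CZ S₁ ≤ normalizer (Qs : Set G) := (D.CZ_le hc).trans inf_le_left
theorem CZ_Ql (hc : IsCharacteristicTwoType G) : CZ S₁ ≤ normalizer (Ql : Set G) := (D.CZ_le hc).trans inf_le_right
theorem CZ_Us (hc : IsCharacteristicTwoType G) : CZ S₁ ≤ normalizer (Us : Set G) :=
  (D.CZ_Qs hc).trans D.dat.side_s.norm_Q_le_U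
theorem CZ_Ul (hc : IsCharacteristicTwoType G) : CZ S₁ ≤ normalizer (Ul : Set G) :=
  (D.CZ_Ql hc).trans D.dat.side_l.norm_Q_le_U
theorem CZ_Xs (hc : IsCharacteristicTwoType G) : CZ S₁ ≤ normalizer (Xs : Set G) :=
  (D.CZ_Qs hc).trans D.dat.side_s.norm_Q_le
theorem CZ_Xl (hc : IsCharacteristicTwoType G) : CZ S₁ ≤ normalizer (Xl : Set G) :=
  (D.CZ_Ql hc).trans D.dat.side_l.norm_Q_le

theorem o2_CZ (hc : IsCharacteristicTwoType G) : o2 (CZ S₁) = Qs ⊔ Ql :=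
  D.dat.oZ ((D.CZ_Xs hc).trans D.dat.N_Y)

theorem QQ_S₁ : Qs ⊔ Ql ≤ S₁ := sup_le D.dat.side_s.Q_S D.dat.side_l.Q_S

theorem QQ_S : Qs ⊔ Ql ≤ (S : Subgroup G) := D.QQ_S₁.trans D.S₁_S

theorem Z0_comm {x q : G} (hx : x ∈ Xs ⊔ Xl) (hq : q ∈ Qs ⊔ Ql) : q * x = x * q := by
  rw [← D.dat.cen0] at hx
  exact mem_centralizer_iff.1 hx.2 q hq

theorem Z0_QQ : Xs ⊔ Xl ≤ Qs ⊔ Ql := by
  rw [← D.dat.cen0]
  exact inf_le_left

theorem zc_le_Z0 (hc : IsCharacteristicTwoType G) : zc S₁ ≤ Xs ⊔ Xl := by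
  rw [← D.dat.cen0, ← D.o2_CZ hc]
  refine le_inf ?_ ?_
  · refine le_o2 ?_ ((D.pg S.isPGroup').to_le (zc_le _)) ?_
    · exact (zc_le _).trans (le_centralizer_zc _)
    · exact centralizer_le_normalizer _
  · rw [D.o2_CZ hc]
    exact (zc_le_centralizer _).trans (centralizer_le D.QQ_S₁)

theorem Xs_Us : Xs ≤ Us := D.dat.side_s.X_U
theorem Xl_Ul : Xl ≤ Ul := D.dat.side_l.X_U

theorem Z0_Us : Xs ⊔ Xl ≤ Us := sup_le D.Xs_Us D.dat.Xl_Us
theorem Z0_Ul : Xs ⊔ Xl ≤ Ul := sup_le D.dat.Xs_Ul D.Xl_Ul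

theorem X_comm {a b : G} (ha : a ∈ Xs) (hb : b ∈ Xl) : a * b = b * a :=
  D.Z0_comm (mem_sup_right hb) (D.Z0_QQ (mem_sup_left ha))

theorem exists_ab {x : G} (hx : x ∈ Xs ⊔ Xl) : ∃ a ∈ Xs, ∃ b ∈ Xl, x = a * b :=
  mem_sup_comm (fun _ ha _ hb => D.X_comm ha hb) hx

/-- `S₁ < S`: the elements of `X_s#` are not 2-central. -/
theorem not_zc (hc : IsCharacteristicTwoType G) {x g : G} (hx : x ∈ Xs ∨ x ∈ Xl) (h1 : x ≠ 1)
    (hz : g * x * g⁻¹ ∈ zc (S : Subgroup G)) : False := by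
  have key : ∀ {x g : G}, x ∈ Xs → x ≠ 1 → g * x * g⁻¹ ∈ zc (S : Subgroup G) → False := by
    intro x g hx h1 hz
    have h2 : (S : Subgroup G).map (MulAut.conj g⁻¹).toMonoidHom ≤ normalizer (Xs : Set G) := by
      rintro _ ⟨t, ht, rfl⟩
      refine D.cen_le_Xs hc hx h1 ?_
      have h3 : t ∈ centralizer ({g * x * g⁻¹} : Set G) :=
        mem_centralizer_singleton_iff.2 ((mem_zc.1 hz).2.1 t ht)
      have h4 := normalizer_centralizer_singleton (g := g⁻¹) t h3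
      have e : g⁻¹ * (g * x * g⁻¹) * g⁻¹⁻¹ = x := by group
      rw [e] at h4
      exact h4
    have h3 := D.syl _ (S.isPGroup'.map _) h2
    have h4 : Nat.card ((S : Subgroup G).map (MulAut.conj g⁻¹).toMonoidHom) = Nat.card (S : Subgroup G) :=
      (Nat.card_congr ((S : Subgroup G).equivMapOfInjective _ (MulAut.conj g⁻¹).injective).toEquiv).symm
    rw [h4] at h3
    exact absurd D.card_lt (not_lt.2 h3)
  rcases hx with hx | hx
  · exact key hx h1 hz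
  · obtain ⟨s, hs, hs1⟩ := D.swap
    have h2 : s * x * s⁻¹ ∈ Xs := (D.takX hs hs1).2.mem hx
    have h3 : s * x * s⁻¹ ≠ 1 := fun h => h1 (by
      have e : x = s⁻¹ * (s * x * s⁻¹) * s := by group
      rw [e, h]; group)
    refine key (g := g * s⁻¹) h2 h3 ?_
    have e : g * s⁻¹ * (s * x * s⁻¹) * (g * s⁻¹)⁻¹ = g * x * g⁻¹ := by group
    rwa [e]

/-- an element of `G` which conjugates an element of `X_s# ∪ X_l#` to an element of `X_s ∪ X_l` lies in `Y` -/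
theorem mem_Y (hc : IsCharacteristicTwoType G) {x g : G} (hx : x ∈ Xs ∨ x ∈ Xl) (h1 : x ≠ 1)
    (hg : g * x * g⁻¹ ∈ Xs ∨ g * x * g⁻¹ ∈ Xl) : g ∈ Y := by
  have hne : ∀ {x g : G}, x ≠ 1 → g * x * g⁻¹ ≠ 1 := fun {x g} h1 h => h1 (by
      have e : x = g⁻¹ * (g * x * g⁻¹) * g := by group
      rw [e, h]; group)
  have key : ∀ {x g : G}, x ∈ Xs → x ≠ 1 → g * x * g⁻¹ ∈ Xs → g ∈ Y := by
    intro x g hx h1 hg
    obtain ⟨y, hy, -, -, h4⟩ := D.dat.side_s.trans _ hg _ hx (hne h1) h1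
    have h5 : y * g ∈ centralizer ({x} : Set G) := by
      rw [mem_centralizer_singleton_iff]
      have e : y * (g * x * g⁻¹) * y⁻¹ = y * g * x * (y * g)⁻¹ := by group
      rw [e] at h4
      calc y * g * x = y * g * x * (y * g)⁻¹ * (y * g) := by group
        _ = x * (y * g) := by rw [h4]
    have h6 := D.cen_le_Y hc (Or.inl hx) h1 h5
    have e : g = y⁻¹ * (y * g) := by group
    rw [e]
    exact mul_mem (inv_mem hy) h6
  obtain ⟨s, hs, hs1⟩ := D.swap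
  have hsY := D.S_Y hs
  have h2 : ∃ t ∈ Y, t * x * t⁻¹ ∈ Xs := by
    rcases hx with hx | hx
    · exact ⟨1, one_mem _, by simpa using hx⟩
    · exact ⟨s, hsY, (D.takX hs hs1).2.mem hx⟩
  have h3 : ∃ t ∈ Y, t * (g * x * g⁻¹) * t⁻¹ ∈ Xs := by
    rcases hg with hg | hg
    · exact ⟨1, one_mem _, by simpa using hg⟩
    · exact ⟨s, hsY, (D.takX hs hs1).2.mem hg⟩
  obtain ⟨t, ht, h4⟩ := h2
  obtain ⟨r, hr, h5⟩ := h3
  have h6 := key (g := r * g * t⁻¹) h4 (hne h1) (by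
    have e : r * g * t⁻¹ * (t * x * t⁻¹) * (r * g * t⁻¹)⁻¹ = r * (g * x * g⁻¹) * r⁻¹ := by group
    rwa [e])
  have e : g = r⁻¹ * (r * g * t⁻¹) * t := by group
  rw [e]
  exact mul_mem (mul_mem (inv_mem hr) h6) ht

end syl

end FFourG

end Cfsg.Agent.Omega.All.HOne
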