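import Cfsg.Agent.Omega.All.HOneDat

/-!
# END `F₄(q)` with a graph element (OMEGA #16413): the input structure

`Y = N_G(G₀)`, `G₀ = F₄(q)`, `q` even, `S ≤ Y` a Sylow 2-subgroup of `G` which contains an element inducing a graph
automorphism; `S₁ = N_S(X_s)`, `|S : S₁| = 2`, `S₁` is a Sylow 2-subgroup of `N_G(X_s) ≤ Y`, `S₀ = S ∩ G₀ ≤ S₁`.

The data of `FFourDat` are given for `S₁`; `FFourG` adds the action of `S` and some commutator facts of `Q_s Q_l`.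

Conclusion (file `FFourG`): `N_G(Z) ≤ Y` and every `P ∈ P(S)` lies in `Y`.
-/

set_option autoImplicit false

namespace Cfsg.Agent.Omega.All.HOne

open Subgroup Cfsg Cfsg.Agent.ZN Cfsg.Agent.Omega.MinPar Cfsg.Agent.Omega.Frame

universe u

variable {G : Type u} [Group G]

/-- The data for `G₀ = F₄(q)`, `q ≥ 2` even, and a Sylow 2-subgroup `S` with a graph element. -/
structure FFourG (S S₁ S₀ Y Cs Cl Xs Xl Qs Ql Us Ul : Subgroup G) : Prop where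
  dat : FFourDat S₁ S₀ Y Cs Cl Xs Xl Qs Ql Us Ul
  S_Y : S ≤ Y
  S₁_eq : S₁ = S ⊓ normalizer (Xs : Set G)
  /-- `S₁` is a Sylow 2-subgroup of `N_G(X_s)` -/
  syl : ∀ T : Subgroup G, IsPGroup 2 T → T ≤ normalizer (Xs : Set G) → Nat.card T ≤ Nat.card S₁
  /-- an element of `S` normalises `Q_s` and `Q_l` or exchanges them -/
  perm : ∀ t ∈ S, (t ∈ normalizer (Qs : Set G) ∧ t ∈ normalizer (Ql : Set G)) ∨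
    (Qs.map (MulAut.conj t).toMonoidHom = Ql ∧ Ql.map (MulAut.conj t).toMonoidHom = Qs)
  swap : ∃ s ∈ S, s ∉ S₁
  /-- the torus is transitive on `X_s# × X_l#` -/
  trans2 : ∀ a ∈ Xs, ∀ b ∈ Xl, ∀ a' ∈ Xs, ∀ b' ∈ Xl, a ≠ 1 → b ≠ 1 → a' ≠ 1 → b' ≠ 1 →
    ∃ y ∈ Y, y * a * y⁻¹ = a' ∧ y * b * y⁻¹ = b'
  /-- `[v, Q_s] = X_s` and `[v, Q_l] = X_l` for `v ∈ J₀` outside `U_s ∪ U_l` -/
  mixQ_s : ∀ v ∈ Qs ⊓ Ql, v ∉ Us → v ∉ Ul → ∀ x ∈ Xs, ∃ y ∈ Qs ⊔ Ql, y * v * y⁻¹ = v * x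
  mixQ_l : ∀ v ∈ Qs ⊓ Ql, v ∉ Us → v ∉ Ul → ∀ x ∈ Xl, ∃ y ∈ Qs ⊔ Ql, y * v * y⁻¹ = v * x
  /-- `C_l / Q_l = Sp₆(q)` is faithful on `Q_l / U_l` -/
  faith : ∀ w ∈ Qs ⊔ Ql, (∀ q ∈ Ql, w * q * w⁻¹ * q⁻¹ ∈ Ul) → w ∈ Ql
  /-- the involutions of `C_{Q_s Q_l}(J₀)` lie in two subgroups exchanged by `S`, with intersection `J₀` -/
  elJ : ∀ E : Subgroup G, E ≤ Qs ⊔ Ql → IsElementaryAbelian 2 E → S ≤ normalizer (E : Set G) →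
    (∀ e ∈ E, ∀ j ∈ Qs ⊓ Ql, e * j = j * e) → E ≤ Qs ⊓ Ql
  /-- `C_Y(ab)` permutes `{X_s, X_l}` -/
  cenY : ∀ a ∈ Xs, ∀ b ∈ Xl, a ≠ 1 → b ≠ 1 → ∀ y ∈ Y, y * (a * b) * y⁻¹ = a * b →
    (y * a * y⁻¹ ∈ Xs ∧ y * b * y⁻¹ ∈ Xl) ∨ (y * a * y⁻¹ ∈ Xl ∧ y * b * y⁻¹ ∈ Xs)

end Cfsg.Agent.Omega.All.HOne
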