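import Cfsg.Agent.Omega.All.FFourGB

/-!
# END `F₄(q)` with a graph element (OMEGA #16413): (B) `C_G(z) ≤ Y`

`Pt S S₁ X_s s a` : `s ∈ S - S₁`, `1 ≠ a ∈ X_s ∩ Ω₁(Z(S₁))`; `b = s a s⁻¹`, `z = a b ∈ Ω₁(Z(S))`.

* `FFourG.typ3` : an element of `X_s#` is conjugate to an element of `U_s ∪ U_l` only in `Y`;
* `FFourG.typz` : the same for `z`, modulo `C_G(z)`;
* `FFourG.cen_z_le` : `C_G(z) ≤ Y`.
-/

set_option autoImplicit false
set_option linter.unusedSectionVars false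
set_option linter.unusedVariables false

namespace Cfsg.Agent.Omega.All.HOne

open Subgroup Cfsg Cfsg.Agent.ZN Cfsg.Agent.Omega.MinPar Cfsg.Agent.Omega.Frame
open Cfsg.Agent.Omega.FrameLE (AllIn)
open Cfsg.Agent.Omega.FrameNOFF (CZ)
open Cfsg.Agent.MinSimple.VModule (le_o2 mem_zc zc_le zc_comm o2_le o2_isPGroup le_normalizer_o2 le_centralizer_zc
  zc_le_centralizer zc_sq normalizer_le_normalizer_zc)
open Cfsg.Agent.MinSimple.Basic (char2_centralizer)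
open scoped commutatorElement

universe u

variable {G : Type u} [Group G]

namespace FFourG

variable [Finite G] {S : Sylow 2 G} {S₁ S₀ Y Cs Cl Xs Xl Qs Ql Us Ul : Subgroup G}
  (D : FFourG (S : Subgroup G) S₁ S₀ Y Cs Cl Xs Xl Qs Ql Us Ul)
include D

section pt

variable {s a : G} (p : Pt (S : Subgroup G) S₁ Xs s a)
include p

theorem b_X : s * a * s⁻¹ ∈ Xl := (D.takX p.s_S p.s_not).1.mem p.a_X

theorem b_ne : s * a * s⁻¹ ≠ 1 := conj_ne_one p.a_ne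

theorem b_zc : s * a * s⁻¹ ∈ zc S₁ :=
  conj_mem_of_normalizer (normalizer_le_normalizer_zc _ (D.norm_S₁ p.s_S)) p.a_zc

theorem z_ne : a * (s * a * s⁻¹) ≠ 1 := by
  intro h
  have h1 : a = (s * a * s⁻¹)⁻¹ := eq_inv_of_mul_eq_one_left h
  have h2 : a ∈ Xs ⊓ Xl := mem_inf.2 ⟨p.a_X, by rw [h1]; exact Subgroup.inv_mem _ (D.b_X p)⟩
  rw [D.dat.Xs_Xl] at h2
  exact p.a_ne (mem_bot.1 h2)

theorem ab_comm : a * (s * a * s⁻¹) = s * a * s⁻¹ * a := D.X_comm p.a_X (D.b_X p)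

theorem z_zc₁ : a * (s * a * s⁻¹) ∈ zc S₁ := mul_mem p.a_zc (D.b_zc p)

theorem z_conj_s : s * (a * (s * a * s⁻¹)) * s⁻¹ = a * (s * a * s⁻¹) := by
  have h1 := (mem_zc.1 p.a_zc).2.1 _ (D.sq_mem p.s_S p.s_not)
  calc s * (a * (s * a * s⁻¹)) * s⁻¹ = (s * a * s⁻¹) * ((s * s) * a) * (s * s)⁻¹ := by group
    _ = (s * a * s⁻¹) * (a * (s * s)) * (s * s)⁻¹ := by rw [h1]
    _ = s * a * s⁻¹ * a := by group
    _ = _ := (D.ab_comm p).symm

theorem z_zc : a * (s * a * s⁻¹) ∈ zc (S : Subgroup G) := by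
  have h1 := mem_zc.1 (D.z_zc₁ p)
  refine mem_zc.2 ⟨D.S₁_S h1.1, fun t ht => ?_, h1.2.2⟩
  by_cases ht1 : t ∈ S₁
  · exact h1.2.1 t ht1
  · have h2 := D.inv_mul p.s_S p.s_not ht ht1
    have h3 := h1.2.1 _ h2
    have h4 := D.z_conj_s p
    set z := a * (s * a * s⁻¹) with hz
    calc t * z = s * (s⁻¹ * t * z) := by group
      _ = s * z * s⁻¹ * t := by rw [h3]; group
      _ = z * t := by rw [h4]

theorem z_cen : (S : Subgroup G) ≤ centralizer ({a * (s * a * s⁻¹)} : Set G) := fun t ht =>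
  mem_centralizer_singleton_iff.2 ((mem_zc.1 (D.z_zc p)).2.1 t ht)

/-- type 3: one `Y`-class -/
theorem typ3_z {w : G} (hw : w ∈ Xs ⊔ Xl) (h1 : w ∉ Xs) (h2 : w ∉ Xl) :
    ∃ y ∈ Y, y * w * y⁻¹ = a * (s * a * s⁻¹) := by
  obtain ⟨a', ha', b', hb', rfl⟩ := D.exists_ab hw
  have ha1 : a' ≠ 1 := fun h => h2 (by rw [h, one_mul]; exact hb')
  have hb1 : b' ≠ 1 := fun h => h1 (by rw [h, mul_one]; exact ha')
  obtain ⟨y, hy, h3, h4⟩ := D.trans2 a' ha' b' hb' a p.a_X _ (D.b_X p) ha1 hb1 p.a_ne (D.b_ne p)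
  refine ⟨y, hy, ?_⟩
  calc y * (a' * b') * y⁻¹ = (y * a' * y⁻¹) * (y * b' * y⁻¹) := by group
    _ = _ := by rw [h3, h4]

end pt

/-- an element of `U_s ∪ U_l` is `Y`-conjugate to an element of `Z₀` -/
theorem typ (hc : IsCharacteristicTwoType G) {u : G} (hu : u ∈ Us ∨ u ∈ Ul) : ∃ y ∈ Y, y * u * y⁻¹ ∈ Xs ⊔ Xl := by
  rcases hu with hu | hu
  · obtain ⟨y, hy, h⟩ := D.dat.side_s.typ u hu
    exact ⟨y, hy, D.zc_le_Z0 hc h⟩
  · obtain ⟨y, hy, h⟩ := D.dat.side_l.typ u hu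
    exact ⟨y, hy, D.zc_le_Z0 hc h⟩

/-- (*) : an element of `X_s# ∪ X_l#` is conjugate to an element of `U_s ∪ U_l` only in `Y` -/
theorem pr (hc : IsCharacteristicTwoType G) {x g : G} (hx : x ∈ Xs ∨ x ∈ Xl) (h1 : x ≠ 1)
    (hg : g * x * g⁻¹ ∈ Us ∨ g * x * g⁻¹ ∈ Ul) : g ∈ Y := by
  obtain ⟨y, hy, h2⟩ := D.typ hc hg
  have e : y * (g * x * g⁻¹) * y⁻¹ = (y * g) * x * (y * g)⁻¹ := by group
  rw [e] at h2
  have h3 : y * g ∈ Y := by
    by_cases h4 : (y * g) * x * (y * g)⁻¹ ∈ Xs ∨ (y * g) * x * (y * g)⁻¹ ∈ Xl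
    · exact D.mem_Y hc hx h1 h4
    · exfalso
      push Not at h4
      obtain ⟨s, a, p⟩ := D.exists_pt
      obtain ⟨y', -, h5⟩ := D.typ3_z p h2 h4.1 h4.2
      refine D.not_zc hc (g := y' * (y * g)) hx h1 ?_
      have e2 : y' * (y * g) * x * (y' * (y * g))⁻¹ = y' * (y * g * x * (y * g)⁻¹) * y'⁻¹ := by group
      rw [e2, h5]
      exact D.z_zc p
  have e2 : g = y⁻¹ * (y * g) := by group
  rw [e2]
  exact mul_mem (inv_mem hy) h3

section pt2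

variable {s a : G} (p : Pt (S : Subgroup G) S₁ Xs s a)
include p

/-- (**) : `z` is conjugate to an element of `U_s ∪ U_l` only by elements of `Y C_G(z)` -/
theorem pr_z (hc : IsCharacteristicTwoType G) {g : G}
    (hg : g * (a * (s * a * s⁻¹)) * g⁻¹ ∈ Us ∨ g * (a * (s * a * s⁻¹)) * g⁻¹ ∈ Ul) :
    ∃ y ∈ Y, y * g ∈ centralizer ({a * (s * a * s⁻¹)} : Set G) := by
  obtain ⟨y, hy, h2⟩ := D.typ hc hg
  have hz := D.z_zc p
  have hne := D.z_ne p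
  set z := a * (s * a * s⁻¹) with hzdef
  have e : y * (g * z * g⁻¹) * y⁻¹ = (y * g) * z * (y * g)⁻¹ := by group
  rw [e] at h2
  by_cases h4 : (y * g) * z * (y * g)⁻¹ ∈ Xs ∨ (y * g) * z * (y * g)⁻¹ ∈ Xl
  · exfalso
    refine D.not_zc hc (g := (y * g)⁻¹) h4 (conj_ne_one hne) ?_
    have e2 : (y * g)⁻¹ * (y * g * z * (y * g)⁻¹) * (y * g)⁻¹⁻¹ = z := by group
    rwa [e2]
  · push Not at h4
    obtain ⟨y', hy', h5⟩ := D.typ3_z p h2 h4.1 h4.2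
    refine ⟨y' * y, mul_mem hy' hy, ?_⟩
    rw [mem_centralizer_singleton_iff]
    calc y' * y * g * z = (y' * (y * g * z * (y * g)⁻¹) * y'⁻¹) * (y' * y * g) := by group
      _ = z * (y' * y * g) := by rw [h5]

/-- the conjugates of `a` under `C_G(z)` in `J₀`: `Δ` -/
theorem orb (hc : IsCharacteristicTwoType G) {h : G} (hh : h ∈ centralizer ({a * (s * a * s⁻¹)} : Set G))
    (hU : h * a * h⁻¹ ∈ Us ∨ h * a * h⁻¹ ∈ Ul) : h * a * h⁻¹ = a ∨ h * a * h⁻¹ = s * a * s⁻¹ := by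
  have hY := D.pr hc (Or.inl p.a_X) p.a_ne hU
  have hb := D.b_X p
  have h1 : h * (a * (s * a * s⁻¹)) * h⁻¹ = a * (s * a * s⁻¹) := by
    rw [mem_centralizer_singleton_iff.1 hh]; group
  have huniq : ∀ {x x' y y' : G}, x ∈ Xs → x' ∈ Xs → y ∈ Xl → y' ∈ Xl → x * y = x' * y' → x = x' ∧ y = y' := by
    intro x x' y y' hx hx' hy hy' he
    have h2 : x'⁻¹ * x = y' * y⁻¹ := by
      calc x'⁻¹ * x = x'⁻¹ * (x * y) * y⁻¹ := by group
        _ = x'⁻¹ * (x' * y') * y⁻¹ := by rw [he]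
        _ = _ := by group
    have h3 : x'⁻¹ * x ∈ Xs ⊓ Xl := mem_inf.2 ⟨Subgroup.mul_mem _ (Subgroup.inv_mem _ hx') hx, by
      rw [h2]; exact Subgroup.mul_mem _ hy' (Subgroup.inv_mem _ hy)⟩
    rw [D.dat.Xs_Xl] at h3
    have h4 := mem_bot.1 h3
    have h5 : x = x' := (inv_mul_eq_one.1 h4).symm
    rw [h5] at he
    exact ⟨h5, mul_left_cancel he⟩
  rcases D.cenY a p.a_X _ hb p.a_ne (D.b_ne p) h hY h1 with h2 | h2
  · left
    refine (huniq (y := h * (s * a * s⁻¹) * h⁻¹) (y' := s * a * s⁻¹) h2.1 p.a_X h2.2 hb ?_).1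
    calc h * a * h⁻¹ * (h * (s * a * s⁻¹) * h⁻¹) = h * (a * (s * a * s⁻¹)) * h⁻¹ := by group
      _ = _ := h1
  · right
    refine (huniq (x := h * (s * a * s⁻¹) * h⁻¹) (x' := a) h2.2 p.a_X h2.1 hb ?_).2
    calc h * (s * a * s⁻¹) * h⁻¹ * (h * a * h⁻¹) = h * (s * a * s⁻¹ * a) * h⁻¹ := by group
      _ = _ := by rw [← D.ab_comm p]; exact h1

end pt2

theorem takQQ {t : G} (ht : t ∈ (S : Subgroup G)) (h1 : t ∉ S₁) : Tak t (Qs ⊔ Ql) (Qs ⊔ Ql) := by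
  have h2 := (D.tak_of ht h1).1.sup (D.tak_of ht h1).2
  rwa [sup_comm Ql Qs] at h2

theorem faith_s {w : G} (hw : w ∈ Qs ⊔ Ql) (h : ∀ q ∈ Qs, w * q * w⁻¹ * q⁻¹ ∈ Us) : w ∈ Qs := by
  obtain ⟨s, hs, hs1⟩ := D.swap
  rw [(D.tak_of hs hs1).1 w]
  refine D.faith _ ((D.takQQ hs hs1).mem hw) fun q hq => ?_
  have h1 := (D.takU hs hs1).1.mem (h _ ((D.tak_of hs hs1).1.mem' hq))
  have e : s * (w * (s⁻¹ * q * s) * w⁻¹ * (s⁻¹ * q * s)⁻¹) * s⁻¹ =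
      s * w * s⁻¹ * q * (s * w * s⁻¹)⁻¹ * q⁻¹ := by group
  rwa [e] at h1

variable {s a : G} (p : Pt (S : Subgroup G) S₁ Xs s a)
include p

/-- **(B)** `C_G(z) ≤ Y` -/
theorem cen_z_le (hc : IsCharacteristicTwoType G) : centralizer ({a * (s * a * s⁻¹)} : Set G) ≤ Y := by
  have hzS := D.z_cen p
  have hz1 := D.z_ne p
  have hzz := D.z_zc p
  have hzz₁ := D.z_zc₁ p
  have hbX := D.b_X p
  have horb := fun h => D.orb p hc (h := h)
  have hsas : s * a * s⁻¹ = s * a * s⁻¹ := rfl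
  set b := s * a * s⁻¹ with hb
  set z := a * b with hz
  set H := centralizer ({z} : Set G) with hH
  set W := o2 H with hW
  have hD1 : CZ S₁ ≤ H := centralizer_le (by
    intro w hw
    rw [Set.mem_singleton_iff] at hw
    rw [hw]; exact hzz₁)
  have hWS : W ≤ (S : Subgroup G) := Cfsg.Agent.MinSimple.VModule.o2_le_of_sylow S.isPGroup'
    (Cfsg.Agent.MinSimple.Basic.not_dvd_relIndex S hzS)
  have hHW : H ≤ normalizer (W : Set G) := le_normalizer_o2 _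
  have hWQ : W ≤ Qs ⊔ Ql := D.W_le hc hWS (hD1.trans hHW)
  have hQH : Qs ⊔ Ql ≤ H := D.QQ_S.trans hzS
  have hZW : Xs ⊔ Xl ≤ W := by
    intro x hx
    refine char2_centralizer hc (zc_sq _ z hzz) hz1 ⟨hQH (D.Z0_QQ hx), ?_⟩
    exact mem_centralizer_iff.2 fun w hw => D.Z0_comm hx (hWQ hw)
  set A := zc W with hA
  have hHA : H ≤ normalizer (A : Set G) := hHW.trans (normalizer_le_normalizer_zc _)
  have hAW : A ≤ W := zc_le _
  have hZA : Xs ⊔ Xl ≤ A := fun x hx => mem_zc.2 ⟨hZW hx, fun w hw => D.Z0_comm hx (hWQ hw), by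
    rw [pow_two]; exact D.J0_sq hc (D.Z0_J0 hx)⟩
  by_contra hY
  obtain ⟨h, hh, hhY⟩ := SetLike.not_le_iff_exists.1 hY
  have hy0 : h * a * h⁻¹ ∈ A := conj_mem_of_normalizer (hHA hh) (hZA (mem_sup_left p.a_X))
  have hy0U : ¬ (h * a * h⁻¹ ∈ Us ∨ h * a * h⁻¹ ∈ Ul) := fun h1 => hhY (D.pr hc (Or.inl p.a_X) p.a_ne h1)
  have hy0Z : h * a * h⁻¹ ∉ Xs ⊔ Xl := fun h1 => hy0U (Or.inl (D.Z0_Us h1))
  -- (ii)
  have hJA : Qs ⊓ Ql ≤ A := by
    have hZJ : Xs ⊔ Xl ≤ A ⊓ (Qs ⊓ Ql) := le_inf hZA D.Z0_J0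
    have hDn : CZ S₁ ≤ normalizer ((A ⊓ (Qs ⊓ Ql) : Subgroup G) : Set G) :=
      normalizer_inf_le (hD1.trans hHA) (D.CZ_J0 hc)
    have hne : A ⊓ (Qs ⊓ Ql) ≠ Xs ⊔ Xl := by
      intro heq
      have hA0 : A ≤ Qs ⊓ Ql := by
        intro α hα
        have hcomm : ∀ q ∈ Qs ⊔ Ql, α * q * α⁻¹ * q⁻¹ ∈ Xs ⊔ Xl := by
          intro q hq
          rw [← heq]
          refine mem_inf.2 ⟨?_, ?_⟩
          · have e : α * q * α⁻¹ * q⁻¹ = α * (q * α⁻¹ * q⁻¹) := by group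
            rw [e]
            exact mul_mem hα (conj_mem_of_normalizer (hHA (hQH hq)) (inv_mem hα))
          · rw [← D.dat.comm0, ← commutatorElement_def]
            exact commutator_mem_commutator (hWQ (hAW hα)) hq
        exact mem_inf.2 ⟨D.faith_s (hWQ (hAW hα)) fun q hq => D.Z0_Us (hcomm q (mem_sup_left hq)),
          D.faith α (hWQ (hAW hα)) fun q hq => D.Z0_Ul (hcomm q (mem_sup_right hq))⟩
      rw [inf_eq_left.2 hA0] at heq
      exact hy0Z (heq ▸ hy0)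
    by_contra hJA
    have h1 : Xs ⊔ Xl < A ⊓ (Qs ⊓ Ql) := lt_of_le_of_ne hZJ hne.symm
    have h2 : A ⊓ (Qs ⊓ Ql) < Qs ⊓ Ql := lt_of_le_of_ne inf_le_right fun h => hJA (inf_eq_right.1 h)
    have hs : Tak s (A ⊓ (Qs ⊓ Ql)) (A ⊓ (Qs ⊓ Ql)) :=
      (tak_norm.2 (hHA (hzS p.s_S))).inf (D.takJ0 p.s_S p.s_not)
    rcases D.dat.two _ h1 h2 hDn with h | h
    · rw [h] at hs
      exact D.J_ne (hs.eq (D.takJ p.s_S p.s_not).1)
    · rw [h] at hs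
      exact D.J_ne (hs.eq (D.takJ p.s_S p.s_not).2).symm
  -- (iii)
  have hAJ : A ≤ Qs ⊓ Ql := by
    refine D.elJ A (hAW.trans hWQ) ⟨⟨⟨fun x y => Subtype.ext (zc_comm W x x.2 y y.2)⟩⟩, zc_sq W⟩
      (hzS.trans hHA) fun e he j hj => ?_
    exact zc_comm _ _ he _ (hJA hj)
  -- (iv)
  let Δ : G → Prop := fun y => ∃ h ∈ H, y = h * a * h⁻¹
  have hΔJ : ∀ {y : G}, Δ y → y ∈ Qs ⊓ Ql := by
    rintro _ ⟨h, hh, rfl⟩
    exact hAJ (conj_mem_of_normalizer (hHA hh) (hZA (mem_sup_left p.a_X)))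
  have hΔU : ∀ {y : G}, Δ y → (y ∈ Us ∨ y ∈ Ul) → y = a ∨ y = b := by
    rintro _ ⟨h, hh, rfl⟩ hU
    exact horb h hh hU
  have hΔc : ∀ {y g : G}, Δ y → g ∈ H → Δ (g * y * g⁻¹) := by
    rintro _ g ⟨h, hh, rfl⟩ hg
    exact ⟨g * h, mul_mem hg hh, by group⟩
  have hΔa : Δ a := ⟨1, one_mem _, by group⟩
  have hΔb : Δ b := ⟨s, hzS p.s_S, hb⟩
  have hΔZ : ∀ {y : G}, Δ y → y ≠ a → y ≠ b → ∀ x ∈ Xs ⊔ Xl, Δ (y * x) := by
    intro y hy hya hyb x hx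
    obtain ⟨x₁, hx₁, x₂, hx₂, rfl⟩ := D.exists_ab hx
    have hU : ¬ (y ∈ Us ∨ y ∈ Ul) := fun h1 => by
      rcases hΔU hy h1 with h2 | h2
      · exact hya h2
      · exact hyb h2
    push Not at hU
    obtain ⟨q, hq, hq1⟩ := D.mixQ_s y (hΔJ hy) hU.1 hU.2 x₁ hx₁
    have h1 : Δ (y * x₁) := hq1 ▸ hΔc hy (hQH hq)
    obtain ⟨q', hq', hq1'⟩ := D.mixQ_l (y * x₁) (hΔJ h1)
      (fun h2 => hU.1 ((Subgroup.mul_mem_cancel_right _ (D.Z0_Us (mem_sup_left hx₁))).1 h2))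
      (fun h2 => hU.2 ((Subgroup.mul_mem_cancel_right _ (D.Z0_Ul (mem_sup_left hx₁))).1 h2)) x₂ hx₂
    rw [← mul_assoc, ← hq1']
    exact hΔc h1 (hQH hq')
  have haa : a * a = 1 := D.J0_sq hc (hΔJ hΔa)
  have haz : a * z = b := by rw [hz, ← mul_assoc, haa, one_mul]
  have hzJ : z ∈ Qs ⊓ Ql := D.Z0_J0 (mul_mem (mem_sup_left p.a_X) (mem_sup_right hbX))
  have hΔz : ∀ {y : G}, Δ y → Δ (y * z) := by
    rintro _ ⟨h, hh, rfl⟩
    have h1 : h * a * h⁻¹ * z = h * b * h⁻¹ := by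
      have h2 := mem_centralizer_singleton_iff.1 (inv_mem hh)
      calc h * a * h⁻¹ * z = h * a * (h⁻¹ * z) := by group
        _ = h * (a * z) * h⁻¹ := by rw [h2]; group
        _ = _ := by rw [haz]
    rw [h1]
    exact hΔc hΔb hh
  have hΔmul : ∀ {x y : G}, Δ x → Δ y → y ≠ x → y ≠ x * z → Δ (x * y) := by
    rintro x y ⟨h, hh, hx⟩ hy h1 h2
    have h3 := hΔc hy (inv_mem hh)
    rw [inv_inv] at h3
    have h4 : h⁻¹ * y * h ≠ a := fun h5 => h1 (by rw [hx, ← h5]; group)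
    have h6 : h⁻¹ * y * h ≠ b := fun h5 => h2 (by
      have h7 := mem_centralizer_singleton_iff.1 (inv_mem hh)
      calc y = h * (h⁻¹ * y * h) * h⁻¹ := by group
        _ = h * (a * z) * h⁻¹ := by rw [h5, haz]
        _ = h * a * (h⁻¹ * z) := by rw [h7]; group
        _ = x * z := by rw [hx]; group)
    have h7 := hΔc (hΔZ h3 h4 h6 a (mem_sup_left p.a_X)) hh
    have e : h * (h⁻¹ * y * h * a) * h⁻¹ = y * (h * a * h⁻¹) := by group
    rw [e, ← hx] at h7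
    rw [D.J0_ab hc (hΔJ ⟨h, hh, hx⟩) (hΔJ hy)]
    exact h7
  have hzz2 : z * z = 1 := D.J0_sq hc hzJ
  have hinv : ∀ {y : G}, y ∈ Qs ⊓ Ql → y⁻¹ = y := fun hy => inv_eq_of_mul_eq_one_left (D.J0_sq hc hy)
  let D' : Subgroup G :=
    { carrier := {y | Δ y ∨ y = 1 ∨ y = z}
      mul_mem' := by
        rintro x y hx hy
        rcases hx with hx | rfl | rfl
        · rcases hy with hy | rfl | rfl
          · by_cases h1 : y = x
            · right; left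
              rw [h1]; exact D.J0_sq hc (hΔJ hx)
            · by_cases h2 : y = x * z
              · right; right
                rw [h2, ← mul_assoc, D.J0_sq hc (hΔJ hx), one_mul]
              · exact Or.inl (hΔmul hx hy h1 h2)
          · rw [mul_one]; exact Or.inl hx
          · exact Or.inl (hΔz hx)
        · rw [one_mul]; exact hy
        · rcases hy with hy | rfl | rfl
          · rw [D.J0_ab hc hzJ (hΔJ hy)]
            exact Or.inl (hΔz hy)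
          · rw [mul_one]; exact Or.inr (Or.inr rfl)
          · right; left; exact hzz2
      one_mem' := Or.inr (Or.inl rfl)
      inv_mem' := by
        intro x hx
        rcases hx with hx | rfl | rfl
        · rw [hinv (hΔJ hx)]; exact Or.inl hx
        · rw [inv_one]; exact Or.inr (Or.inl rfl)
        · rw [hinv hzJ]; exact Or.inr (Or.inr rfl) }
  have hD'mem : ∀ {y : G}, y ∈ D' ↔ Δ y ∨ y = 1 ∨ y = z := Iff.rfl
  have hD'J : D' ≤ Qs ⊓ Ql := by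
    intro y hy
    rcases hD'mem.1 hy with hy | rfl | rfl
    · exact hΔJ hy
    · exact one_mem _
    · exact hzJ
  have hD'n : H ≤ normalizer (D' : Set G) := by
    refine le_normalizer_of fun g hg y hy => ?_
    rcases hD'mem.1 hy with hy | rfl | rfl
    · exact Or.inl (hΔc hy hg)
    · right; left; group
    · right; right
      rw [mem_centralizer_singleton_iff.1 hg]; group
  have hZU : ∀ {y : G}, y ∈ D' → (y ∈ Us ∨ y ∈ Ul) → y ∈ Xs ⊔ Xl := by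
    intro y hy hU
    rcases hD'mem.1 hy with hy | rfl | rfl
    · rcases hΔU hy hU with rfl | h1
      · exact mem_sup_left p.a_X
      · rw [h1]; exact mem_sup_right hbX
    · exact one_mem _
    · exact mul_mem (mem_sup_left p.a_X) (mem_sup_right hbX)
  have hTmem : ∀ x ∈ D' ⊔ (Xs ⊔ Xl), ∃ d ∈ D', ∃ z' ∈ Xs ⊔ Xl, x = d * z' := fun x hx =>
    mem_sup_comm (fun a ha b hb => D.J0_ab hc (hD'J ha) (D.Z0_J0 hb)) hx
  have hT : D' ⊔ (Xs ⊔ Xl) ≤ Xs ⊔ Xl := by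
    refine D.no_T hc le_sup_right (sup_le hD'J D.Z0_J0)
      (normalizer_sup_le (hD1.trans hD'n) (D.CZ_Z0 hc)) ?_ ?_
    · rintro x ⟨hx, hxs⟩
      obtain ⟨d, hd, z', hz', rfl⟩ := hTmem x hx
      exact mul_mem (hZU hd (Or.inr ((Subgroup.mul_mem_cancel_right _ (D.Z0_Ul hz')).1 hxs.1))) hz'
    · rintro x ⟨hx, hxs⟩
      obtain ⟨d, hd, z', hz', rfl⟩ := hTmem x hx
      exact mul_mem (hZU hd (Or.inl ((Subgroup.mul_mem_cancel_right _ (D.Z0_Us hz')).1 hxs.1))) hz'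
  exact hy0Z (hT (mem_sup_left (Or.inl ⟨h, hh, rfl⟩)))

end FFourG

end Cfsg.Agent.Omega.All.HOne
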