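import Cfsg.Agent.Omega.All.Basic

/-!
# THEOREM F1-h1 (OMEGA #14479): the input structures

`Y = N_G(G₀)`, `G₀ = Sp_{2n}(q)` (`n ≥ 3`) or `F₄(q)`, `q` even, `S ≤ Y` a Sylow 2-subgroup of `G`, `S₀ = S ∩ G₀`,
`Z = Ω₁(Z(S))`, `N_G(X_s) ≤ Y`.  All groups are subgroups of `G`.

* `X_s` short root group (`e₁+e₂`, resp. `1232`), `X_l` long root group (`2e₁`, resp. `2342`), `Z(S₀) = X_s X_l`;
* `C_s = C_{G₀}(X_s)`, `Q_s = O₂(C_s)`, `U_s = Z(Q_s)`, the same with `l`;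
* `Side S Y C X Q U` : one side (`s`; for `F₄(q)` also `l`);
* `Offer S₀ QQ U J X U'` : the action of `QQ = Q_s Q_l` on the orthogonal space `U` with singular point `X`,
  `J = X^⊥` (`U = U_l`, `X = X_s`, `U' = U_s`; for `F₄(q)` also with `s`, `l` exchanged);
* `SpDat`, `FFourDat` : all fields for `Sp_{2n}(q)`, `F₄(q)`.

Conclusion (files `HOneSp`, `HOneFFour`): `N_G(Z) ≤ Y` and every `P ∈ P(S)` lies in `Y`.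
-/

set_option autoImplicit false

namespace Cfsg.Agent.Omega.All.HOne

open Subgroup Cfsg Cfsg.Agent.ZN Cfsg.Agent.Omega.MinPar Cfsg.Agent.Omega.Frame
open Cfsg.Agent.Omega.FrameLE (AllIn)
open Cfsg.Agent.Omega.FrameNOFF (CZ)

universe u

variable {G : Type u} [Group G]

/-- One side: `X` a root group (`X_s` or `X_l`), `C = C_{G₀}(X)`, `Q = O₂(C)`, `U = Z(Q)`. -/
structure Side (S Y C X Q U : Subgroup G) : Prop where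
  X_el : IsElementaryAbelian 2 X
  X_ne : X ≠ ⊥
  X_S : X ≤ S
  S_X : S ≤ normalizer (X : Set G)
  X_U : X ≤ U
  U_eq : U = Q ⊓ centralizer (Q : Set G)
  U_el : IsElementaryAbelian 2 U
  Q_S : Q ≤ S
  Q_C : Q ≤ C
  C_X : C ≤ centralizer (X : Set G)
  S_C : S ≤ normalizer (C : Set G)
  /-- `Q` contains every normal 2-subgroup of `C` -/
  Q_max : ∀ T : Subgroup G, IsPGroup 2 T → T ≤ C → C ≤ normalizer (T : Set G) → T ≤ Q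
  /-- `C_S(C/Q) = Q` (no field automorphisms, `Z(C/Q) = 1`) -/
  fld : ∀ t ∈ S, (∀ c ∈ C, t * c * t⁻¹ * c⁻¹ ∈ Q) → t ∈ Q
  /-- from the irreducibility of `Q/U` for `C` -/
  irr : ∀ T : Subgroup G, T ≤ Q → C ≤ normalizer (T : Set G) → Q ⊓ centralizer (T : Set G) ≤ T → T = Q
  comm : ⁅Q, Q⁆ = X
  /-- the torus is transitive on `X#` -/
  trans : ∀ x ∈ X, ∀ x' ∈ X, x ≠ 1 → x' ≠ 1 →
    ∃ y ∈ Y, y ∈ normalizer (X : Set G) ∧ y ∈ normalizer (Q : Set G) ∧ y * x * y⁻¹ = x'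
  /-- every element of `U` is conjugate in `Y` to an element of `Ω₁(Z(S))` -/
  typ : ∀ u ∈ U, ∃ y ∈ Y, y * u * y⁻¹ ∈ zc S

/-- `QQ = Q_s Q_l` acts on the orthogonal space `U` (radical of order `q`) as the group of Siegel elements of the
singular point `X`; `J = X^⊥`. -/
structure Offer (S₀ QQ U J X U' : Subgroup G) : Prop where
  U_el : IsElementaryAbelian 2 U
  U_S₀ : U ≤ S₀
  QQ_S₀ : QQ ≤ S₀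
  QQ_U : QQ ≤ normalizer (U : Set G)
  J_U : J ≤ U
  /-- `[X^⊥, Q_s Q_l] ≤ X` -/
  comm : ∀ j ∈ J, ∀ v ∈ QQ, j * v * j⁻¹ * v⁻¹ ∈ X
  /-- a vector outside `X^⊥` is moved by every Siegel element `≠ 1` -/
  fix : ∀ v ∈ QQ, v ∉ centralizer (U : Set G) → ∀ u ∈ U, u * v = v * u → u ∈ J
  /-- `|U : X^⊥| = q = |X|` -/
  card : Nat.card X * Nat.card J ≤ Nat.card U
  /-- `|B| ≤ |U : C_U(B)|` for a group `B` of Siegel elements -/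
  off : ∀ V : Subgroup G, V ≤ QQ →
    Nat.card V * Nat.card ↥(U ⊓ centralizer (V : Set G)) ≤ Nat.card U * Nat.card ↥(V ⊓ centralizer (U : Set G))
  /-- `S₀` centralises the group induced on `U` by `C_{QQ}(X^⊥)` (a long root group of order `q`) -/
  triv : ∀ s ∈ S₀, ∀ v ∈ QQ ⊓ centralizer (J : Set G), s * v * s⁻¹ * v⁻¹ ∈ centralizer (U : Set G)
  /-- `Sp_{2n}(q)`: `V ≤ U_s`; `F₄(q)`: impossible -/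
  fin : ∀ V : Subgroup G, V ≤ QQ ⊓ centralizer (J : Set G) → IsElementaryAbelian 2 V →
    ¬ V ≤ centralizer (U : Set G) → (∀ s ∈ S₀, ∃ u ∈ U, u⁻¹ * s ∈ centralizer (V : Set G)) → V ≤ U'

/-- The data for `G₀ = Sp_{2n}(q)`, `n ≥ 3`, `q ≥ 2` even.  Here `Q_l = U_l` (order `q^{2n-1}`), `|U_s| = q³`. -/
structure SpDat (S S₀ Y C Xs Qs Us Ul : Subgroup G) : Prop where
  side : Side S Y C Xs Qs Us
  S_Y : S ≤ Y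
  S₀_S : S₀ ≤ S
  N_Y : normalizer (Xs : Set G) ≤ Y
  S_Ul : S ≤ normalizer (Ul : Set G)
  Xs_Ul : Xs ≤ Ul
  /-- `O₂(C_G(Z)) = Q_s Q_l` -/
  oZ : CZ S ≤ Y → o2 (CZ S) = Qs ⊔ Ul
  /-- `X_s` is the third term of the lower central series of `Q_s Q_l` -/
  lcs : ⁅⁅Qs ⊔ Ul, Qs ⊔ Ul⁆, Qs ⊔ Ul⁆ = Xs
  cen : (Qs ⊔ Ul) ⊓ centralizer (Ul : Set G) ≤ Ul
  typ_l : ∀ u ∈ Ul, ∃ y ∈ Y, y * u * y⁻¹ ∈ zc S
  offer : Offer S₀ (Qs ⊔ Ul) Ul (Ul ⊓ Qs) Xs Us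

/-- The data for `G₀ = F₄(q)`, `q ≥ 2` even.  `J_s = U_l ∩ Q_s`, `J_l = U_s ∩ Q_l`, `J₀ = Q_s ∩ Q_l = J_s J_l`. -/
structure FFourDat (S S₀ Y Cs Cl Xs Xl Qs Ql Us Ul : Subgroup G) : Prop where
  side_s : Side S Y Cs Xs Qs Us
  side_l : Side S Y Cl Xl Ql Ul
  S_Y : S ≤ Y
  S₀_S : S₀ ≤ S
  N_Y : normalizer (Xs : Set G) ≤ Y
  Xs_Ul : Xs ≤ Ul
  Xl_Us : Xl ≤ Us
  Xs_Xl : Xs ⊓ Xl = ⊥
  /-- `O₂(C_G(Z)) = Q_s Q_l` -/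
  oZ : CZ S ≤ Y → o2 (CZ S) = Qs ⊔ Ql
  comm0 : ⁅Qs ⊔ Ql, Qs ⊔ Ql⁆ = Qs ⊓ Ql
  cen0 : (Qs ⊔ Ql) ⊓ centralizer ((Qs ⊔ Ql : Subgroup G) : Set G) = Xs ⊔ Xl
  commJs : ⁅Ul ⊓ Qs, Qs ⊔ Ql⁆ = Xs
  commJl : ⁅Us ⊓ Ql, Qs ⊔ Ql⁆ = Xl
  lt_s : Xs ⊔ Xl < Ul ⊓ Qs
  lt_s' : Ul ⊓ Qs < Qs ⊓ Ql
  lt_l : Xs ⊔ Xl < Us ⊓ Ql
  lt_l' : Us ⊓ Ql < Qs ⊓ Ql
  /-- the two 4-dimensional modules of `Sp₄(q)` -/
  two : ∀ T : Subgroup G, Xs ⊔ Xl < T → T < Qs ⊓ Ql → CZ S ≤ normalizer (T : Set G) →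
    T = Ul ⊓ Qs ∨ T = Us ⊓ Ql
  cen_l : (Qs ⊔ Ql) ⊓ centralizer (Ul : Set G) ≤ Ql
  cen_s : (Qs ⊔ Ql) ⊓ centralizer (Us : Set G) ≤ Qs
  offer_l : Offer S₀ (Qs ⊔ Ql) Ul (Ul ⊓ Qs) Xs Us
  offer_s : Offer S₀ (Qs ⊔ Ql) Us (Us ⊓ Ql) Xl Ul
  /-- `[v, Q_s] = X_s` and `[v, Q_l] = X_l` for `v ∈ J₀` outside `U_s ∪ U_l` -/
  mix_s : ∀ v ∈ Qs ⊓ Ql, v ∉ Us → v ∉ Ul → ∀ x ∈ Xs, ∃ y ∈ Y, y * v * y⁻¹ = v * x
  mix_l : ∀ v ∈ Qs ⊓ Ql, v ∉ Us → v ∉ Ul → ∀ x ∈ Xl, ∃ y ∈ Y, y * v * y⁻¹ = v * x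

end Cfsg.Agent.Omega.All.HOne
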