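import Cfsg.Agent.Omega.All.HOneKer
import Cfsg.Agent.Omega.All.HOneDat

/-!
# LEMMA E (OMEGA #14479), natural modules: `Y` contains `P`

`M : NatK F S P V D k`, `V = V_P`, `D = C_V(O²(P))`.

* `nat_full` : `x ∈ V`, `C_P(x) ≤ Y`, `S ≤ Y`, `P` not in `Y`: all coordinates of `x` are `≠ 0`.
-/

set_option autoImplicit false

namespace Cfsg.Agent.Omega.All.HOne

open Subgroup Cfsg Cfsg.Agent.ZN Cfsg.Agent.Omega.MinPar Cfsg.Agent.Omega.FrameFF Cfsg.Agent.Omega.FFThm
open Cfsg.Agent.Lib.SL2Mat Cfsg.Agent.Omega.NatPair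

universe u

/-! ### Matrices -/

section mat

variable {F : Type} [Field F]

theorem ap_zero_vec (A : Matrix.SpecialLinearGroup (Fin 2) F) : ap A 0 = 0 := by
  have h := ap_add A 0 0
  rw [add_zero] at h
  exact left_eq_add.1 h

theorem ap_up_0 (b : F) (x : Fin 2 → F) : ap (up b) x 0 = x 0 + b * x 1 := by
  rw [ap_zero', up_00, up_01, one_mul]

theorem ap_up_1 (b : F) (x : Fin 2 → F) : ap (up b) x 1 = x 1 := by
  rw [ap_one', up_10, up_11, zero_mul, one_mul, zero_add]

variable [CharP F 2]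

theorem one_one : (1 : F) + 1 = 0 := CharTwo.add_self_eq_zero 1

variable (F) in
/-- an element of order three -/
def th : Matrix.SpecialLinearGroup (Fin 2) F :=
  mk 0 1 1 1 (by linear_combination -(one_one (F := F)))

theorem th_cube : th F * th F * th F = 1 := by
  have h2 := one_one (F := F)
  refine ext_ent ?_ ?_ ?_ ?_ <;> (simp only [ent_mul]; simp only [th, mk_00, mk_01, mk_10, mk_11])
  · simp
  · rw [ent_one_01]; linear_combination h2
  · rw [ent_one_10]; linear_combination h2
  · rw [ent_one_11]; linear_combination h2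

theorem lo_th (b : F) : lo b * th F = th F * up b := by
  refine ext_ent ?_ ?_ ?_ ?_ <;> (simp only [ent_mul]; simp [th])

theorem ap_th_0 (x : Fin 2 → F) : ap (th F) x 0 = x 1 := by
  rw [ap_zero']; simp [th]

theorem ap_th_1 (x : Fin 2 → F) : ap (th F) x 1 = x 0 + x 1 := by
  rw [ap_one']; simp [th]

/-- a subgroup which contains the upper unitriangular matrices and `th` -/
theorem eq_top_of_th {A : Subgroup (Matrix.SpecialLinearGroup (Fin 2) F)} (hu : ∀ b, up b ∈ A) (ht : th F ∈ A) :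
    A = ⊤ := by
  have hl : ∀ b, lo b ∈ A := fun b => by
    have h1 : lo b = th F * up b * (th F)⁻¹ := by rw [← lo_th, mul_inv_cancel_right]
    rw [h1]
    exact mul_mem (mul_mem ht (hu b)) (inv_mem ht)
  have h1 : ∀ x : Matrix.SpecialLinearGroup (Fin 2) F, ent x 1 0 ≠ 0 → x ∈ A := fun x hx => by
    rw [eq_up_lo_up x hx]
    exact mul_mem (mul_mem (hu _) (hl _)) (hu _)
  rw [eq_top_iff]
  intro x _
  by_cases hx : ent x 1 0 = 0
  · have h2 : x * lo 1 ∈ A := by
      apply h1
      rw [ent_mul, lo_00, lo_10, hx, zero_mul, zero_add, mul_one]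
      intro h3
      have h4 := det_eq x
      rw [hx, h3, mul_zero, mul_zero, sub_zero] at h4
      exact zero_ne_one h4
    have h3 := mul_mem h2 (inv_mem (hl 1))
    rwa [mul_inv_cancel_right] at h3
  · exact h1 x hx

end mat

/-! ### Families with one entry -/

section sg

variable {k : ℕ} {α : Type*} [Group α]

/-- the family with entry `A` at `i` -/
def sg (i : Fin k) (A : α) : Fin k → α := Function.update 1 i A

theorem sg_self (i : Fin k) (A : α) : sg i A i = A := Function.update_self _ _ _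

theorem sg_ne {i l : Fin k} (hl : l ≠ i) (A : α) : sg i A l = 1 := by
  rw [sg, Function.update_of_ne hl]; rfl

theorem sg_mul (i : Fin k) (A B : α) : sg i (A * B) = sg i A * sg i B := by
  funext l
  rw [Pi.mul_apply]
  by_cases hl : l = i
  · rw [hl, sg_self, sg_self, sg_self]
  · rw [sg_ne hl, sg_ne hl, sg_ne hl, one_mul]

theorem sg_inv (i : Fin k) (A : α) : sg i A⁻¹ = (sg i A)⁻¹ := by
  funext l
  rw [Pi.inv_apply]
  by_cases hl : l = i
  · rw [hl, sg_self, sg_self]
  · rw [sg_ne hl, sg_ne hl, inv_one]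

theorem sg_one (i : Fin k) : sg i (1 : α) = 1 := by
  funext l
  by_cases hl : l = i
  · rw [hl, sg_self]; rfl
  · rw [sg_ne hl]; rfl

theorem eq_sg {i : Fin k} {A : Fin k → α} (h : ∀ l, l ≠ i → A l = 1) : A = sg i (A i) := by
  funext l
  by_cases hl : l = i
  · rw [hl, sg_self]
  · rw [sg_ne hl, h l hl]

/-- induction: all families are products of families with one entry -/
theorem sg_induction {p : (Fin k → α) → Prop} (h1 : p 1) (hm : ∀ A B, p A → p B → p (A * B))
    (hs : ∀ i A, p (sg i A)) (A : Fin k → α) : p A := by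
  have key : ∀ s : Finset (Fin k), ∀ A : Fin k → α, (∀ l, l ∉ s → A l = 1) → p A := by
    intro s
    induction s using Finset.induction_on with
    | empty =>
      intro A hA
      have : A = 1 := funext fun l => hA l (Finset.notMem_empty l)
      rw [this]
      exact h1
    | insert j s hj ih =>
      intro A hA
      have h1 : A = sg j (A j) * Function.update A j 1 := by
        funext l
        rw [Pi.mul_apply]
        by_cases hl : l = j
        · rw [hl, sg_self, Function.update_self, mul_one]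
        · rw [sg_ne hl, Function.update_of_ne hl, one_mul]
      rw [h1]
      apply hm _ _ (hs j (A j))
      apply ih
      intro l hl
      by_cases hlj : l = j
      · rw [hlj, Function.update_self]
      · rw [Function.update_of_ne hlj]
        apply hA
        rw [Finset.mem_insert]
        rintro (h2 | h2)
        · exact hlj h2
        · exact hl h2
  exact key Finset.univ A fun l hl => absurd (Finset.mem_univ l) hl

end sg

/-! ### The coordinates -/

section co

variable {G : Type u} [Group G] {F : Type} [Field F] {S P : Subgroup G} {k : ℕ}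
  (M : NatK F S P (zl S P) (cv S P) k)

theorem nat_one : M.e 1 = 0 := by
  have h := M.mul 1 (one_mem _) 1 (one_mem _)
  rw [one_mul] at h
  exact left_eq_add.1 h

theorem nat_inv {v : G} (hv : v ∈ zl S P) : M.e v⁻¹ = -M.e v := by
  have h := M.mul v hv v⁻¹ (inv_mem hv)
  rw [mul_inv_cancel, nat_one] at h
  exact (neg_eq_of_add_eq_zero_right h.symm).symm

theorem nat_div {v w : G} (hv : v ∈ zl S P) (hw : w ∈ zl S P) : M.e (v * w⁻¹) = M.e v - M.e w := by
  rw [M.mul v hv _ (inv_mem hw), nat_inv M hw, sub_eq_add_neg]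

theorem nat_mem {v w : G} (hv : v ∈ zl S P) (hw : w ∈ zl S P) : v * w⁻¹ ∈ cv S P ↔ M.e v = M.e w := by
  rw [← M.ker _ (mul_mem hv (inv_mem hw)), nat_div M hv hw, sub_eq_zero]

/-- an element of `V` with one nonzero coordinate -/
theorem nat_single (i : Fin k) (x : Fin 2 → F) :
    ∃ v ∈ zl S P, M.e v i = x ∧ ∀ l, l ≠ i → M.e v l = 0 := by
  obtain ⟨v, hv, hx⟩ := M.surj (Function.update (0 : Fin k → Fin 2 → F) i x)
  refine ⟨v, hv, by rw [hx, Function.update_self], fun l hl => ?_⟩
  rw [hx, Function.update_of_ne hl]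
  rfl

theorem acts_mul {g h : G} {A B : Fin k → Matrix.SpecialLinearGroup (Fin 2) F} (hh : h ∈ P)
    (hA : ActsSL M.e (zl S P) (cv S P) g A) (hB : ActsSL M.e (zl S P) (cv S P) h B) :
    ActsSL M.e (zl S P) (cv S P) (g * h) (A * B) := by
  refine ⟨fun v hv i => ?_, fun d hd => ?_⟩
  · have e1 : g * h * v * (g * h)⁻¹ = g * (h * v * h⁻¹) * g⁻¹ := by group
    rw [e1, hA.1 _ (conjZ hh hv), hB.1 v hv, Pi.mul_apply, ap_mul]
  · exact (show Commute g d from hA.2 d hd).mul_left (hB.2 d hd)

theorem acts_inv {g : G} {A : Fin k → Matrix.SpecialLinearGroup (Fin 2) F} (hg : g ∈ P)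
    (hA : ActsSL M.e (zl S P) (cv S P) g A) : ActsSL M.e (zl S P) (cv S P) g⁻¹ A⁻¹ := by
  refine ⟨fun v hv i => ?_, fun d hd => ?_⟩
  · have h1 := hA.1 _ (conjZ (inv_mem hg) hv) i
    have e1 : g * (g⁻¹ * v * g⁻¹⁻¹) * g⁻¹ = v := by group
    rw [e1] at h1
    rw [h1, Pi.inv_apply, ap_inv_ap]
  · exact (show Commute g d from hA.2 d hd).inv_left

theorem acts_ker {g : G} (hg : g ∈ P) (hA : ActsSL M.e (zl S P) (cv S P) g 1) : g ∈ Ker S P := by
  refine ⟨hg, fun v hv => ?_⟩
  rw [nat_mem M (conjZ hg hv) hv]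
  funext i
  rw [hA.1 v hv i, Pi.one_apply, ap_one]

end co

/-! ### `Y` -/

section full

variable {G : Type u} [Group G] [Finite G] (hG : IsCharacteristicTwoType G) (S : Sylow 2 G) {P Y : Subgroup G}
  (h : IsParS (S : Subgroup G) P) {F : Type} [Field F] {k : ℕ}
  (M : NatK F (S : Subgroup G) P (zl (S : Subgroup G) P) (cv (S : Subgroup G) P) k)
  (hSY : (S : Subgroup G) ≤ Y) {x : G} (hx : x ∈ zl (S : Subgroup G) P)
  (hC : ∀ g ∈ P, g * x = x * g → g ∈ Y)

/-- all elements of `P` which induce `A` lie in `Y` -/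
def Ind (A : Fin k → Matrix.SpecialLinearGroup (Fin 2) F) (Y : Subgroup G) : Prop :=
  ∀ g ∈ P, ActsSL M.e (zl (S : Subgroup G) P) (cv (S : Subgroup G) P) g A → g ∈ Y

include hG h hx hC in
theorem ind_one : Ind S M 1 Y := fun g hg hA =>
  hC g hg (comm_of_both hG S h (acts_ker M hg hA) hA.2 x hx)

include hG h hx hC in
theorem ind_of {g : G} {A : Fin k → Matrix.SpecialLinearGroup (Fin 2) F} (hg : g ∈ P) (hgY : g ∈ Y)
    (hA : ActsSL M.e (zl (S : Subgroup G) P) (cv (S : Subgroup G) P) g A) : Ind S M A Y := by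
  intro g' hg' hA'
  have h1 := acts_mul M (inv_mem hg) hA' (acts_inv M hg hA)
  rw [mul_inv_cancel] at h1
  have h2 := ind_one hG S h M hx hC _ (mul_mem hg' (inv_mem hg)) h1
  have h3 := mul_mem h2 hgY
  rwa [inv_mul_cancel_right] at h3

include hG h hx hC in
theorem ind_mul {A B : Fin k → Matrix.SpecialLinearGroup (Fin 2) F} (hA : Ind S M A Y) (hB : Ind S M B Y) :
    Ind S M (A * B) Y := by
  obtain ⟨a, ha, haA⟩ := M.lift A
  obtain ⟨b, hb, hbB⟩ := M.lift B
  exact ind_of hG S h M hx hC (mul_mem ha hb) (mul_mem (hA a ha haA) (hB b hb hbB)) (acts_mul M hb haA hbB)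

include hG h hx hC in
theorem ind_inv {A : Fin k → Matrix.SpecialLinearGroup (Fin 2) F} (hA : Ind S M A Y) :
    Ind S M A⁻¹ Y := by
  obtain ⟨a, ha, haA⟩ := M.lift A
  exact ind_of hG S h M hx hC (inv_mem ha) (inv_mem (hA a ha haA)) (acts_inv M ha haA)

include hG h hSY hx hC in
/-- `x` has coordinate 0 at `i`: the factor `i` lies in `Y` -/
theorem ind_single [CharP F 2] {i : Fin k} (hi : M.e x i = 0) (A : Matrix.SpecialLinearGroup (Fin 2) F) :
    Ind S M (sg i A) Y := by
  let 𝒜 : Subgroup (Matrix.SpecialLinearGroup (Fin 2) F) :=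
    { carrier := {A | Ind S M (sg i A) Y}
      mul_mem' := by
        intro A B hA hB
        rw [Set.mem_ofPred_eq, sg_mul]
        exact ind_mul hG S h M hx hC hA hB
      one_mem' := by
        rw [Set.mem_ofPred_eq, sg_one]
        exact ind_one hG S h M hx hC
      inv_mem' := by
        intro A hA
        rw [Set.mem_ofPred_eq, sg_inv]
        exact ind_inv hG S h M hx hC hA }
  have htop : 𝒜 = ⊤ := by
    apply eq_top_of_th
    · intro b
      obtain ⟨t, ht, htb⟩ := M.unip (Function.update 0 i b)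
      have h1 : (fun l => up (Function.update (0 : Fin k → F) i b l)) = sg i (up b) := by
        funext l
        by_cases hl : l = i
        · rw [hl, Function.update_self, sg_self]
        · rw [Function.update_of_ne hl, sg_ne hl, Pi.zero_apply, up_zero]
      rw [h1] at htb
      exact ind_of hG S h M hx hC (h.le ht) (hSY ht) htb
    · intro g hg hA
      apply hC g hg
      apply fix_of_cube hG S h hA.2 _ hx
      · rw [nat_mem M (conjZ hg hx) hx]
        funext l
        rw [hA.1 x hx l]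
        by_cases hl : l = i
        · rw [hl, hi, ap_zero_vec]
        · rw [sg_ne hl, ap_one]
      · have h2 := acts_mul M hg (acts_mul M hg hA hA) hA
        rw [← sg_mul, ← sg_mul, th_cube, sg_one] at h2
        have h3 : g ^ 3 = g * g * g := by rw [pow_succ, pow_two]
        rw [h3]
        exact acts_ker M (mul_mem (mul_mem hg hg) hg) h2
  have h1 : A ∈ 𝒜 := by rw [htop]; trivial
  exact h1

include h in
/-- the transfer to the other factors by `S` -/
theorem ind_transfer (hSY : (S : Subgroup G) ≤ Y) {i : Fin k}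
    (hi : ∀ A : Matrix.SpecialLinearGroup (Fin 2) F, Ind S M (sg i A) Y) (j : Fin k)
    (B : Matrix.SpecialLinearGroup (Fin 2) F) : Ind S M (sg j B) Y := by
  obtain ⟨t, ht, htij⟩ := M.trans i j
  have htP := h.le ht
  obtain ⟨σ, hσ⟩ := M.perm t htP
  have hσi : σ i = j := by
    by_contra hne
    have hne' : σ.symm j ≠ i := fun h1 => hne (by rw [← h1, σ.apply_symm_apply])
    obtain ⟨w, hw, hw1, hw2⟩ := nat_single M (σ.symm j) ![1, 0]
    have h1 := hσ w hw (σ.symm j)
    rw [σ.apply_symm_apply, htij w hw] at h1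
    have h2 := h1.1 (hw2 i fun h3 => hne' h3.symm)
    rw [hw1] at h2
    exact one_ne_zero (congrFun h2 0)
  intro g hg hB
  have hg' : t⁻¹ * g * t⁻¹⁻¹ ∈ P := mul_mem (mul_mem (inv_mem htP) hg) (inv_mem (inv_mem htP))
  obtain ⟨C, hC⟩ := M.norm t⁻¹ (inv_mem htP) g hg _ hB.1
  have hCi : C = sg i (C i) := by
    apply eq_sg
    intro l hl
    apply ap_inj
    intro y
    rw [ap_one]
    obtain ⟨v, hv, hvl, -⟩ := nat_single M l y
    have h1 := hC v hv l
    rw [hvl] at h1
    rw [← h1]
    -- `[g', v]` has coordinate 0 at `l`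
    have hvg := conjZ hg' hv
    have h2 : M.e (t⁻¹ * g * t⁻¹⁻¹ * v * (t⁻¹ * g * t⁻¹⁻¹)⁻¹ * v⁻¹) l = 0 := by
      rw [← hσ _ (mul_mem hvg (inv_mem hv)) l]
      have e1 : t * (t⁻¹ * g * t⁻¹⁻¹ * v * (t⁻¹ * g * t⁻¹⁻¹)⁻¹ * v⁻¹) * t⁻¹ =
        g * (t * v * t⁻¹) * g⁻¹ * (t * v * t⁻¹)⁻¹ := by group
      have htv := conjZ htP hv
      rw [e1, nat_div M (conjZ hg htv) htv, Pi.sub_apply, hB.1 _ htv, sg_ne, ap_one, sub_self]
      intro h3
      exact hl (σ.injective (h3.trans hσi.symm))
    rw [nat_div M hvg hv, Pi.sub_apply, sub_eq_zero, hvl] at h2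
    exact h2
  have hact : ActsSL M.e (zl (S : Subgroup G) P) (cv (S : Subgroup G) P) (t⁻¹ * g * t⁻¹⁻¹)
      (sg i (C i)) := by
    rw [← hCi]
    refine ⟨hC, fun d hd => ?_⟩
    have h1 := hB.2 _ (conjD htP hd)
    calc t⁻¹ * g * t⁻¹⁻¹ * d = t⁻¹ * (g * (t * d * t⁻¹)) * t := by group
      _ = d * (t⁻¹ * g * t⁻¹⁻¹) := by rw [h1]; group
  have h2 := hi (C i) _ hg' hact
  have h3 := mul_mem (mul_mem (hSY ht) h2) (inv_mem (hSY ht))
  have e : t * (t⁻¹ * g * t⁻¹⁻¹) * t⁻¹ = g := by group
  rwa [e] at h3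

include hG h hx hC in
/-- from the factors to the product -/
theorem ind_all (hi : ∀ i, ∀ A : Matrix.SpecialLinearGroup (Fin 2) F, Ind S M (sg i A) Y)
    (A : Fin k → Matrix.SpecialLinearGroup (Fin 2) F) : Ind S M A Y :=
  sg_induction (p := fun A => Ind S M A Y) (ind_one hG S h M hx hC) (fun _ _ => ind_mul hG S h M hx hC) hi A

include hG h hSY hx hC in
/-- **all coordinates of `x` are `≠ 0`** -/
theorem nat_full [CharP F 2] (hPY : ¬ P ≤ Y) (i : Fin k) : M.e x i ≠ 0 := by
  intro hi
  apply hPY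
  apply M.gen Y hSY
  intro g hg A hA
  exact ind_all hG S h M hx hC (ind_transfer S h M hSY (ind_single hG S h M hSY hx hC hi)) A g hg hA

end full

end Cfsg.Agent.Omega.All.HOne
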