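import Cfsg.Agent.Omega.All.HOneNat
import Cfsg.Agent.Omega.Half.SymPts

/-!
# LEMMA E (OMEGA #14479), even-subset modules: `Y` contains `P`

`M : SymK S P V D k m`, `V = V_P`, `D = C_V(O²(P))`.

* `sym_cyc` : an element of `S` inducing `2^m`-cycles on the nonzero points;
* `sym_full` : `x = {a, b}`, `x' = {c, d}` two disjoint pairs of nonzero points of a summand, `C_P(x), C_P(x') ≤ Y`,
  `S ≤ Y`, the two transpositions lie in `Y`: then `P ≤ Y`.
-/

set_option autoImplicit false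
set_option linter.unusedSectionVars false

namespace Cfsg.Agent.Omega.All.HOne

open Subgroup Cfsg Cfsg.Agent.ZN Cfsg.Agent.Omega.MinPar Cfsg.Agent.Omega.FrameFF Cfsg.Agent.Omega.FFThm
open Cfsg.Agent.Omega.Half.SymA (cy cy_zero cy_succ cy_pow_succ cy_pow cy_pow_zero)
open Equiv (swap)

universe u

/-! ### Pairs and permutations -/

section perm

variable {n : ℕ}

/-- the pair `{a, b}` -/
def pr2 (a b : Fin n) (x : Fin n) : ZMod 2 := (if x = a then 1 else 0) + (if x = b then 1 else 0)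

theorem pr2_sum (a b : Fin n) : ∑ x, pr2 a b x = 0 := by
  unfold pr2
  rw [Finset.sum_add_distrib, Finset.sum_ite_eq' Finset.univ a, Finset.sum_ite_eq' Finset.univ b,
    if_pos (Finset.mem_univ _), if_pos (Finset.mem_univ _)]
  rfl

theorem pr2_left {a b : Fin n} (hab : a ≠ b) : pr2 a b a = 1 := by
  rw [pr2, if_pos rfl, if_neg hab, add_zero]

theorem pr2_right {a b : Fin n} (hab : a ≠ b) : pr2 a b b = 1 := by
  rw [pr2, if_pos rfl, if_neg hab.symm, zero_add]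

theorem pr2_of_ne {a b x : Fin n} (ha : x ≠ a) (hb : x ≠ b) : pr2 a b x = 0 := by
  rw [pr2, if_neg ha, if_neg hb, add_zero]

theorem pr2_comm (a b : Fin n) : pr2 a b = pr2 b a := by
  funext x
  rw [pr2, pr2, add_comm]

theorem pr2_apply (τ : Equiv.Perm (Fin n)) (a b x : Fin n) : pr2 (τ a) (τ b) (τ x) = pr2 a b x := by
  rw [pr2, pr2]
  simp only [τ.injective.eq_iff]

theorem pr2_sub (a b c : Fin n) : pr2 a c - pr2 b c = pr2 a b := by
  funext x
  rw [Pi.sub_apply, pr2, pr2, pr2, CharTwo.sub_eq_add]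
  generalize (if x = a then (1 : ZMod 2) else 0) = α
  generalize (if x = b then (1 : ZMod 2) else 0) = β
  generalize (if x = c then (1 : ZMod 2) else 0) = γ
  revert α β γ
  decide

theorem three_cycle_cube {p q r : Fin n} (hpq : p ≠ q) (hpr : p ≠ r) (hqr : q ≠ r) :
    (swap p q * swap p r) * (swap p q * swap p r) * (swap p q * swap p r) = 1 := by
  have h1 := (Equiv.Perm.isThreeCycle_swap_mul_swap_same hpq hpr hqr).orderOf
  have h2 := pow_orderOf_eq_one (swap p q * swap p r)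
  rw [h1, pow_succ, pow_two] at h2
  exact h2

/-- the swaps `(0 y)`, `y` not in `{a, b}` -/
theorem swap_mem {T : Subgroup (Equiv.Perm (Fin n))} {o a b c d : Fin n} (hcd : c ≠ d) (hca : c ≠ a) (hcb : c ≠ b)
    (hda : d ≠ a) (hdb : d ≠ b) (hoa : o ≠ a) (hob : o ≠ b) (hoc : o ≠ c) (hod : o ≠ d)
    (h3 : ∀ p q r : Fin n, p ≠ q → p ≠ r → q ≠ r → p ≠ a → p ≠ b → q ≠ a → q ≠ b → r ≠ a → r ≠ b →
      swap p q * swap p r ∈ T) (hs : swap c d ∈ T) {y : Fin n} (hya : y ≠ a) (hyb : y ≠ b) (hyo : y ≠ o) :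
    swap o y ∈ T := by
  have h1 : swap c o ∈ T := by
    have h2 := mul_mem hs (h3 c d o hcd hoc.symm hod.symm hca hcb hda hdb hoa hob)
    rwa [← mul_assoc, Equiv.swap_mul_self, one_mul] at h2
  by_cases hyc : y = c
  · rw [hyc, Equiv.swap_comm]; exact h1
  · rw [Equiv.swap_comm] at h1
    have h2 := mul_mem h1 (h3 o c y hoc hyo.symm (fun h => hyc h.symm) hoa hob hca hcb hya hyb)
    rwa [← mul_assoc, Equiv.swap_mul_self, one_mul] at h2

theorem eq_top_of_star {T : Subgroup (Equiv.Perm (Fin n))} {o : Fin n} (h : ∀ y, y ≠ o → swap o y ∈ T) :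
    T = ⊤ := by
  rw [eq_top_iff, ← Equiv.Perm.closure_isSwap, closure_le]
  rintro _ ⟨x, y, hxy, rfl⟩
  by_cases hx : x = o
  · rw [hx]
    exact h y fun h1 => hxy (hx.trans h1.symm)
  by_cases hy : y = o
  · rw [hy, Equiv.swap_comm]
    exact h x hx
  have h1 : swap x y = swap o x * swap o y * swap o x := by
    have h2 := Equiv.mul_swap_eq_swap_mul (swap o x) o y
    rw [Equiv.swap_apply_left, Equiv.swap_apply_of_ne_of_ne hy hxy.symm] at h2
    rw [h2, mul_assoc, Equiv.swap_mul_self, mul_one]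
  rw [SetLike.mem_coe, h1]
  exact mul_mem (mul_mem (h x hx) (h y hy)) (h x hx)

theorem cy_ne {m : ℕ} {x : Fin (2 ^ m + 1)} (hx : x ≠ 0) {r : ℕ} (hr : 0 < r) (hrm : r < 2 ^ m) :
    ((cy m) ^ r) x ≠ x := by
  obtain ⟨a, rfl⟩ := Fin.exists_succ_eq.2 hx
  rw [cy_pow_succ]
  intro h1
  rw [Fin.succ_inj] at h1
  have h2 : Fin.ofNat (2 ^ m) r = 0 := by
    have := add_eq_left.1 h1
    exact this
  have h3 := congrArg Fin.val h2
  simp only [Fin.ofNat, Fin.val_zero] at h3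
  rw [Nat.mod_eq_of_lt hrm] at h3
  omega

end perm

/-! ### The coordinates -/

section co

variable {G : Type u} [Group G] {S P : Subgroup G} {k m : ℕ} (M : SymK S P (zl S P) (cv S P) k m)

theorem sym_one : M.e 1 = 0 := by
  have h := M.mul 1 (one_mem _) 1 (one_mem _)
  rw [one_mul] at h
  exact left_eq_add.1 h

theorem sym_inv {v : G} (hv : v ∈ zl S P) : M.e v⁻¹ = -M.e v := by
  have h := M.mul v hv v⁻¹ (inv_mem hv)
  rw [mul_inv_cancel, sym_one] at h
  exact (neg_eq_of_add_eq_zero_right h.symm).symm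

theorem sym_div {v w : G} (hv : v ∈ zl S P) (hw : w ∈ zl S P) : M.e (v * w⁻¹) = M.e v - M.e w := by
  rw [M.mul v hv _ (inv_mem hw), sym_inv M hw, sub_eq_add_neg]

theorem sym_mem {v w : G} (hv : v ∈ zl S P) (hw : w ∈ zl S P) : v * w⁻¹ ∈ cv S P ↔ M.e v = M.e w := by
  rw [← M.ker _ (mul_mem hv (inv_mem hw)), sym_div M hv hw, sub_eq_zero]

/-- `v` is the pair `{a, b}` of the summand `i` -/
def IsPr (v : G) (i : Fin k) (a b : Fin (2 ^ m + 1)) : Prop := M.e v i = pr2 a b ∧ ∀ l, l ≠ i → M.e v l = 0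

theorem exists_isPr (i : Fin k) (a b : Fin (2 ^ m + 1)) : ∃ v ∈ zl S P, IsPr M v i a b := by
  obtain ⟨v, hv, hx⟩ := M.surj (Function.update (0 : Fin k → Fin (2 ^ m + 1) → ZMod 2) i (pr2 a b)) (by
    intro l
    by_cases hl : l = i
    · rw [hl, Function.update_self]; exact pr2_sum a b
    · rw [Function.update_of_ne hl]; exact Finset.sum_const_zero)
  refine ⟨v, hv, by rw [hx, Function.update_self], fun l hl => ?_⟩
  rw [hx, Function.update_of_ne hl]
  rfl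

theorem IsPr.eq {v v' : G} {i : Fin k} {a b : Fin (2 ^ m + 1)} (h : IsPr M v i a b) (h' : IsPr M v' i a b) :
    M.e v = M.e v' := by
  funext l
  by_cases hl : l = i
  · rw [hl, h.1, h'.1]
  · rw [h.2 l hl, h'.2 l hl]

/-- `g` induces `(σ, τ)` on the points: the image of a pair -/
theorem IsPr.conj {v : G} {i : Fin k} {a b : Fin (2 ^ m + 1)} (h : IsPr M v i a b) (hv : v ∈ zl S P) {g : G}
    {τ : Fin k → Equiv.Perm (Fin (2 ^ m + 1))} (hg : ActsSym M.e (zl S P) g 1 τ) :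
    IsPr M (g * v * g⁻¹) i (τ i a) (τ i b) := by
  constructor
  · funext x
    obtain ⟨y, rfl⟩ := (τ i).surjective x
    have h1 := hg v hv i y
    rw [Equiv.Perm.one_apply] at h1
    rw [h1, h.1, pr2_apply]
  · intro l hl
    funext x
    obtain ⟨y, rfl⟩ := (τ l).surjective x
    have h1 := hg v hv l y
    rw [Equiv.Perm.one_apply] at h1
    rw [h1, h.2 l hl]
    rfl

theorem IsPr.div {v w : G} {i : Fin k} {a b c : Fin (2 ^ m + 1)} (hv : v ∈ zl S P) (hw : w ∈ zl S P)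
    (h : IsPr M v i a c) (h' : IsPr M w i b c) : IsPr M (v * w⁻¹) i a b := by
  constructor
  · rw [sym_div M hv hw, Pi.sub_apply, h.1, h'.1, pr2_sub]
  · intro l hl
    rw [sym_div M hv hw, Pi.sub_apply, h.2 l hl, h'.2 l hl, sub_zero]

theorem IsPr.comm' {v : G} {i : Fin k} {a b : Fin (2 ^ m + 1)} (h : IsPr M v i a b) : IsPr M v i b a :=
  ⟨by rw [h.1, pr2_comm], h.2⟩

/-- `g` induces `τ` and centralises `D` -/
def AS (g : G) (τ : Fin k → Equiv.Perm (Fin (2 ^ m + 1))) : Prop :=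
  ActsSym M.e (zl S P) g 1 τ ∧ ∀ d ∈ cv S P, g * d = d * g

theorem acts_mul' {g h : G} {A B : Fin k → Equiv.Perm (Fin (2 ^ m + 1))} (hh : h ∈ P)
    (hA : ActsSym M.e (zl S P) g 1 A) (hB : ActsSym M.e (zl S P) h 1 B) :
    ActsSym M.e (zl S P) (g * h) 1 (A * B) := by
  intro v hv i x
  have e1 : g * h * v * (g * h)⁻¹ = g * (h * v * h⁻¹) * g⁻¹ := by group
  have h1 := hA _ (conjZ hh hv) i (B i x)
  have h2 := hB v hv i x
  rw [Equiv.Perm.one_apply] at h1 h2
  rw [e1, Equiv.Perm.one_apply, Pi.mul_apply, Equiv.Perm.mul_apply, h1, h2]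

theorem as_mul {g h : G} {A B : Fin k → Equiv.Perm (Fin (2 ^ m + 1))} (hh : h ∈ P)
    (hA : AS M g A) (hB : AS M h B) : AS M (g * h) (A * B) :=
  ⟨acts_mul' M hh hA.1 hB.1, fun d hd => (show Commute g d from hA.2 d hd).mul_left (hB.2 d hd)⟩

theorem as_inv {g : G} {A : Fin k → Equiv.Perm (Fin (2 ^ m + 1))} (hg : g ∈ P)
    (hA : AS M g A) : AS M g⁻¹ A⁻¹ := by
  refine ⟨fun v hv i x => ?_, fun d hd => (show Commute g d from hA.2 d hd).inv_left⟩
  have h1 := hA.1 _ (conjZ (inv_mem hg) hv) i ((A i)⁻¹ x)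
  have e1 : g * (g⁻¹ * v * g⁻¹⁻¹) * g⁻¹ = v := by group
  have e2 : A i ((A i)⁻¹ x) = x := (A i).apply_symm_apply x
  rw [e1, Equiv.Perm.one_apply, e2] at h1
  rw [Equiv.Perm.one_apply, Pi.inv_apply]
  exact h1.symm

theorem as_ker {g : G} (hg : g ∈ P) (hA : ActsSym M.e (zl S P) g 1 1) : g ∈ Ker S P := by
  refine ⟨hg, fun v hv => ?_⟩
  rw [sym_mem M (conjZ hg hv) hv]
  funext i x
  exact hA v hv i x

/-- conjugation -/
theorem acts_conj {g h : G} {σ : Equiv.Perm (Fin k)} {ρ τ : Fin k → Equiv.Perm (Fin (2 ^ m + 1))} (hg : g ∈ P)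
    (hh : h ∈ P) (hgA : ActsSym M.e (zl S P) g σ ρ) (hhA : ActsSym M.e (zl S P) h 1 τ) :
    ActsSym M.e (zl S P) (g * h * g⁻¹) 1
      fun j => ρ (σ.symm j) * τ (σ.symm j) * (ρ (σ.symm j))⁻¹ := by
  intro v hv j x
  obtain ⟨i, rfl⟩ := σ.surjective j
  have hw := conjZ (inv_mem hg) hv
  have e1 : g * h * g⁻¹ * v * (g * h * g⁻¹)⁻¹ = g * (h * (g⁻¹ * v * g⁻¹⁻¹) * h⁻¹) * g⁻¹ := by group
  have e2 : g * (g⁻¹ * v * g⁻¹⁻¹) * g⁻¹ = v := by group
  have h1 := hgA _ (conjZ hh hw) i (τ i ((ρ i)⁻¹ x))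
  have h2 := hhA _ hw i ((ρ i)⁻¹ x)
  have h3 := hgA _ hw i ((ρ i)⁻¹ x)
  have e3 : ρ i ((ρ i)⁻¹ x) = x := (ρ i).apply_symm_apply x
  rw [e2, e3] at h3
  rw [Equiv.Perm.one_apply] at h2
  rw [e1, Equiv.Perm.one_apply]
  beta_reduce
  rw [σ.symm_apply_apply, Equiv.Perm.mul_apply, Equiv.Perm.mul_apply, h1, h2, h3]

theorem as_conj {g h : G} {σ : Equiv.Perm (Fin k)} {ρ τ : Fin k → Equiv.Perm (Fin (2 ^ m + 1))} (hg : g ∈ P)
    (hh : h ∈ P) (hgA : ActsSym M.e (zl S P) g σ ρ) (hhA : AS M h τ) :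
    AS M (g * h * g⁻¹) fun j => ρ (σ.symm j) * τ (σ.symm j) * (ρ (σ.symm j))⁻¹ := by
  refine ⟨acts_conj M hg hh hgA hhA.1, fun d hd => ?_⟩
  have h1 := hhA.2 _ (conjD (inv_mem hg) hd)
  calc g * h * g⁻¹ * d = g * (h * (g⁻¹ * d * g⁻¹⁻¹)) * g⁻¹ := by group
    _ = d * (g * h * g⁻¹) := by rw [h1]; group

end co

/-! ### `Y` -/

section full

variable {G : Type u} [Group G] [Finite G] (hG : IsCharacteristicTwoType G) (S : Sylow 2 G) {P Y : Subgroup G}
  (h : IsParS (S : Subgroup G) P) {k m : ℕ}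
  (M : SymK (S : Subgroup G) P (zl (S : Subgroup G) P) (cv (S : Subgroup G) P) k m)
  (hSY : (S : Subgroup G) ≤ Y)
  (hCV : ∀ g ∈ P, (∀ v ∈ zl (S : Subgroup G) P, g * v = v * g) → g ∈ Y)

/-- all elements of `P` which induce `A` lie in `Y` -/
def IndS (A : Fin k → Equiv.Perm (Fin (2 ^ m + 1))) (Y : Subgroup G) : Prop :=
  ∀ g ∈ P, AS M g A → g ∈ Y

include hG h hCV

theorem inds_one : IndS S M 1 Y := fun g hg hA =>
  hCV g hg (comm_of_both hG S h (as_ker M hg hA.1) hA.2)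

theorem inds_of {g : G} {A : Fin k → Equiv.Perm (Fin (2 ^ m + 1))} (hg : g ∈ P) (hgY : g ∈ Y)
    (hA : AS M g A) : IndS S M A Y := by
  intro g' hg' hA'
  have h1 := as_mul M (inv_mem hg) hA' (as_inv M hg hA)
  rw [mul_inv_cancel] at h1
  have h2 := inds_one hG S h M hCV _ (mul_mem hg' (inv_mem hg)) h1
  have h3 := mul_mem h2 hgY
  rwa [inv_mul_cancel_right] at h3

theorem inds_mul {A B : Fin k → Equiv.Perm (Fin (2 ^ m + 1))} (hA : IndS S M A Y) (hB : IndS S M B Y) :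
    IndS S M (A * B) Y := by
  obtain ⟨a, ha, haA⟩ := M.lift A
  obtain ⟨b, hb, hbB⟩ := M.lift B
  exact inds_of hG S h M hCV (mul_mem ha hb) (mul_mem (hA a ha haA) (hB b hb hbB)) (as_mul M hb haA hbB)

theorem inds_inv {A : Fin k → Equiv.Perm (Fin (2 ^ m + 1))} (hA : IndS S M A Y) :
    IndS S M A⁻¹ Y := by
  obtain ⟨a, ha, haA⟩ := M.lift A
  exact inds_of hG S h M hCV (inv_mem ha) (inv_mem (hA a ha haA)) (as_inv M ha haA)

/-- the subgroup of the permutations in the summand `i` -/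
def TT (i : Fin k) : Subgroup (Equiv.Perm (Fin (2 ^ m + 1))) where
  carrier := {A | IndS S M (sg i A) Y}
  mul_mem' := by
    intro A B hA hB
    rw [Set.mem_ofPred_eq, sg_mul]
    exact inds_mul hG S h M hCV hA hB
  one_mem' := by
    rw [Set.mem_ofPred_eq, sg_one]
    exact inds_one hG S h M hCV
  inv_mem' := by
    intro A hA
    rw [Set.mem_ofPred_eq, sg_inv]
    exact inds_inv hG S h M hCV hA

theorem mem_TT {i : Fin k} {A : Equiv.Perm (Fin (2 ^ m + 1))} :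
    A ∈ TT hG S h M hCV i ↔ IndS S M (sg i A) Y := Iff.rfl

omit hCV in
/-- three-cycles off `{a, b}` fix `x = {a, b}` -/
theorem three_mem {x : G} (hx : x ∈ zl (S : Subgroup G) P) (hC : ∀ g ∈ P, g * x = x * g → g ∈ Y) {i : Fin k}
    {a b : Fin (2 ^ m + 1)} (hab : IsPr M x i a b) {p q r : Fin (2 ^ m + 1)} (hpq : p ≠ q) (hpr : p ≠ r)
    (hqr : q ≠ r) (hpa : p ≠ a) (hpb : p ≠ b) (hqa : q ≠ a) (hqb : q ≠ b) (hra : r ≠ a) (hrb : r ≠ b) :
    IndS S M (sg i (swap p q * swap p r)) Y := by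
  intro g hg hA
  apply hC g hg
  apply fix_of_cube hG S h hA.2 _ hx
  · rw [sym_mem M (conjZ hg hx) hx]
    have h1 := hab.conj M hx hA.1
    rw [sg_self, Equiv.Perm.mul_apply, Equiv.Perm.mul_apply, Equiv.swap_apply_of_ne_of_ne hpa.symm hra.symm,
      Equiv.swap_apply_of_ne_of_ne hpa.symm hqa.symm, Equiv.swap_apply_of_ne_of_ne hpb.symm hrb.symm,
      Equiv.swap_apply_of_ne_of_ne hpb.symm hqb.symm] at h1
    exact h1.eq M hab
  · have h2 := acts_mul' M hg (acts_mul' M hg hA.1 hA.1) hA.1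
    rw [← sg_mul, ← sg_mul, three_cycle_cube hpq hpr hqr, sg_one] at h2
    have h3 : g ^ 3 = g * g * g := by rw [pow_succ, pow_two]
    rw [h3]
    exact as_ker M (mul_mem (mul_mem hg hg) hg) h2

include hSY in
theorem inds_transfer {i : Fin k} (hi : ∀ A, IndS S M (sg i A) Y) (j : Fin k) (B : Equiv.Perm (Fin (2 ^ m + 1))) :
    IndS S M (sg j B) Y := by
  obtain ⟨t, ht, σ, ρ, hσ, hσi⟩ := M.trans i j
  have htP := h.le ht
  obtain ⟨g, hg, hgA⟩ := M.lift (sg i ((ρ i)⁻¹ * B * ρ i))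
  have h1 := hi _ g hg hgA
  have h2 := as_conj M htP hg hσ hgA
  have h3 : (fun j => ρ (σ.symm j) * sg i ((ρ i)⁻¹ * B * ρ i) (σ.symm j) * (ρ (σ.symm j))⁻¹) = sg j B := by
    funext l
    by_cases hl : l = j
    · have h4 : σ.symm l = i := by rw [hl, ← hσi, σ.symm_apply_apply]
      rw [h4, sg_self, hl, sg_self]
      group
    · have h4 : σ.symm l ≠ i := by
        intro h5
        apply hl
        rw [← hσi, ← h5, σ.apply_symm_apply]
      rw [sg_ne h4, sg_ne hl, mul_one, mul_inv_cancel]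
  rw [h3] at h2
  exact inds_of hG S h M hCV (mul_mem (mul_mem htP hg) (inv_mem htP))
    (mul_mem (mul_mem (hSY ht) h1) (inv_mem (hSY ht))) h2

include hSY in
/-- **all of `P` lies in `Y`** -/
theorem sym_full {i : Fin k} {a b c d : Fin (2 ^ m + 1)} (hca : c ≠ a) (hcb : c ≠ b)
    (hda : d ≠ a) (hdb : d ≠ b) (ha0 : a ≠ 0) (hb0 : b ≠ 0) (hc0 : c ≠ 0) (hd0 : d ≠ 0) (hab : a ≠ b)
    (hcd : c ≠ d) {x x' : G} (hx : x ∈ zl (S : Subgroup G) P) (hx' : x' ∈ zl (S : Subgroup G) P)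
    (hC : ∀ g ∈ P, g * x = x * g → g ∈ Y) (hC' : ∀ g ∈ P, g * x' = x' * g → g ∈ Y)
    (hxp : IsPr M x i a b) (hxp' : IsPr M x' i c d) (h1 : IndS S M (sg i (swap a b)) Y)
    (h2 : IndS S M (sg i (swap c d)) Y) : P ≤ Y := by
  have hall : TT hG S h M hCV i = ⊤ := by
    apply eq_top_of_star (o := 0)
    intro y hy
    by_cases hya : y = a ∨ y = b
    · have hyc : y ≠ c := by
        rintro rfl
        rcases hya with h3 | h3
        · exact hca h3
        · exact hcb h3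
      have hyd : y ≠ d := by
        rintro rfl
        rcases hya with h3 | h3
        · exact hda h3
        · exact hdb h3
      exact swap_mem hab hca.symm hda.symm hcb.symm hdb.symm hc0.symm hd0.symm ha0.symm hb0.symm
        (fun p q r hpq hpr hqr hpa hpb hqa hqb hra hrb =>
          three_mem hG S h M hx' hC' hxp' hpq hpr hqr hpa hpb hqa hqb hra hrb) h1 hyc hyd hy
    · push Not at hya
      exact swap_mem hcd hca hcb hda hdb ha0.symm hb0.symm hc0.symm hd0.symm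
        (fun p q r hpq hpr hqr hpa hpb hqa hqb hra hrb =>
          three_mem hG S h M hx hC hxp hpq hpr hqr hpa hpb hqa hqb hra hrb) h2 hya.1 hya.2 hy
  have hi : ∀ A, IndS S M (sg i A) Y := fun A => (mem_TT hG S h M hCV).1 (by rw [hall]; trivial)
  apply M.gen Y hSY
  intro g hg τ hτ hD
  exact sg_induction (p := fun A => IndS S M A Y) (inds_one hG S h M hCV) (fun _ _ => inds_mul hG S h M hCV)
    (inds_transfer hG S h M hSY hCV hi) τ g hg ⟨hτ, hD⟩

omit hG hCV in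
/-- **an element of `S` which induces `2^m`-cycles** -/
theorem sym_cyc (hm : 2 ≤ m) : ∃ t ∈ (S : Subgroup G), ∃ τ : Fin k → Equiv.Perm (Fin (2 ^ m + 1)),
    ActsSym M.e (zl (S : Subgroup G) P) t 1 τ ∧ ∀ i x, x ≠ 0 →
      τ i x ≠ x ∧ τ i (τ i x) ≠ x ∧ τ i (τ i (τ i x)) ≠ x := by
  -- a lift of the cycle
  obtain ⟨h0, hh, hact, hD⟩ := M.lift fun _ => cy m
  have hpow : ∀ n : ℕ, ActsSym M.e (zl (S : Subgroup G) P) (h0 ^ n) 1 (fun _ => (cy m) ^ n) := by
    intro n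
    induction n with
    | zero =>
      intro v hv i x
      simp
    | succ n ih =>
      have h1 := acts_mul' M hh ih hact
      rw [← pow_succ] at h1
      have h2 : ((fun _ => (cy m) ^ n) * (fun _ => cy m) : Fin k → Equiv.Perm (Fin (2 ^ m + 1))) =
          fun _ => (cy m) ^ (n + 1) := by
        funext i
        rw [Pi.mul_apply, pow_succ]
      rwa [h2] at h1
  -- its 2-part
  obtain ⟨a, N, hN, hord⟩ := Nat.exists_eq_two_pow_mul_odd (orderOf_pos h0).ne'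
  obtain ⟨u, hu⟩ : ∃ u, N * u ≡ 1 [MOD 2 ^ m] := by
    obtain ⟨u, -, hu⟩ := Nat.exists_mul_mod_eq_of_coprime (n := N) (k := 2 ^ m) 1
      (Nat.Coprime.pow_right m (Nat.coprime_two_right.2 hN)) (by positivity)
    exact ⟨u, hu⟩
  have hcN : (cy m) ^ (N * u) = cy m := by
    have := pow_eq_pow_of_modEq hu (cy_pow m)
    rwa [pow_one] at this
  have h2 := hpow (N * u)
  rw [hcN] at h2
  have hp2 : IsPGroup 2 (zpowers (h0 ^ (N * u))) := by
    have e : (h0 ^ (N * u)) ^ 2 ^ a = 1 := by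
      rw [← pow_mul]
      apply orderOf_dvd_iff_pow_eq_one.1
      rw [hord]
      exact ⟨u, by ring⟩
    rintro ⟨x, n, rfl⟩
    refine ⟨a, Subtype.ext ?_⟩
    change ((h0 ^ (N * u)) ^ n) ^ 2 ^ a = 1
    rw [← zpow_natCast, ← zpow_mul, mul_comm n, zpow_mul, zpow_natCast, e, one_zpow]
  obtain ⟨g, hg, hgS⟩ := FFThm.exists_conj_le S h.le hp2 (zpowers_le.2 (pow_mem hh _))
  have h3 : g * h0 ^ (N * u) * g⁻¹ ∈ (S : Subgroup G) := hgS ⟨_, mem_zpowers _, rfl⟩
  obtain ⟨σ, ρ, hσ⟩ := M.perm g hg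
  have h4 := acts_conj M hg (pow_mem hh _) hσ h2
  refine ⟨_, h3, _, h4, fun i x hx => ?_⟩
  have h5 := M.fix0 _ h3 _ _ h4 i
  beta_reduce at h5 ⊢
  obtain ⟨R, hR⟩ : ∃ R, R = ρ (σ.symm i) := ⟨_, rfl⟩
  rw [← hR] at h5 ⊢
  have hinv : ∀ y, R⁻¹ (R y) = y := fun y => R.symm_apply_apply y
  have h6 : cy m (R⁻¹ 0) = R⁻¹ 0 := by
    rw [Equiv.Perm.mul_apply, Equiv.Perm.mul_apply] at h5
    have h7 := congrArg (fun y => R⁻¹ y) h5
    beta_reduce at h7
    rwa [hinv] at h7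
  have hpos : 1 < 2 ^ m := Nat.one_lt_two_pow (by omega)
  have h4m : 4 ≤ 2 ^ m := by
    calc 4 = 2 ^ 2 := by norm_num
      _ ≤ 2 ^ m := Nat.pow_le_pow_right (by norm_num) hm
  have h7 : R⁻¹ 0 = 0 := by
    by_contra hne
    have := cy_ne hne (r := 1) one_pos hpos
    rw [pow_one] at this
    exact this h6
  have h8 : R⁻¹ x ≠ 0 := fun h9 => hx (R⁻¹.injective (h9.trans h7.symm))
  have hs : ∀ y, (R * cy m * R⁻¹) y = R (cy m (R⁻¹ y)) := fun y => rfl
  refine ⟨?_, ?_, ?_⟩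
  · rw [hs]
    intro h9
    have h10 := congrArg (fun y => R⁻¹ y) h9
    beta_reduce at h10
    rw [hinv] at h10
    have := cy_ne h8 (r := 1) one_pos hpos
    rw [pow_one] at this
    exact this h10
  · rw [hs, hs, hinv]
    intro h9
    have h10 := congrArg (fun y => R⁻¹ y) h9
    beta_reduce at h10
    rw [hinv] at h10
    have := cy_ne h8 (r := 2) two_pos (by omega)
    rw [pow_two, Equiv.Perm.mul_apply] at this
    exact this h10
  · rw [hs, hs, hs, hinv, hinv]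
    intro h9
    have h10 := congrArg (fun y => R⁻¹ y) h9
    beta_reduce at h10
    rw [hinv] at h10
    have := cy_ne h8 (r := 3) three_pos (by omega)
    rw [pow_succ, pow_two, Equiv.Perm.mul_apply, Equiv.Perm.mul_apply] at this
    exact this h10

end full

end Cfsg.Agent.Omega.All.HOne
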