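import Cfsg.Agent.Omega.All.HOneNatE
import Cfsg.Agent.Omega.All.HOneSym

/-!
# LEMMA E (OMEGA #14479)

`P ∈ P*(S)`, `P` not in `Y`, `S ≤ Y`, `V = V_P ≤ QQ`, `QQ` acts on the orthogonal space `U` as the group of Siegel
elements of the singular point `X` (`Offer`), `C_G(x) ≤ Y` for `1 ≠ x ∈ X`.  Then `V ≤ C(U)` or `V ≤ U'`.
-/

set_option autoImplicit false
set_option linter.unusedSectionVars false

namespace Cfsg.Agent.Omega.All.HOne

open Subgroup Cfsg Cfsg.Agent.ZN Cfsg.Agent.Omega.MinPar Cfsg.Agent.Omega.FrameFF Cfsg.Agent.Omega.FFThm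
open Cfsg.Agent.MinSimple.VModule (le_normalizer_zl)
open Equiv (swap)

universe u

variable {G : Type u} [Group G] [Finite G]

section sym

variable (hG : IsCharacteristicTwoType G) (S : Sylow 2 G) {P Y : Subgroup G}
  (h : IsParS (S : Subgroup G) P) {k m : ℕ}
  (M : SymK (S : Subgroup G) P (zl (S : Subgroup G) P) (cv (S : Subgroup G) P) k m)

include hG h in
/-- an element of `U` outside `C(V)`: two points `a`, `b` and the transposition `(a b)` in `U` -/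
theorem sym_pt {U : Subgroup G} (hUS : U ≤ (S : Subgroup G)) (hoff : Off (zl (S : Subgroup G) P) U) {u v₀ : G}
    (hu : u ∈ U) (hv₀ : v₀ ∈ zl (S : Subgroup G) P) (huv : u * v₀ ≠ v₀ * u) :
    ∃ (i : Fin k) (a b : Fin (2 ^ m + 1)) (τ : Fin k → Equiv.Perm (Fin (2 ^ m + 1))), a ≠ b ∧ a ≠ 0 ∧ b ≠ 0 ∧
      AS M u τ ∧ τ i a = b ∧ τ i b = a ∧ ∃ b₀ ∈ U, AS M b₀ (sg i (swap a b)) := by
  obtain ⟨h1, h2⟩ := M.off U hUS hoff
  obtain ⟨τ, hτ, hτ2⟩ := h2 u hu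
  obtain ⟨i, a, hia⟩ : ∃ i a, τ i a ≠ a := by
    by_contra hcon
    push Not at hcon
    apply huv
    have h3 : τ = 1 := by
      funext i
      ext1 x
      exact hcon i x
    rw [h3] at hτ
    exact comm_of_sec hG S h (hUS hu) (as_ker M (h.le (hUS hu)) hτ).2 v₀ hv₀
  obtain ⟨h3, b₀, hb₀, hb₀a⟩ := hτ2 i a hia
  have h0 := M.fix0 u (hUS hu) 1 τ hτ i
  refine ⟨i, a, τ i a, τ, fun h4 => hia h4.symm, ?_, ?_, ⟨hτ, h1 u hu⟩, rfl, h3, b₀, hb₀, hb₀a, h1 b₀ hb₀⟩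
  · rintro rfl
    exact hia h0
  · intro h4
    rw [h4, h0] at h3
    rw [← h3] at hia
    exact hia h0

include h in
/-- an element of `S` which moves `{a, b}` to a disjoint pair -/
theorem sym_move (hm : 2 ≤ m) {i : Fin k} {a b : Fin (2 ^ m + 1)} (hab : a ≠ b) (ha : a ≠ 0) (hb : b ≠ 0) :
    ∃ t ∈ (S : Subgroup G), ∃ τ : Fin k → Equiv.Perm (Fin (2 ^ m + 1)),
      ActsSym M.e (zl (S : Subgroup G) P) t 1 τ ∧ τ i a ≠ a ∧ τ i a ≠ b ∧ τ i b ≠ a ∧ τ i b ≠ b ∧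
        τ i a ≠ 0 ∧ τ i b ≠ 0 := by
  obtain ⟨t, ht, τ, hτ, hc⟩ := sym_cyc S h M hm
  have h0 := M.fix0 t ht 1 τ hτ i
  have hn0 : ∀ x, x ≠ 0 → τ i x ≠ 0 := fun x hx h1 => hx ((τ i).injective (h1.trans h0.symm))
  obtain ⟨a1, a2, a3⟩ := hc i a ha
  obtain ⟨b1, b2, b3⟩ := hc i b hb
  by_cases h1 : τ i a = b ∨ τ i b = a
  · refine ⟨t * t, mul_mem ht ht, τ * τ, acts_mul' M (h.le ht) hτ hτ, ?_, ?_, ?_, ?_, ?_, ?_⟩ <;>
      rw [Pi.mul_apply, Equiv.Perm.mul_apply]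
    · exact a2
    · rcases h1 with h1 | h1
      · rw [h1]; exact b1
      · rw [← h1] at a2 ⊢
        intro h2
        exact b3 h2
    · rcases h1 with h1 | h1
      · rw [← h1] at b2 ⊢
        intro h2
        exact a3 h2
      · rw [h1]; exact a1
    · exact b2
    · exact hn0 _ (hn0 _ ha)
    · exact hn0 _ (hn0 _ hb)
  · push Not at h1
    exact ⟨t, ht, τ, hτ, a1, h1.1, h1.2, b1, hn0 _ ha, hn0 _ hb⟩

omit [Finite G] in
theorem isPr_moved {v : G} {i : Fin k} {a b c d : Fin (2 ^ m + 1)} (h1 : IsPr M v i a b) (h2 : IsPr M v i c d)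
    (hab : a ≠ b) (hc : a ≠ c) (hd : a ≠ d) : False := by
  have h3 := h1.1.symm.trans h2.1
  have h4 := congrFun h3 a
  rw [pr2_left hab, pr2_of_ne hc hd] at h4
  exact one_ne_zero h4

variable {S₀ QQ U J X U' : Subgroup G} (O : Offer S₀ QQ U J X U') (hVQ : zl (S : Subgroup G) P ≤ QQ)
  (hS₀ : S₀ ≤ (S : Subgroup G)) (hSU : (S : Subgroup G) ≤ normalizer (U : Set G))
  (hVU : ¬ zl (S : Subgroup G) P ≤ centralizer (U : Set G))

include hG h M O hVQ hS₀ hVU in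
/-- (E1) `[V, J] = 1` -/
theorem sym_J (hm : 2 ≤ m) (hSY : (S : Subgroup G) ≤ Y) (hPY : ¬ P ≤ Y)
    (hX : ∀ t ∈ (S : Subgroup G), ∀ x ∈ X, x ≠ 1 → centralizer ({t * x * t⁻¹} : Set G) ≤ Y) :
    ∀ u ∈ J, ∀ v ∈ zl (S : Subgroup G) P, u * v = v * u := by
  have hUS : U ≤ (S : Subgroup G) := O.U_S₀.trans hS₀
  by_contra hcon
  push Not at hcon
  obtain ⟨u, hu, v₀, hv₀, huv⟩ := hcon
  have huU := O.J_U hu
  have huS := hUS huU
  have huP := h.le huS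
  obtain ⟨i, a, b, τ, hab, ha, hb, hτ, hτa, hτb, b₀, hb₀, hb₀a⟩ :=
    sym_pt hG S h M hUS (off_U S O hVQ hVU) huU hv₀ huv
  obtain ⟨v, hv, hvp⟩ := exists_isPr M i a 0
  have h1 := hvp.conj M hv hτ.1
  rw [hτa, M.fix0 u huS 1 τ hτ.1 i] at h1
  have hx : IsPr M (u * v * u⁻¹ * v⁻¹) i b a := h1.div M (conjZ huP hv) hv hvp
  have hxX := O.comm u hu v (hVQ hv)
  have hxV : u * v * u⁻¹ * v⁻¹ ∈ zl (S : Subgroup G) P := mul_mem (conjZ huP hv) (inv_mem hv)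
  set x := u * v * u⁻¹ * v⁻¹ with hxdef
  have hx' : IsPr M x i a b := hx.comm'
  have hne : ∀ {y : G} {c d : Fin (2 ^ m + 1)}, IsPr M y i c d → c ≠ d → y ≠ 1 := by
    rintro y c d hy hcd rfl
    have h2 := congrFun hy.1 c
    rw [sym_one, pr2_left hcd] at h2
    exact zero_ne_one h2
  obtain ⟨t, ht, γ, hγ, g1, g2, g3, g4, g5, g6⟩ := sym_move S h M hm (i := i) hab ha hb
  have htP := h.le ht
  have htp := hx'.conj M hxV hγ
  have hcd : γ i a ≠ γ i b := fun h2 => hab ((γ i).injective h2)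
  apply hPY
  have hC : ∀ g ∈ P, g * x = x * g → g ∈ Y := fun g _ hgx =>
    hX 1 (one_mem _) x hxX (hne hx' hab) (mem_centralizer_singleton_iff.2 (by simpa using hgx))
  have hC' : ∀ g ∈ P, g * (t * x * t⁻¹) = (t * x * t⁻¹) * g → g ∈ Y := fun g _ hgx =>
    hX t ht x hxX (hne hx' hab) (mem_centralizer_singleton_iff.2 hgx)
  have hCV : ∀ g ∈ P, (∀ v ∈ zl (S : Subgroup G) P, g * v = v * g) → g ∈ Y := fun g hg hgv =>
    hC g hg (hgv x hxV)
  have hb₀S := hUS hb₀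
  have h2 : IndS S M (sg i (swap a b)) Y := inds_of hG S h M hCV (h.le hb₀S) (hSY hb₀S) hb₀a
  have h3 : IndS S M (sg i (swap (γ i a) (γ i b))) Y := by
    have h4 := as_conj M htP (h.le hb₀S) hγ hb₀a
    have h5 : (fun j => γ ((1 : Equiv.Perm (Fin k)).symm j) * sg i (swap a b) ((1 : Equiv.Perm (Fin k)).symm j) *
        (γ ((1 : Equiv.Perm (Fin k)).symm j))⁻¹) = sg i (swap (γ i a) (γ i b)) := by
      funext l
      have h6 : (1 : Equiv.Perm (Fin k)).symm l = l := rfl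
      rw [h6]
      by_cases hl : l = i
      · rw [hl, sg_self, sg_self, Equiv.mul_swap_eq_swap_mul, mul_inv_cancel_right]
      · rw [sg_ne hl, sg_ne hl, mul_one, mul_inv_cancel]
    rw [h5] at h4
    have h6 := mul_mem (mul_mem ht hb₀S) (inv_mem ht)
    exact inds_of hG S h M hCV (h.le h6) (hSY h6) h4
  exact sym_full hG S h M hSY hCV g1 g2 g3 g4 ha hb g5 g6 hab hcd hxV (conjZ htP hxV) hC hC' hx' htp h2 h3

include hG h M O hVQ hS₀ hSU hVU in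
/-- (E2) -/
theorem sym_E (hm : 2 ≤ m) (hSY : (S : Subgroup G) ≤ Y) (hPY : ¬ P ≤ Y)
    (hSX : (S : Subgroup G) ≤ normalizer (X : Set G))
    (hX : ∀ x ∈ X, x ≠ 1 → centralizer ({x} : Set G) ≤ Y) : False := by
  have hVJ := sym_J hG S h M O hVQ hS₀ hVU hm hSY hPY fun t ht x hx h1 => hX _
    ((mem_normalizer_iff.1 (hSX ht) x).1 hx) fun h2 => h1 (by
      have h3 : t * x * t⁻¹ * t = 1 * t := by rw [h2]
      have e : t * x * t⁻¹ * t = t * x := by group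
      rw [e, one_mul] at h3
      exact mul_eq_left.1 h3)
  have hUS : U ≤ (S : Subgroup G) := O.U_S₀.trans hS₀
  obtain ⟨v₀, hv₀, hv₀U⟩ := SetLike.not_le_iff_exists.1 hVU
  obtain ⟨u, hu, huv⟩ : ∃ u ∈ U, u * v₀ ≠ v₀ * u := by
    by_contra hcon
    push Not at hcon
    exact hv₀U (mem_centralizer_iff.2 hcon)
  obtain ⟨i, a, b, τ, hab, ha, hb, hτ, hτa, hτb, b₀, hb₀, hb₀a⟩ :=
    sym_pt hG S h M hUS (off_U S O hVQ hVU) hu hv₀ huv
  obtain ⟨t, ht, γ, hγ, g1, g2, g3, g4, g5, g6⟩ := sym_move S h M hm (i := i) hab ha hb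
  have htP := h.le ht
  have hb₀P := h.le (hUS hb₀)
  have hcd : γ i a ≠ γ i b := fun h2 => hab ((γ i).injective h2)
  -- `b₁`
  have hb₁ : t * b₀ * t⁻¹ ∈ U := (mem_normalizer_iff.1 (hSU ht) b₀).1 hb₀
  have hb₁P := h.le (hUS hb₁)
  have hb₁a : AS M (t * b₀ * t⁻¹) (sg i (swap (γ i a) (γ i b))) := by
    have h4 := as_conj M htP hb₀P hγ hb₀a
    have h5 : (fun j => γ ((1 : Equiv.Perm (Fin k)).symm j) * sg i (swap a b) ((1 : Equiv.Perm (Fin k)).symm j) *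
        (γ ((1 : Equiv.Perm (Fin k)).symm j))⁻¹) = sg i (swap (γ i a) (γ i b)) := by
      funext l
      have h6 : (1 : Equiv.Perm (Fin k)).symm l = l := rfl
      rw [h6]
      by_cases hl : l = i
      · rw [hl, sg_self, sg_self, Equiv.mul_swap_eq_swap_mul, mul_inv_cancel_right]
      · rw [sg_ne hl, sg_ne hl, mul_one, mul_inv_cancel]
    rwa [h5] at h4
  -- the element `v = [g, w]` with `w = {a, b}`, `g` a three-cycle on `0, a, b`
  obtain ⟨g, hg, hgA, hgD⟩ := M.lift (sg i (swap 0 a * swap 0 b))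
  have hgAS : AS M g (sg i (swap 0 a * swap 0 b)) := ⟨hgA, hgD⟩
  obtain ⟨w, hw, hwp⟩ := exists_isPr M i a b
  have h1 := hwp.conj M hw hgA
  have ea : (swap (0 : Fin (2 ^ m + 1)) a * swap 0 b) a = 0 := by
    rw [Equiv.Perm.mul_apply, Equiv.swap_apply_of_ne_of_ne ha hab, Equiv.swap_apply_right]
  have eb : (swap (0 : Fin (2 ^ m + 1)) a * swap 0 b) b = a := by
    rw [Equiv.Perm.mul_apply, Equiv.swap_apply_right, Equiv.swap_apply_left]
  rw [sg_self, ea, eb] at h1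
  have hgw := conjZ hg hw
  have hv : g * w * g⁻¹ * w⁻¹ ∈ zl (S : Subgroup G) P := mul_mem hgw (inv_mem hw)
  have hvp : IsPr M (g * w * g⁻¹ * w⁻¹) i 0 b := h1.div M hgw hw hwp.comm'
  -- `b₀` moves `v`
  have h2 : g * w * g⁻¹ * w⁻¹ ∉ centralizer (U : Set G) := by
    intro h3
    have h4 := mem_centralizer_iff.1 h3 b₀ hb₀
    have h5 := hvp.conj M hv hb₀a.1
    rw [sg_self, Equiv.swap_apply_right, Equiv.swap_apply_of_ne_of_ne ha.symm hb.symm] at h5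
    have h6 : b₀ * (g * w * g⁻¹ * w⁻¹) * b₀⁻¹ = g * w * g⁻¹ * w⁻¹ := by rw [h4]; group
    rw [h6] at h5
    exact isPr_moved S M hvp.comm' h5.comm' hb hab.symm hb
  -- `b₁` fixes `v`
  have h3 : (t * b₀ * t⁻¹) * (g * w * g⁻¹ * w⁻¹) = (g * w * g⁻¹ * w⁻¹) * (t * b₀ * t⁻¹) := by
    apply fix_of_comm hG S h hg hb₁a.2 hgD _ hw
    · rw [sym_mem M (conjZ hb₁P hw) hw]
      have h4 := hwp.conj M hw hb₁a.1
      rw [sg_self, Equiv.swap_apply_of_ne_of_ne g1.symm g3.symm, Equiv.swap_apply_of_ne_of_ne g2.symm g4.symm] at h4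
      exact h4.eq M hwp
    · have h4 := as_mul M (inv_mem hg) (as_mul M (inv_mem hb₁P) (as_mul M hg hb₁a hgAS) (as_inv M hb₁P hb₁a))
        (as_inv M hg hgAS)
      have h5 : sg i (swap (γ i a) (γ i b)) * sg i (swap 0 a * swap 0 b) * (sg i (swap (γ i a) (γ i b)))⁻¹ *
          (sg i (swap 0 a * swap 0 b))⁻¹ = (1 : Fin k → Equiv.Perm (Fin (2 ^ m + 1))) := by
        have h6 : (swap 0 a * swap 0 b) * swap (γ i a) (γ i b) =
            swap (γ i a) (γ i b) * (swap (0 : Fin (2 ^ m + 1)) a * swap 0 b) := by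
          rw [Equiv.mul_swap_eq_swap_mul, Equiv.Perm.mul_apply, Equiv.Perm.mul_apply,
            Equiv.swap_apply_of_ne_of_ne g5 g2, Equiv.swap_apply_of_ne_of_ne g5 g1,
            Equiv.swap_apply_of_ne_of_ne g6 g4, Equiv.swap_apply_of_ne_of_ne g6 g3]
        rw [← sg_mul, ← sg_inv, ← sg_inv, ← sg_mul, ← sg_mul, ← h6, mul_inv_cancel_right, mul_inv_cancel, sg_one]
      rw [h5] at h4
      exact as_ker M (mul_mem (mul_mem (mul_mem hb₁P hg) (inv_mem hb₁P)) (inv_mem hg)) h4.1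
  have h4 := O.fix _ (hVQ hv) h2 _ hb₁ h3
  -- but `b₁` does not centralise `V`
  obtain ⟨w', hw', hwp'⟩ := exists_isPr M i (γ i a) 0
  have h5 := hwp'.conj M hw' hb₁a.1
  rw [sg_self, Equiv.swap_apply_left, Equiv.swap_apply_of_ne_of_ne g5.symm g6.symm] at h5
  have h6 : t * b₀ * t⁻¹ * w' * (t * b₀ * t⁻¹)⁻¹ = w' := by
    rw [hVJ _ h4 w' hw', mul_inv_cancel_right]
  rw [h6] at h5
  exact isPr_moved S M hwp' h5 g5 hcd g5

end sym

/-- **LEMMA E, (E1)**, without `S ≤ N(U)`, `S ≤ N(X)` (OMEGA #16413). -/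
theorem lemE1 (hFF : FFThm.Stmt.{u}) (hG : IsCharacteristicTwoType G) (S : Sylow 2 G)
    {P Y S₀ QQ U J X U' : Subgroup G} (h : IsParS (S : Subgroup G) P) (hSY : (S : Subgroup G) ≤ Y)
    (hPY : ¬ P ≤ Y) (O : Offer S₀ QQ U J X U') (hS₀ : S₀ ≤ (S : Subgroup G))
    (hX : ∀ t ∈ (S : Subgroup G), ∀ x ∈ X, x ≠ 1 → centralizer ({t * x * t⁻¹} : Set G) ≤ Y)
    (hVQ : zl (S : Subgroup G) P ≤ QQ) : ∀ u ∈ J, ∀ v ∈ zl (S : Subgroup G) P, u * v = v * u := by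
  by_cases hVU : zl (S : Subgroup G) P ≤ centralizer (U : Set G)
  · exact fun u hu v hv => mem_centralizer_iff.1 (hVU hv) u (O.J_U hu)
  have hUS : U ≤ (S : Subgroup G) := O.U_S₀.trans hS₀
  obtain ⟨-, hC⟩ := of_off hFF hG S h.toIsPar ((hUS.trans h.le).trans (le_normalizer_zl _ _)) (off_U S O hVQ hVU)
  rcases hC with ⟨F, i1, i2, i3, k, hk, ⟨M⟩⟩ | ⟨k, m, -, hm, ⟨M⟩⟩
  · refine nat_J hG S h M O hVQ hS₀ hVU hSY hPY fun x hx h1 => ?_
    have h2 := hX 1 (one_mem _) x hx h1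
    rwa [one_mul, inv_one, mul_one] at h2
  · exact sym_J hG S h M O hVQ hS₀ hVU hm hSY hPY hX

/-- **LEMMA E.** -/
theorem lemE (hFF : FFThm.Stmt.{u}) (hG : IsCharacteristicTwoType G) (S : Sylow 2 G)
    {P Y S₀ QQ U J X U' : Subgroup G} (h : IsParS (S : Subgroup G) P) (hSY : (S : Subgroup G) ≤ Y)
    (hPY : ¬ P ≤ Y) (O : Offer S₀ QQ U J X U') (hS₀ : S₀ ≤ (S : Subgroup G))
    (hSU : (S : Subgroup G) ≤ normalizer (U : Set G)) (hSX : (S : Subgroup G) ≤ normalizer (X : Set G))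
    (hX : ∀ x ∈ X, x ≠ 1 → centralizer ({x} : Set G) ≤ Y) (hVQ : zl (S : Subgroup G) P ≤ QQ) :
    zl (S : Subgroup G) P ≤ centralizer (U : Set G) ∨ zl (S : Subgroup G) P ≤ U' := by
  by_cases hVU : zl (S : Subgroup G) P ≤ centralizer (U : Set G)
  · exact Or.inl hVU
  right
  have hUS : U ≤ (S : Subgroup G) := O.U_S₀.trans hS₀
  have hoff := off_U S O hVQ hVU
  obtain ⟨-, hC⟩ := of_off hFF hG S h.toIsPar ((hUS.trans h.le).trans (le_normalizer_zl _ _)) hoff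
  rcases hC with ⟨F, i1, i2, i3, k, hk, ⟨M⟩⟩ | ⟨k, m, -, hm, ⟨M⟩⟩
  · exact nat_E hG S h M O hVQ hS₀ hSU hVU hk hSY hPY hX
  · exact (sym_E hG S h M O hVQ hS₀ hSU hVU hm hSY hPY hSX hX).elim

end Cfsg.Agent.Omega.All.HOne
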