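import Cfsg.Agent.Omega.All.Basic
import Cfsg.Agent.Omega.FrameFF

/-!
# THEOREM ALL, consequence for the frame

* `sup_eq_top` : in case `Full S`, `G = ⟨N_G(R), N_G(V)⟩`.
-/

set_option autoImplicit false

namespace Cfsg.Agent.Omega.All

open Subgroup Cfsg Cfsg.Agent.ZN Cfsg.Agent.Omega.MinPar Cfsg.Agent.Omega.Frame
open Cfsg.Agent.Omega.NatPair (NatMod cj mem_cj)
open Cfsg.Agent.MinSimple.VModule (normalizer_le_normalizer_zc)

universe u

variable {G : Type u} [Group G] [Finite G]

/-- A subgroup which contains `N_G(S)` and all members of `P(S)` is `G` (case `Full S`). -/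
theorem eq_top_of_par (S : Sylow 2 G) (hF : Full (S : Subgroup G)) {Y : Subgroup G}
    (hN : normalizer ((S : Subgroup G) : Set G) ≤ Y) (hP : ∀ P : Subgroup G, IsPar (S : Subgroup G) P → P ≤ Y) :
    Y = ⊤ :=
  hF Y fun _ hL => hL.le_of_forall S (inf_le_right.trans hN) fun P hP' _ => hP P hP'

/-- **THEOREM ALL**: `G = ⟨N_G(R), N_G(V)⟩`. -/
theorem sup_eq_top {F : Type*} [Field F] (S : Sylow 2 G) {V R W : Subgroup G} (I : Inp (S : Subgroup G) V R W)
    (hG : IsCharacteristicTwoType G) (M : NatMod F V) {w₀ : Fin 2 → F} (hR : R = M.line w₀)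
    (hZ : zc (S : Subgroup G) ≠ ⊥)
    (hmix : ∀ P : Subgroup G, IsParS (S : Subgroup G) P → ∀ h ∈ normalizer (R : Set G),
      cj h V ≤ (S : Subgroup G) →
      NatPair.Mutual (cj h V) (zl (S : Subgroup G) P) → Mix (S : Subgroup G) (zl (S : Subgroup G) P) (M.conj h))
    (hF : Full (S : Subgroup G)) : normalizer (R : Set G) ⊔ normalizer (V : Set G) = ⊤ := by
  apply eq_top_of_par S hF
  · exact ((normalizer_le_normalizer_zc _).trans (I.normalizer_zc_le hZ)).trans le_sup_left
  · intro P hP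
    rcases par_le S I hG M hR hZ hmix hP with h | h
    · exact h.trans le_sup_left
    · exact h.trans le_sup_right

/-- All members of `L(S)` in a proper subgroup: `NodeI` and Bender's theorem end. -/
theorem known_of_loc_le {K : Cls.{u}} (hB : Bender.{u}) (h1 : NodeIK K) (hG : Ctx G) (hK : K G) (S : Sylow 2 G)
    {Y : Subgroup G} (hY : Y ≠ ⊤) (h : ∀ L : Subgroup G, IsLoc (S : Subgroup G) L → L ≤ Y) : IsKnownSimple' G := by
  have hs := hG.simple
  obtain ⟨H, hH⟩ := h1 G hG hK S fun hF => hY (hF Y h)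
  exact known_of_stronglyEmbedded hB hG.nonComm hH

/-- `N_G(S)` and all members of `P(S)` in a proper subgroup: `NodeI` and Bender's theorem end. -/
theorem known_of_par_le {K : Cls.{u}} (hB : Bender.{u}) (h1 : NodeIK K) (hG : Ctx G) (hK : K G) (S : Sylow 2 G)
    {Y : Subgroup G} (hY : Y ≠ ⊤) (hN : normalizer ((S : Subgroup G) : Set G) ≤ Y)
    (hP : ∀ P : Subgroup G, IsPar (S : Subgroup G) P → P ≤ Y) : IsKnownSimple' G :=
  known_of_loc_le hB h1 hG hK S hY fun _ hL => hL.le_of_forall S (inf_le_right.trans hN) fun P hP' _ => hP P hP'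

end Cfsg.Agent.Omega.All
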