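import Cfsg.Agent.Omega.All.HOneBase
import Cfsg.Agent.Omega.All.Main

/-!
# THEOREM F1-h1 (OMEGA #14479): the end for `Sp_{2n}(q)` (helper866)

`LemE` : helper384's LEMMA E, literally; `par_le_sp` : every `P ∈ P(S)` lies in `Y`; `eq_top_sp` : `Y = ⊤`.
-/

set_option autoImplicit false

namespace Cfsg.Agent.Omega.All.HOne

open Subgroup Cfsg Cfsg.Agent.ZN Cfsg.Agent.Omega.MinPar Cfsg.Agent.Omega.Frame
open Cfsg.Agent.Omega.FrameLE (AllIn)
open Cfsg.Agent.Omega.FrameNOFF (CZ)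
open Cfsg.Agent.MinSimple.VModule (mem_zc zc_le_zl le_normalizer_zl zl_comm)

universe u

/-- LEMMA E (helper384, `HOneOff.lean`) as a hypothesis. -/
def LemE : Prop :=
  ∀ (G : Type u) [Group G] [Finite G], IsCharacteristicTwoType G → ∀ (S : Sylow 2 G) (P Y S₀ QQ U J X U' : Subgroup G),
    IsParS (S : Subgroup G) P → (S : Subgroup G) ≤ Y → ¬ P ≤ Y → Offer S₀ QQ U J X U' → S₀ ≤ (S : Subgroup G) →
      (S : Subgroup G) ≤ normalizer (U : Set G) → (S : Subgroup G) ≤ normalizer (X : Set G) →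
        (∀ x ∈ X, x ≠ 1 → centralizer ({x} : Set G) ≤ Y) → zl (S : Subgroup G) P ≤ QQ →
          zl (S : Subgroup G) P ≤ centralizer (U : Set G) ∨ zl (S : Subgroup G) P ≤ U'

variable {G : Type u} [Group G] [Finite G]

/-- `V_P ≤ B`, and `z ∈ Z ∩ X_s`, conjugates of `z` into `B` only by elements of `Y`: `P ≤ Y`. -/
theorem le_of_pr {S P Y B : Subgroup G} {z : G} (hz : z ∈ zc S) (hV : zl S P ≤ B)
    (hpr : ∀ g : G, g * z * g⁻¹ ∈ B → g ∈ Y) : P ≤ Y := fun p hp =>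
  hpr p (hV (conj_mem_of_normalizer (le_normalizer_zl S P hp) (zc_le_zl S P hz)))

variable {S : Sylow 2 G}

/-- **The end for `Sp_{2n}(q)`.** -/
theorem par_le_sp (hE : LemE.{u}) (hc : IsCharacteristicTwoType G) {S₀ Y C Xs Qs Us Ul : Subgroup G}
    (D : SpDat (S : Subgroup G) S₀ Y C Xs Qs Us Ul) (hAll : AllIn (S : Subgroup G)) {P : Subgroup G}
    (hP : IsPar (S : Subgroup G) P) : P ≤ Y := by
  by_cases hn : P ≤ normalizer (zc (S : Subgroup G) : Set G)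
  · exact hn.trans (D.norm_zc_le_Y hc)
  by_contra hPY
  have hPS : IsParS (S : Subgroup G) P := ⟨hP, hn⟩
  have hV := hAll P hPS
  rw [D.o2_CZ hc] at hV
  obtain ⟨z, hz, hX, h1⟩ := D.side.exists_z
  rcases hE G hc S P Y S₀ _ _ _ _ _ hPS D.S_Y hPY D.offer D.S₀_S D.S_Ul D.side.S_X
    (fun x hx h1 => D.cen_le_Y hc hx h1) hV with h | h
  · have h2 : zl (S : Subgroup G) P ≤ Ul := (le_inf hV h).trans D.cen
    exact hPY (le_of_pr hz h2 fun g hg => D.pr hc hX h1 (Or.inr hg))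
  · exact hPY (le_of_pr hz h fun g hg => D.pr hc hX h1 (Or.inl hg))

/-- `Full S`: `Y = G`. -/
theorem eq_top_sp (hE : LemE.{u}) (hc : IsCharacteristicTwoType G) {S₀ Y C Xs Qs Us Ul : Subgroup G}
    (D : SpDat (S : Subgroup G) S₀ Y C Xs Qs Us Ul) (hAll : AllIn (S : Subgroup G)) (hF : Full (S : Subgroup G)) :
    Y = ⊤ :=
  eq_top_of_par S hF (D.norm_S_le_Y hc) fun _ hP => par_le_sp hE hc D hAll hP

end Cfsg.Agent.Omega.All.HOne
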