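import Cfsg.Agent.Omega.All.Plug
import Cfsg.Agent.Omega.Node.LeafA4

/-!
# THEOREM ALL for the leaf II.a, `q ≥ 4`

* `inp_of` : `All.Inp` from `Sit`, `SemiOut`, `CenSE`, `TIR`;
* `allP` : `IIa4.AllP`.
-/

set_option autoImplicit false

namespace Cfsg.Agent.Omega.All

open Subgroup Cfsg Cfsg.Agent.ZN Cfsg.Agent.Omega.MinPar Cfsg.Agent.Omega.Frame
open Cfsg.Agent.Omega.NatPair (NatMod cj mem_cj)
open Cfsg.Agent.Omega.BTwo (BT BTC WW QQ pt Pt)
open Cfsg.Agent.Omega.IIa4 (Sit SemiOut CenSE TIR GenVR AllP)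
open Cfsg.Agent.MinSimple.VModule (le_normalizer_zl zc_le zc_le_zl mem_zc o2_le zc_comm)
open Cfsg.Agent.MinSimple.Basic (zc_ne_bot)

universe u

section

variable {G : Type u} [Group G] [Finite G] {S : Sylow 2 G} {P : Subgroup G} {g : G} {F : Type} [Field F]
  [Finite F] [CharP F 2] {M : NatMod F (zl (S : Subgroup G) P)} (h : Sit S P g M)
include h

theorem zc_ne : zc (S : Subgroup G) ≠ ⊥ := by
  have : Fact (Nat.Prime 2) := ⟨Nat.prime_two⟩
  intro h0
  obtain ⟨i, j, hij⟩ := h.exists_pair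
  have hne : zl (S : Subgroup G) P ≠ ⊥ := by
    obtain ⟨a, ha, ha1⟩ := h.bt.exists_ne i
    intro h1
    have h2 := h.bt.R_le i ha
    rw [h1, mem_bot] at h2
    exact ha1 h2
  apply hne
  rw [eq_bot_iff]
  refine MinSimple.VModule.zl_le (T := ⊥) (by rw [h0]) ?_
  intro x _
  rw [mem_normalizer_iff]
  intro y
  rw [mem_bot, mem_bot, mul_inv_eq_one, mul_eq_left]

/-- the point of `V` normalised by `S` -/
theorem exists_pt : ∃ k : Pt M, zc (S : Subgroup G) ≤ pt M k ∧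
    (S : Subgroup G) ≤ normalizer (pt M k : Set G) := by
  obtain ⟨z, hz1⟩ := Subgroup.ne_bot_iff_exists_ne_one.1 (zc_ne h)
  have hzV : (z : G) ∈ zl (S : Subgroup G) P := h.zc_le z.2
  obtain ⟨k, hk⟩ := h.bt.R_cov z hzV
  have hne : (z : G) ≠ 1 := fun h0 => hz1 (Subtype.ext h0)
  have hSk : (S : Subgroup G) ≤ normalizer (pt M k : Set G) := by
    intro s hs
    obtain ⟨j, hj⟩ := h.bt.perm s (h.le_N hs) k
    have hjk : k = j := by
      by_contra hkj
      refine hne (h.bt.eq_one hkj hk ?_)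
      rw [← hj, BTwo.mem_cj]
      have h1 : s * (z : G) = z * s := (mem_zc.1 z.2).2.1 s hs
      have e : s⁻¹ * (z : G) * s = z := by rw [mul_assoc, ← h1, inv_mul_cancel_left]
      rw [e]
      exact hk
    exact NatPair.cj_eq_iff.1 (show NatPair.cj s (pt M k) = pt M k from hj.trans (by rw [← hjk]))
  refine ⟨k, ?_, hSk⟩
  obtain ⟨_, u, hu, rfl⟩ := k
  intro y hy
  apply M.cent_le_of_sylow S h.le_N hu hSk
  exact ⟨mem_centralizer_iff.2 fun s hs => (mem_zc.1 hy).2.1 s hs, h.zc_le hy⟩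

/-- `All.Inp` at the point normalised by `S` -/
theorem inp_of (hs : SemiOut (zl (S : Subgroup G) P) (pt M)) (hc : CenSE (zl (S : Subgroup G) P) (pt M))
    (ht : TIR (pt M)) {k : Pt M} (hZ : zc (S : Subgroup G) ≤ pt M k)
    (hSk : (S : Subgroup G) ≤ normalizer (pt M k : Set G)) :
    Inp (S : Subgroup G) (zl (S : Subgroup G) P) (pt M k) (WW (zl (S : Subgroup G) P) (pt M k)) where
  allIn := h.allIn
  VS := (h.isParS.isLoc.zl_le S h.ctx.char2).trans ((zc_le _).trans (MinPar.le_of_le_normalizer S (MinSimple.VModule.o2_isPGroup _)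
    (h.isParS.le.trans (MinSimple.VModule.le_normalizer_o2 _))))
  SV := h.le_N
  comm := h.bt.V_comm
  RV := h.bt.R_le k
  SR := hSk
  ZR := hZ
  ti := fun g r hr hr1 hg => ht k g r hr hr1 hg
  W_eq := (hs k).2.symm
  W_cen := fun w hw => mem_centralizer_iff.2 fun r hr => (h.bt.QR k w (h.bt.W_le_Q k hw) r hr).symm
  VW := fun x hx => BTwo.cj_le_WW hx
  W_gen := fun X hX => iSup_le fun x => hX x x.2
  WW := fun a ha b hb => h.bt.WW_comm k ha hb
  cenW := (hs k).1.le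
  line := fun u hu hS => hc k S h.le_N hSk u hu fun s hs1 hs2 => hS s hs1 hs2

end

/-- **THEOREM ALL, II.a, `q ≥ 4`** -/
theorem allP : AllP.{u} := by
  intro G _ _ S P g F _ _ _ M h hs hc ht i Y hV hRi
  obtain ⟨k, hZ, hSk⟩ := exists_pt h
  have I := inp_of h hs hc ht hZ hSk
  obtain ⟨w₀, -, hw⟩ := k.2
  have htop := sup_eq_top_of_allFree S h.allFree h.isParS M I h.ctx.char2 (w₀ := w₀) hw (zc_ne h) h.full
  rw [eq_top_iff, ← htop]
  refine sup_le ?_ hV
  obtain ⟨x, hx, hxk⟩ := h.bt.trans_one i k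
  have hxk' : NatPair.cj x (pt M i) = pt M k := hxk
  intro y hy
  have h1 : x⁻¹ * y * x ∈ normalizer (pt M i : Set G) := by
    have h2 : y ∈ normalizer (BTwo.cj x (pt M i) : Set G) := by rw [hxk]; exact hy
    rw [BTwo.normalizer_cj, BTwo.mem_cj] at h2
    exact h2
  have h3 := mul_mem (mul_mem (hV hx) (hRi h1)) (inv_mem (hV hx))
  have e : x * (x⁻¹ * y * x) * x⁻¹ = y := by group
  rwa [e] at h3

end Cfsg.Agent.Omega.All
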