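import Cfsg.Agent.Omega.FrameFF
import Cfsg.Agent.Omega.NatPair.Bridge

/-!
# Mutual pairs of a natural module of `G` and a natural module of a parabolic (THEOREM ALL (b), #13114)

`A` is a natural module for a normal `SL₂(F)` of `N_G(A)/C_G(A)` (`NatMod F A`), `B` is the natural module for a
normal `SL₂(F')` of the group induced by `P` only (`NatOver F' P B ⊥`), `A`, `B ≤ P` normalise each other and do
not commute.  Then `|F| = |F'|`, `A ∩ B = [A, B]` is a line of both and a 2-element of `P` which centralises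
`A ∩ B` centralises `B / (A ∩ B)`.
-/

set_option autoImplicit false

namespace Cfsg.Agent.Omega.All

open Subgroup Cfsg Cfsg.Agent.Omega.NatPair
open Cfsg.Agent.Omega.FrameFF (NatOver)

/-! ### `NatOver` as a natural module of the group `N` -/

section overN

variable {G : Type*} [Group G] {F : Type} [Field F] {N V : Subgroup G}

theorem mem_normalizer_subgroupOf (hN : N ≤ normalizer (V : Set G)) (n : N) :
    n ∈ normalizer ((V.subgroupOf N : Subgroup N) : Set N) := by
  rw [mem_normalizer_iff]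
  intro v
  have h := mem_normalizer_iff.1 (hN n.2) (v : G)
  exact h

/-- `NatOver F N V ⊥` as a natural module in the group `N` -/
noncomputable def natOf (h : NatOver F N V ⊥) (hVN : V ≤ N) (hN : N ≤ normalizer (V : Set G)) :
    NatMod F (V.subgroupOf N) :=
  NatMod.ofMap (V := V.subgroupOf N) (fun v => h.e ((v : N) : G))
    (fun v w => h.mul _ (mem_subgroupOf.1 v.2) _ (mem_subgroupOf.1 w.2))
    (by
      constructor
      · intro v w hvw
        have hv := mem_subgroupOf.1 v.2
        have hw := mem_subgroupOf.1 w.2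
        have h1 : h.e (((v : N) : G) * (((w : N) : G))⁻¹) = 0 := by
          have h2 := h.mul (((v : N) : G) * (((w : N) : G))⁻¹) (mul_mem hv (inv_mem hw)) _ hw
          rw [inv_mul_cancel_right] at h2
          have h3 : h.e ((v : N) : G) = h.e ((w : N) : G) := hvw
          rw [h3] at h2
          exact right_eq_add.1 h2
        have h4 := (h.ker _ (mul_mem hv (inv_mem hw))).1 h1
        rw [mem_bot, mul_inv_eq_one] at h4
        exact Subtype.ext (Subtype.ext h4)
      · intro x
        obtain ⟨v, hv, hx⟩ := h.surj x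
        exact ⟨⟨⟨v, hVN hv⟩, mem_subgroupOf.2 hv⟩, hx⟩)
    (by
      intro A
      obtain ⟨g, hg, h1, -⟩ := h.lift A
      exact ⟨⟨g, hg⟩, mem_normalizer_subgroupOf hN _, fun v => h1 _ (mem_subgroupOf.1 v.2)⟩)
    (by
      intro g _ k _ A hA
      obtain ⟨B, hB⟩ := h.norm g g.2 k k.2 A fun v hv => hA ⟨⟨v, hVN hv⟩, mem_subgroupOf.2 hv⟩
      exact ⟨B, fun _ v => hB _ (mem_subgroupOf.1 v.2)⟩)

theorem centralizer_subgroupOf {P X : Subgroup G} (hX : X ≤ P) :
    centralizer ((X.subgroupOf P : Subgroup P) : Set P) = (centralizer (X : Set G)).subgroupOf P := by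
  ext p
  rw [mem_subgroupOf, mem_centralizer_iff, mem_centralizer_iff]
  constructor
  · intro h x hx
    exact congrArg Subtype.val (h ⟨x, hX hx⟩ (mem_subgroupOf.2 hx))
  · intro h x hx
    exact Subtype.ext (h _ (mem_subgroupOf.1 hx))

theorem relIndex_cent {P X Y : Subgroup G} (hX : X ≤ P) (hY : Y ≤ P) :
    (centralizer ((X.subgroupOf P : Subgroup P) : Set P)).relIndex (Y.subgroupOf P) =
      (centralizer (X : Set G)).relIndex Y := by
  rw [centralizer_subgroupOf hX, relIndex_subgroupOf hY]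

end overN

/-! ### 2-elements which centralise a line -/

section line

variable {G : Type*} [Group G] {F : Type*} [Field F] {V : Subgroup G} (M : NatMod F V)

include M in
/-- a 2-element of `N_G(V)` which centralises the line of `w` centralises `V` modulo this line -/
theorem comm_mem_line [Finite F] [CharP F 2] {g : G} (hg : g ∈ normalizer (V : Set G)) {k : ℕ}
    (hk : g ^ 2 ^ k = 1) {w : Fin 2 → F} (hw : w ≠ 0) (hfix : ∀ r ∈ M.line w, g * r = r * g) :
    ∀ v ∈ V, g * v * g⁻¹ * v⁻¹ ∈ M.line w := by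
  obtain ⟨s, hs⟩ := M.exists_semi hg
  have hline : ∀ c : F, M.act g (c • w) = c • w := fun c =>
    (M.commute_e hg).1 (hfix _ (M.e_mem_line.2 ⟨c, rfl⟩))
  have hfw : M.act g w = w := by
    have := hline 1
    rwa [one_smul] at this
  have hlin : ∀ (c : F) x, M.act g (c • x) = c • M.act g x := by
    intro c x
    have h1 : s c = c := by
      have h2 := hline c
      rw [hs, hfw] at h2
      exact smul_left_injective F hw h2
    rw [hs, h1]
  obtain ⟨u, hu⟩ : ∃ u, dt w u ≠ 0 := by
    by_contra hcon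
    push Not at hcon
    apply hw
    have h0 := hcon ![0, 1]
    have h1 := hcon ![1, 0]
    unfold dt at h0 h1
    simp at h0 h1
    exact ext2 (by simpa using h0) (by simpa using h1)
  obtain ⟨α, β, hαβ⟩ := exists_comb hu (M.act g u)
  have hdet : ∀ x, dt w (M.act g x) = β * dt w x := by
    intro x
    obtain ⟨a, b, rfl⟩ := exists_comb hu x
    rw [M.act_add hg, hlin, hlin, hfw, hαβ]
    simp only [dt_add, dt_smul]
    have h0 : dt w w = 0 := by unfold dt; ring
    rw [h0]
    ring
  have hpow : ∀ n : ℕ, ∀ x, dt w (M.act (g ^ n) x) = β ^ n * dt w x := by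
    intro n
    induction n with
    | zero => intro x; rw [pow_zero, pow_zero, M.act_one, one_mul]
    | succ n ih =>
      intro x
      rw [pow_succ', M.act_mul hg (pow_mem hg n), hdet, ih, pow_succ', mul_assoc]
  have hβ : β = 1 := by
    apply eq_one_of_pow (k := k)
    have h1 := hpow (2 ^ k) u
    rw [hk, M.act_one] at h1
    exact mul_right_cancel₀ hu (by rw [one_mul]; exact h1.symm)
  intro v hv
  obtain ⟨x, rfl⟩ := (M.mem_iff v).1 hv
  rw [← M.e_act hg, ← M.e_sub, M.e_mem_line]
  apply exists_smul_of_dt hw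
  have h1 := hdet x
  rw [hβ, one_mul] at h1
  have h2 : dt w (M.act g x) = dt w (M.act g x - x) + dt w x := by
    rw [← dt_add, sub_add_cancel]
  rw [h1] at h2
  exact right_eq_add.1 h2

end line

/-! ### The mixed pair -/

section mixed

variable {G : Type*} [Group G] [Finite G] {F F' : Type*} [Field F] [Field F'] [Finite F] [Finite F']
  [CharP F 2] [CharP F' 2] {A B P : Subgroup G}

/-- the mixed pair, with the second module given in the group `P` -/
theorem mixed (M : NatMod F A) (N : NatMod F' (B.subgroupOf P)) (hBP : B ≤ P) (hAP : A ≤ P)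
    (hPB : P ≤ normalizer (B : Set G)) (h : NatPair.Mutual A B) :
    Nat.card F = Nat.card F' ∧ ∃ w w', M.Quad B w ∧ N.Quad (A.subgroupOf P) w' ∧ A ⊓ B = M.line w ∧
      ∀ r, r ∈ A ⊓ B ↔ ∃ r' ∈ N.line w', (r' : G) = r := by
  -- `B` is commutative
  have hBc : ∀ b ∈ B, ∀ c ∈ B, b * c = c * b := fun b hb c hc =>
    congrArg Subtype.val (N.comm (v := ⟨b, hBP hb⟩) (w := ⟨c, hBP hc⟩) (mem_subgroupOf.2 hb)
      (mem_subgroupOf.2 hc))
  have hne' := h.ne_of
  have hne := h.symm.ne_of
  -- the two applications of the offender lemma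
  have hM : (centralizer (B : Set G)).relIndex A ≤ (centralizer (A : Set G)).relIndex B → ∃ w, M.Quad B w :=
    fun hoff => M.quad_ff h.le hne' (fun a ha b hb v hv => hBc b hb _ (mem_inf.1 (h.comm_mem ha hv)).2) hoff
  have hN : (centralizer (A : Set G)).relIndex B ≤ (centralizer (B : Set G)).relIndex A →
      ∃ w, N.Quad (A.subgroupOf P) w := by
    intro hoff
    refine N.quad_ff (fun a _ => mem_normalizer_subgroupOf hPB a) ?_ ?_ ?_
    · obtain ⟨a, ha, v, hv, hav⟩ := hne
      exact ⟨⟨a, hAP ha⟩, mem_subgroupOf.2 ha, ⟨v, hBP hv⟩, mem_subgroupOf.2 hv,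
        fun he => hav (congrArg Subtype.val he)⟩
    · intro a ha b hb v hv
      exact Subtype.ext (M.comm (mem_subgroupOf.1 hb)
        (mem_inf.1 (h.symm.comm_mem (mem_subgroupOf.1 ha) (mem_subgroupOf.1 hv))).2)
    · rw [relIndex_cent hAP hBP, relIndex_cent hBP hAP]
      exact hoff
  have key : ∃ w w', M.Quad B w ∧ N.Quad (A.subgroupOf P) w' := by
    rcases le_total ((centralizer (B : Set G)).relIndex A) ((centralizer (A : Set G)).relIndex B) with hle | hle
    · obtain ⟨w, hw⟩ := hM hle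
      obtain ⟨w', hw'⟩ := hN (by rw [hw.card, hw.index])
      exact ⟨w, w', hw, hw'⟩
    · obtain ⟨w', hw'⟩ := hN hle
      have h1 := hw'.card
      have h2 := hw'.index
      rw [relIndex_cent hBP hAP] at h1
      rw [relIndex_cent hAP hBP] at h2
      obtain ⟨w, hw⟩ := hM (by rw [h1, h2])
      exact ⟨w, w', hw, hw'⟩
  obtain ⟨w, w', hw, hw'⟩ := key
  refine ⟨?_, w, w', hw, hw', ?_, ?_⟩
  · have h1 := hw'.index
    rw [relIndex_cent hAP hBP, hw.card] at h1
    exact h1
  · apply le_antisymm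
    · rw [← hw.cent]
      intro g hg
      rw [mem_inf] at hg ⊢
      exact ⟨mem_centralizer_iff.2 fun v hv => hBc v hv g hg.2, hg.1⟩
    · intro r hr
      obtain ⟨a, ha, v, hv, rfl⟩ := hw.comm' r hr
      exact h.comm_mem ha hv
  · intro r
    constructor
    · intro hr
      have hrP : r ∈ P := hAP (mem_inf.1 hr).1
      refine ⟨⟨r, hrP⟩, ?_, rfl⟩
      rw [← hw'.cent, mem_inf]
      refine ⟨mem_centralizer_iff.2 fun v hv => Subtype.ext ?_, mem_subgroupOf.2 (mem_inf.1 hr).2⟩
      exact M.comm (mem_subgroupOf.1 hv) (mem_inf.1 hr).1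
    · rintro ⟨r', hr', rfl⟩
      obtain ⟨a, ha, v, hv, rfl⟩ := hw'.comm' r' hr'
      have h1 := h.symm.comm_mem (mem_subgroupOf.1 ha) (mem_subgroupOf.1 hv)
      rw [inf_comm] at h1
      exact h1

/-- **the mixed pair** -/
theorem mixed_pair {F' : Type} [Field F'] [Finite F'] [CharP F' 2] (S : Sylow 2 G) (M : NatMod F A)
    (N : NatOver F' P B ⊥) (hSP : (S : Subgroup G) ≤ P) (hPB : P ≤ normalizer (B : Set G)) (hBP : B ≤ P)
    (hAP : A ≤ P) (h : NatPair.Mutual A B) :
    Nat.card F = Nat.card F' ∧ Nat.card B = Nat.card A ∧ (∃ w, w ≠ 0 ∧ A ⊓ B = M.line w) ∧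
      ∀ s ∈ (S : Subgroup G), (∀ r ∈ A ⊓ B, s * r = r * s) → ∀ x ∈ B, s * x * s⁻¹ * x⁻¹ ∈ A ⊓ B := by
  let N' := natOf N hBP hPB
  obtain ⟨hF, w, w', hw, hw', hl, hl'⟩ := mixed M N' hBP hAP hPB h
  refine ⟨hF, ?_, ⟨w, hw.ne, hl⟩, ?_⟩
  · have h1 := M.card_V
    have h2 := N'.card_V
    have h3 : Nat.card (B.subgroupOf P) = Nat.card B :=
      Nat.card_congr (subgroupOfEquivOfLe hBP).toEquiv
    rw [h3, ← hF] at h2
    rw [h1, h2]
  · intro s hs hr x hx
    obtain ⟨k, hk⟩ := S.isPGroup' ⟨s, hs⟩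
    have hsk' : s ^ 2 ^ k = 1 := by
      have h0 := congrArg (fun t : S => (t : G)) hk
      simpa using h0
    have hsk : (⟨s, hSP hs⟩ : P) ^ 2 ^ k = 1 := Subtype.ext hsk'
    have h1 := comm_mem_line N' (mem_normalizer_subgroupOf hPB ⟨s, hSP hs⟩) hsk hw'.ne (by
      intro r hr'
      exact Subtype.ext (hr _ ((hl' _).2 ⟨r, hr', rfl⟩))) ⟨x, hBP hx⟩ (mem_subgroupOf.2 hx)
    exact (hl' _).2 ⟨_, h1, rfl⟩

end mixed

end Cfsg.Agent.Omega.All
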