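import Cfsg.Agent.Omega.All.Mixed
import Cfsg.Agent.Omega.All.Main

/-!
# THEOREM ALL in case II.a

* `mix_of` : the mixed pair lemma gives `Mix`;
* `hmix_of` : `AllFree S`, `V = V_{P₁}` : the hypothesis `hmix` of `par_le`;
* `sup_eq_top_of_allFree`, `par_le_of_allFree` : the output for `FrameFF.LeafA4`.
-/

set_option autoImplicit false

namespace Cfsg.Agent.Omega.All

open Subgroup Pointwise Cfsg Cfsg.Agent.ZN Cfsg.Agent.Omega.MinPar Cfsg.Agent.Omega.Frame
open Cfsg.Agent.Omega.FrameFF (NatOver AllFree AllSingle Single Free)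
open Cfsg.Agent.Omega.NatPair (NatMod cj mem_cj)
open Cfsg.Agent.MinSimple.VModule (le_normalizer_zl zl_le zc_le o2_le)
open scoped commutatorElement

universe u

section mix

variable {G : Type*} [Group G] [Finite G] {F F' : Type*} [Field F] [Field F'] [Finite F] [Finite F']
  [CharP F 2] [CharP F' 2] {A B P : Subgroup G}

/-- the mixed pair lemma gives `Mix` -/
theorem mix_of {F' : Type} [Field F'] [Finite F'] [CharP F' 2] (S : Sylow 2 G) (M : NatMod F A)
    (N : NatOver F' P B ⊥) (hSP : (S : Subgroup G) ≤ P) (hPB : P ≤ normalizer (B : Set G)) (hBP : B ≤ P)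
    (hAP : A ≤ P) (h : NatPair.Mutual A B) : Mix (S : Subgroup G) B M := by
  obtain ⟨-, w, w', hw, -, hl, -⟩ := mixed M (natOf N hBP hPB) hBP hAP hPB h
  obtain ⟨-, hcard, -, hS⟩ := mixed_pair S M N hSP hPB hBP hAP h
  refine ⟨w, hw.ne, hl, ?_, hcard, hS⟩
  intro r hr
  obtain ⟨b, hb, a, ha, hr'⟩ := hw.comm' r (hl ▸ hr)
  refine ⟨a, ha, b, hb, ?_⟩
  have h1 : r⁻¹ = r := by
    have h2 := M.sq hr.1
    rw [inv_eq_iff_mul_eq_one]
    exact h2
  rw [← h1, ← hr']
  group

end mix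

section plug

variable {G : Type u} [Group G]

/-- a mutual pair of subgroups is a mutual pair in the sense of `Omega.VP` -/
theorem mutual_of {S P₁ P₂ : Subgroup G} {h : G} (h₁ : IsParS S P₁) (h₂ : IsParS S P₂)
    (hm : NatPair.Mutual (cj h (zl S P₁)) (zl S P₂)) : Mutual S P₂ P₁ h where
  star₁ := h₂
  star₂ := h₁
  le₁ := hm.le
  le₂ := hm.le'
  ne := by
    intro h0
    obtain ⟨v, hv, w, hw, hvw⟩ := hm.ne
    apply hvw
    have h1 : ⁅w, v⁆ ∈ ⁅zl S P₂, MulAut.conj h • zl S P₁⁆ := commutator_mem_commutator hw hv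
    rw [h0, mem_bot, commutatorElement_eq_one_iff_mul_comm] at h1
    exact h1.symm

variable [Finite G]

/-- `AllFree S`, `V = V_{P₁}` a natural module: the hypothesis `hmix` of `par_le` -/
theorem hmix_of {F : Type*} [Field F] [Finite F] [CharP F 2] (S : Sylow 2 G) (hA : AllFree (S : Subgroup G))
    {P₁ : Subgroup G} (h₁ : IsParS (S : Subgroup G) P₁) (M : NatMod F (zl (S : Subgroup G) P₁)) (R : Subgroup G) :
    ∀ P : Subgroup G, IsParS (S : Subgroup G) P → ∀ h ∈ normalizer (R : Set G),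
      cj h (zl (S : Subgroup G) P₁) ≤ (S : Subgroup G) →
      NatPair.Mutual (cj h (zl (S : Subgroup G) P₁)) (zl (S : Subgroup G) P) →
      Mix (S : Subgroup G) (zl (S : Subgroup G) P) (M.conj h) := by
  intro P hP h _ hle hm
  have hmut := mutual_of h₁ hP hm
  obtain ⟨F', _, _, _, ⟨N⟩⟩ := (hA.1 _ _ _ hmut).1
  have hfree : FrameFF.cv (S : Subgroup G) P = ⊥ := (hA.2 _ _ _ hmut).1
  rw [hfree] at N
  exact mix_of S (M.conj h) N hP.le (le_normalizer_zl _ _) (zl_le ((zc_le _).trans hP.le) le_normalizer)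
    (hle.trans hP.le) hm

variable {F : Type*} [Field F] [Finite F] [CharP F 2] (S : Sylow 2 G) {R W P₁ : Subgroup G}
  (hA : AllFree (S : Subgroup G)) (h₁ : IsParS (S : Subgroup G) P₁) (M : NatMod F (zl (S : Subgroup G) P₁))
  (I : Inp (S : Subgroup G) (zl (S : Subgroup G) P₁) R W) (hG : IsCharacteristicTwoType G)
  {w₀ : Fin 2 → F} (hR : R = M.line w₀) (hZ : zc (S : Subgroup G) ≠ ⊥)

include hA h₁ I hG hR hZ

/-- **THEOREM ALL in case II.a**: every `P ∈ P(S)` lies in `N_G(R)` or in `N_G(V)`. -/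
theorem par_le_of_allFree {P : Subgroup G} (hP : IsPar (S : Subgroup G) P) :
    P ≤ normalizer (R : Set G) ∨ P ≤ normalizer (zl (S : Subgroup G) P₁ : Set G) :=
  par_le S I hG M hR hZ (hmix_of S hA h₁ M R) hP

/-- **THEOREM ALL in case II.a**: `G = ⟨N_G(R), N_G(V)⟩`. -/
theorem sup_eq_top_of_allFree (hF : Full (S : Subgroup G)) :
    normalizer (R : Set G) ⊔ normalizer (zl (S : Subgroup G) P₁ : Set G) = ⊤ :=
  sup_eq_top S I hG M hR hZ (hmix_of S hA h₁ M R) hF

end plug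

end Cfsg.Agent.Omega.All
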